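import Cfsg.Agent.Lib.CIT.Local

/-!
# The amalgam of two parabolic subgroups of a (CIT)-group
-/

set_option autoImplicit false

namespace CfsgLib.Cit

open Subgroup Cfsg CfsgLib.FT.BGN CfsgLib.FT.U4

universe u

variable {G : Type*} [Group G]

attribute [local instance] factTwo

/-- One half of the amalgam: `N(P) / P` looks like `SL₂(q)` acting on its natural module `P`. -/
structure Half (P L : Subgroup G) (q : ℕ) : Prop extends Par P where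
  two_le : 2 ≤ q
  sq : ∀ x ∈ P, x * x = 1
  syl : Syl (P ⊔ L) P
  card : Nat.card P = q ^ 2
  cardZ : Nat.card ↥(P ⊓ L) = q
  idx : P.relIndex (P ⊔ L) = q
  cent : ∀ t ∈ P ⊔ L, t ∉ P → P ⊓ 𝐂[t] = P ⊓ L
  three : ∃ y ∈ 𝐍(P), y ^ 3 = 1 ∧ y •ᶜ (P ⊔ L) ≠ P ⊔ L

/-- The amalgam. -/
structure Amal (P L : Subgroup G) (q : ℕ) : Prop where
  l : Half P L q
  r : Half L P q

theorem Amal.symm {P L : Subgroup G} {q : ℕ} (h : Amal P L q) : Amal L P q := ⟨h.r, h.l⟩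

variable [Finite G] {D E T A : Subgroup G} {q : ℕ}

theorem CIT.exists_odd (hG : CIT G) (h : Par D) (hT : Syl T D) {x : G} (h1 : x ∈ T) (h2 : x ∉ D)
    (h3 : x * x ∈ D) : ∃ g ∈ 𝐍(D), Odd (orderOf (x * (g * x * g⁻¹))) ∧ x * (g * x * g⁻¹) ≠ 1 := by
  obtain ⟨g, hg, hne⟩ := h.exists_cj_ne hT
  refine ⟨g, hg, hG.odd_mul h.p2 h.ti hT (hT.cj hg) hne.symm h1 h2 h3 (cj_mem h1)
    (fun e => h2 (by simpa [mul_assoc] using cmem (inv_mem hg) e)) ?_⟩
  have := cmem hg h3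
  convert this using 1
  group

theorem CIT.omZ_eq (hG : CIT G) (hD : Par D) (hE : Par E) (hne : D ≠ E) (hT : Syl T D)
    (hT' : Syl T E) (h : LA D T A q) : OmZ D = D := by
  have hDT := hD.le_syl hT
  have hET := hE.le_syl hT'
  have h1 : ¬ OmZ E ≤ D := by
    intro hc
    have h2 : OmZ E ≤ OmZ D := fun v hv => h.inv v (hc hv) hv.2.2
    have h3 := hG.cent_OmZ_le hE.toLoc hE.ne_bot
    have h4 : D ≤ E := (le_inf (hDT.trans hT'.le)
      ((le_cent_OmZ D).trans (centralizer_le h2))).trans h3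
    by_cases h5 : OmZ E ≤ 𝐂(T)
    · exact hE.not_le hT' ((le_inf hT'.le (le_centralizer_iff.mp h5)).trans h3)
    obtain ⟨v, hv, h6⟩ := SetLike.not_le_iff_exists.mp h5
    refine hne (le_antisymm h4 fun t ht => by_contra fun h7 => h6 ?_)
    exact ((h.cent t (hET ht) h7).le ⟨h2 hv, cent_le_cent1 ht hv.2.1⟩).2
  obtain ⟨v, hv, h2⟩ := SetLike.not_le_iff_exists.mp h1
  have hvT := hET hv.1
  obtain ⟨g, hg, ho, h3⟩ := hG.exists_odd hD hT hvT h2 (hv.2.2 ▸ D.one_mem)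
  have hnV := norm_le_norm_OmZ D
  have h4 : ∀ d ∈ D, d * v * d⁻¹ * v⁻¹ ∈ OmZ D := fun d hd => by
    have h5 : d * v * d⁻¹ * v⁻¹ ∈ OmZ E :=
      mul_mem (cmem (norm_le_norm_OmZ E (hT'.le (hDT hd))) hv) (inv_mem hv)
    refine h.inv _ ?_ h5.2.2
    have := D.mul_mem hd (cmem (hT.le hvT) (D.inv_mem hd))
    convert this using 1
    group
  have h5 : ∀ d ∈ D, d * (g * v * g⁻¹) * d⁻¹ * (g * v * g⁻¹)⁻¹ ∈ OmZ D := fun d hd => by
    have := cmem (hnV hg) (h4 _ (cmem (inv_mem hg) hd))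
    convert this using 1
    group
  refine le_antisymm (OmZ_le D) fun e he => ?_
  obtain ⟨d, hd, e1⟩ := exists_conj_eq_mul (mul_mem (hT.le hvT)
    (cmem (le_normalizer hg) (hT.le hvT))) (hG.fpf hD.p2 ho h3) he
  have := mul_mem (h4 d hd) (cmem (hnV (hT.le hvT)) (h5 d hd))
  convert this using 1
  generalize g * v * g⁻¹ = r at e1
  rw [← mul_inv_eq_iff_eq_mul] at e1
  rw [← e1]
  group

omit [Finite G] in
theorem MaxEA.of_card (h : MaxEA T A) {B : Subgroup G} (h1 : B ≤ T) (h2 : ∀ b ∈ B, b * b = 1)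
    (h3 : Nat.card B = Nat.card A) : MaxEA T B :=
  ⟨h1, h2, fun C h4 h5 => h3 ▸ h.max C h4 h5⟩

theorem LA.half (hD : Par D) (hE : Par E) (hne : D ≠ E) (hT : Syl T D) (hT' : Syl T E)
    (h : LA D T A q) (h1 : OmZ D = D) (h2 : OmZ E = E) (h3 : Nat.card E = q ^ 2) : Half D E q := by
  have hDT := hD.le_syl hT
  have hET := hE.le_syl hT'
  have c1 := h.cardV
  have c2 := h.cardZ
  have c3 := h.cent
  rw [h1] at c1 c2 c3
  have hq := h.two_le
  obtain ⟨v, hv, hvD⟩ := SetLike.not_le_iff_exists.mp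
    (fun e => hne (eq_of_le_of_card_le e (c1.trans h3.symm).le).symm)
  have hEsq : ∀ x ∈ E, x * x = 1 := h2 ▸ OmZ_sq E
  have i1 : D ⊓ E ≤ D ⊓ 𝐂(T) := (c3 v (hET hv) hvD) ▸ inf_le_inf_left D
    ((le_cent_of_sq hEsq).trans (cent_le_cent1 hv))
  have i2 := card_le_of_le i1
  have i3 := card_sup_mul_card_inf (hDT.trans hT'.le)
  have i4 := card_mul_relIndex hDT
  have i5 := card_le_of_le (sup_le hDT hET)
  rw [c2] at i2
  rw [c1, h3] at i3
  rw [c1, h.idx] at i4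
  have hq0 : 0 < q := by omega
  have i6 : q ≤ Nat.card ↥(D ⊓ E) := by
    refine Nat.le_of_mul_le_mul_left (c := q ^ 3) ?_ (by positivity)
    calc q ^ 3 * q = q ^ 2 * q ^ 2 := by ring
      _ ≤ Nat.card T * Nat.card ↥(D ⊓ E) := i3 ▸ Nat.mul_le_mul_right _ i5
      _ = _ := by rw [← i4]; ring
  have e1 : D ⊔ E = T := by
    refine eq_of_le_of_card_le (sup_le hDT hET) (Nat.le_of_mul_le_mul_right (c := q) ?_ hq0)
    calc Nat.card T * q = q ^ 2 * q ^ 2 := by rw [← i4]; ring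
      _ ≤ _ := i3 ▸ Nat.mul_le_mul_left _ i2
  have e2 := eq_of_le_of_card_le i1 (c2.le.trans i6)
  exact ⟨hD, hq, h1 ▸ OmZ_sq D, e1 ▸ hT, c1, e2 ▸ c2, e1 ▸ h.idx, by rw [e1, e2]; exact c3,
    e1 ▸ h.three⟩

theorem CIT.amal_of_offender (hG : CIT G) (hD : Par D) (hE : Par E) (hne : D ≠ E) (hT : Syl T D)
    (hT' : Syl T E) (hA : MaxEA T A) (h : ¬ A ≤ D) : ∃ q, Amal D E q := by
  obtain ⟨q, h1⟩ := hG.la hD hT hA h
  have h2 := hG.omZ_eq hD hE hne hT hT' h1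
  have c1 : Nat.card D = q ^ 2 := h2 ▸ h1.cardV
  obtain ⟨B, hB, h3, h4⟩ : ∃ B, MaxEA T B ∧ ¬ B ≤ E ∧ Nat.card B = q ^ 2 := by
    by_cases h5 : A ≤ E
    · exact ⟨D, hA.of_card (hD.le_syl hT) (h2 ▸ OmZ_sq D) (c1.trans h1.cardA.symm),
        fun e => hE.not_le hT' (h1.sup ▸ sup_le h5 e), c1⟩
    · exact ⟨A, hA, h5, h1.cardA⟩
  obtain ⟨r, h5⟩ := hG.la hE hT' hB h3
  obtain rfl : r = q := Nat.pow_left_injective two_ne_zero (h5.cardA.symm.trans h4)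
  have h6 := hG.omZ_eq hE hD hne.symm hT' hT h5
  exact ⟨r, h1.half hD hE hne hT hT' h2 h6 (h6 ▸ h5.cardV), h5.half hE hD hne.symm hT' hT h6 h2 c1⟩

/-- The induction hypothesis in local form. -/
def AllTIm (G : Type*) [Group G] : Prop := ∀ D : Subgroup G, Loc D → D ≠ ⊥ → TIm D

theorem Par.norm_le (ih : AllTIm G) (h : Par D) {Y : Subgroup G} (hY : IsPGroup 2 Y) (h0 : Y ≠ ⊥)
    (hn : 𝐍(D) ≤ 𝐍(Y)) : 𝐍(Y) ≤ 𝐍(D) := by
  obtain ⟨E, hE, h1, h2⟩ := exists_loc hY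
  have h3 := h.le_of_norm hE.p2 (hn.trans h2)
  suffices E = D from this ▸ h2
  by_contra hc
  obtain ⟨x, hx, hxE⟩ := SetLike.exists_of_lt (lt_of_le_of_ne h3 hc)
  obtain ⟨T, hT⟩ := IsSylowIn.exists_in (p := 2) 𝐍(D)
  obtain ⟨g, hg, hne⟩ := h.exists_cj_ne hT
  have hT' := Syl.cj hT hg
  obtain ⟨S, h4, hS⟩ := IsSylowIn.exists_ge hT.isPGroup (hT.le.trans (hn.trans h2))
  have h5 := (ih E hE (fun e => h0 (le_bot_iff.mp (e ▸ h1)))).le hS hT'.isPGroup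
    (hT'.le.trans (hn.trans h2)) (h.le_syl hT' hx) (h4 (h.le_syl hT hx)) hxE
  have h6 := hS.isPGroup.to_le (inf_le_left : S ⊓ 𝐍(D) ≤ S)
  exact hne ((hT'.eq_of_le h6 (le_inf h5 hT'.le) inf_le_right).symm.trans
    (hT.eq_of_le h6 (le_inf h4 hT.le) inf_le_right))

theorem CIT.amal_of_pair (hG : CIT G) (ih : AllTIm G) (hD : Par D) (hE : Par E) (hne : D ≠ E)
    (hT : Syl T D) (hT' : Syl T E) : ∃ P L q, Amal (G := G) P L q := by
  by_cases h1 : ∃ A, MaxEA T A ∧ ¬ A ≤ D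
  · obtain ⟨A, hA, h⟩ := h1
    obtain ⟨q, hq⟩ := hG.amal_of_offender hD hE hne hT hT' hA h
    exact ⟨_, _, q, hq⟩
  by_cases h2 : ∃ A, MaxEA T A ∧ ¬ A ≤ E
  · obtain ⟨A, hA, h⟩ := h2
    obtain ⟨q, hq⟩ := hG.amal_of_offender hE hD hne.symm hT' hT hA h
    exact ⟨_, _, q, hq⟩
  exfalso
  push Not at h1 h2
  have hn : ∀ {D : Subgroup G}, D ≤ T → (∀ A, MaxEA T A → A ≤ D) →
      𝐍(D) ≤ 𝐍(sSup {A | MaxEA T A}) := by
    intro D h3 h4 g hg
    refine mem_normalizer_of_conj_mem fun x hx => ?_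
    refine (show g •ᶜ sSup {A | MaxEA T A} ≤ _ from ?_) (cj_mem hx)
    rw [conj_le_iff, sSup_le_iff]
    intro A hA
    exact conj_le_iff.mp (le_sSup (hA.of_card (((map_mono (h4 A hA)).trans (cj_eq hg).le).trans h3)
      (sq_cj hA.sq g) (card_map_conj g A)))
  have hJ : sSup {A | MaxEA T A} ≤ T := sSup_le fun A hA => hA.le
  have hJ0 : sSup {A | MaxEA T A} ≠ ⊥ := by
    obtain ⟨A, hA⟩ := exists_maxEA T
    obtain ⟨z, hz, h3, h4⟩ := exists_inv_mem hD.p2 hD.ne_bot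
    have h5 := hA.max _ (zpowers_le.mpr (hD.le_syl hT hz)) (sq_zpowers h4)
    intro e
    have h6 : A = ⊥ := le_bot_iff.mp ((le_sSup (s := {A | MaxEA T A}) hA).trans e.le)
    rw [h6, card_bot, card_le_one_iff_eq_bot, zpowers_eq_bot] at h5
    exact h3 h5
  have n1 := hn (hD.le_syl hT) h1
  have n2 := hn (hE.le_syl hT') h2
  have hp := hT.isPGroup.to_le hJ
  exact hne (le_antisymm (hE.le_of_norm hD.p2 (n2.trans (hD.norm_le ih hp hJ0 n1)))
    (hD.le_of_norm hE.p2 (n1.trans (hE.norm_le ih hp hJ0 n2))))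

omit [Finite G] in
theorem Par.cj (h : Par D) (g : G) : Par (g •ᶜ D) := by
  have hs : ∀ {T : Subgroup G}, Syl T (g •ᶜ D) → Syl (g⁻¹ •ᶜ T) D := fun hT => by
    have := hT.map_conj g⁻¹
    rwa [norm_cj, map_conj_inv_map_conj] at this
  refine ⟨⟨pg_cj h.p2 g, fun Y h1 h2 h3 => le_conj_iff.mpr (h.core _ (pg_cj h1 _) ?_ ?_)⟩,
    fun T T' hT hT' x h1 h2 h3 => conj_inj.mp (h.ti _ _ (hs hT) (hs hT') _ (cj_mem h1) (cj_mem h2)
      fun e => h3 (mem_cj.mpr (by simpa using e))), fun e => h.ne_bot (conj_eq_bot_iff.mp e),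
    fun e => h.nsyl (by simpa only [map_conj_inv_map_conj] using hs e)⟩
  · rwa [← le_conj_iff, ← norm_cj]
  · rw [norm_cj, le_conj_iff, inv_inv, ← norm_cj]; exact h3

theorem syl_top_of_syl_self (h : Syl D D) : IsSylowIn 2 D ⊤ :=
  IsSylowIn.of_maximal le_top h.isPGroup fun T h1 h2 _ => by_contra fun h3 =>
    (lt_inf_normalizer_of_isPGroup h1 (lt_of_le_of_ne h2 fun e => h3 e.ge)).ne'
      (h.eq_of_le (h1.to_le inf_le_left) (le_inf h2 le_normalizer) inf_le_right)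

theorem Syl.le_of_self (h : Syl D D) {Y : Subgroup G} (h1 : IsPGroup 2 Y) (h2 : Y ≤ 𝐍(D)) :
    Y ≤ D := le_sup_left.trans
  (h.eq_of_le (H1.isPGroup_sup_of_le_normalizer h1 h.isPGroup h2) le_sup_right
    (sup_le h2 le_normalizer)).le

omit [Finite G] in
theorem norm_bot : 𝐍((⊥ : Subgroup G)) = ⊤ := normalizer_eq_top ⊥

theorem exists_par (ih : AllTIm G) (h : ¬ TIm (⊥ : Subgroup G)) : ∃ D : Subgroup G, Par D := by
  by_contra! hc
  have key : ∀ Y : Subgroup G, Y ≠ ⊥ → ∀ S S', IsSylowIn 2 S ⊤ → IsSylowIn 2 S' ⊤ → Y ≤ S →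
      Y ≤ S' → S = S' := by
    intro Y
    induction Y using WellFoundedGT.induction with
    | ind Y H =>
    intro h0 S S' hS hS' h1 h2
    obtain ⟨D, hD, h3, h4⟩ := exists_loc (hS.isPGroup.to_le h1)
    have h5 : D ≠ ⊥ := fun e => h0 (le_bot_iff.mp (e ▸ h3))
    have h6 : Syl D D := by_contra fun e => hc D ⟨hD, ih D hD h5, h5, e⟩
    have h7 : ∀ S, IsSylowIn 2 S ⊤ → Y ≤ S → S = D := by
      intro S hS h1
      rcases h1.eq_or_lt with e | e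
      · exact (hS.eq_of_le hD.p2 (e ▸ h3) le_top).symm
      · have h8 := lt_inf_normalizer_of_isPGroup hS.isPGroup e
        exact H _ h8 (bot_lt_iff_ne_bot.mp (bot_le.trans_lt h8)) S D hS (syl_top_of_syl_self h6)
          inf_le_left (h6.le_of_self (hS.isPGroup.to_le inf_le_left) (inf_le_right.trans h4))
    exact (h7 S hS h1).trans (h7 S' hS' h2).symm
  refine h fun T T' hT hT' x h1 h2 h3 => ?_
  rw [Syl, norm_bot] at hT hT'
  exact key (zpowers x) (fun e => h3 (e ▸ mem_zpowers x)) T T' hT hT' (zpowers_le.mpr h1)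
    (zpowers_le.mpr h2)

theorem CIT.exists_pair (hG : CIT G) (h0 : Loc (⊥ : Subgroup G)) (ih : AllTIm G) (hD : Par D) :
    ∃ D E T : Subgroup G, Par D ∧ Par E ∧ D ≠ E ∧ Syl T D ∧ Syl T E := by
  by_contra! hc
  have h1 : ∀ D T : Subgroup G, Par D → Syl T D → IsSylowIn 2 T ⊤ := by
    intro D T hD hT
    refine IsSylowIn.of_maximal le_top hT.isPGroup fun S h2 h3 _ => by_contra fun h4 => ?_
    obtain ⟨s, hs, h5⟩ := SetLike.exists_of_lt
      (lt_inf_normalizer_of_isPGroup h2 (lt_of_le_of_ne h3 fun e => h4 e.ge))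
    refine hc D (s •ᶜ D) T hD (hD.cj s) (fun e => h5 (hT.mem_of_two (two_of_mem h2 hs.1)
      (mem_norm e.symm) hs.2)) hT ?_
    have := hT.map_conj s
    rwa [cj_eq hs.2, ← norm_cj] at this
  have h2 : ∀ Y : Subgroup G, Y ≠ ⊥ → IsPGroup 2 Y → ∀ D E : Subgroup G, Par D → Par E →
      Y ≤ 𝐍(D) → Y ≤ 𝐍(E) → D = E := by
    intro Y
    induction Y using WellFoundedGT.induction with
    | ind Y H =>
    intro hY0 hY D E hD hE h3 h4
    obtain ⟨B, hB, h5, h6⟩ := exists_loc hY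
    have h7 : B ≠ ⊥ := fun e => hY0 (le_bot_iff.mp (e ▸ h5))
    obtain ⟨C, hC, h8⟩ : ∃ C, Par C ∧ ∀ Z : Subgroup G, IsPGroup 2 Z → Z ≤ 𝐍(Y) → Z ≤ 𝐍(C) := by
      by_cases e : Syl B B
      · obtain ⟨T, hT⟩ := IsSylowIn.exists_in (p := 2) 𝐍(D)
        obtain ⟨k, -, hk⟩ := (h1 D T hD hT).exists_conj_le hB.p2 le_top
        refine ⟨k⁻¹ •ᶜ D, hD.cj _, fun Z hZ h9 => (e.le_of_self hZ (h9.trans h6)).trans ?_⟩
        rw [norm_cj]
        exact conj_le_iff.mp (hk.trans hT.le)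
      · exact ⟨B, ⟨hB, ih B hB h7, h7, e⟩, fun Z _ h9 => h9.trans h6⟩
    have h9 : ∀ D, Par D → Y ≤ 𝐍(D) → D = C := by
      intro D hD h3
      obtain ⟨T, h10, hT⟩ := IsSylowIn.exists_ge hY h3
      rcases h10.eq_or_lt with e | e
      · subst e
        exact by_contra fun e => hc D C Y hD hC e hT
          ((h1 D Y hD hT).mono (h8 Y hY le_normalizer) le_top)
      · have h11 := lt_inf_normalizer_of_isPGroup hT.isPGroup e
        have h12 := hT.isPGroup.to_le (inf_le_left : T ⊓ 𝐍(Y) ≤ T)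
        exact H _ h11 (bot_lt_iff_ne_bot.mp (bot_le.trans_lt h11)) h12 D C hD hC
          (inf_le_left.trans hT.le) (h8 _ h12 inf_le_right)
    exact (h9 D hD h3).trans (h9 E hE h4).symm
  have h3 : ∀ a : G, a ≠ 1 → Two a → ∀ D E : Subgroup G, Par D → Par E → a ∈ 𝐍(D) → a ∈ 𝐍(E) →
      D = E := fun a ha h4 D E hD hE h5 h6 =>
    h2 _ (by rwa [Ne, zpowers_eq_bot]) h4 D E hD hE (zpowers_le.mpr h5) (zpowers_le.mpr h6)
  obtain ⟨T, hT⟩ := IsSylowIn.exists_in (p := 2) 𝐍(D)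
  obtain ⟨g, hg⟩ : ∃ g, g ∉ 𝐍(D) := by
    by_contra! h4
    exact hD.ne_bot (le_bot_iff.mp (h0.core D hD.p2 (norm_bot (G := G) ▸ le_top) fun g _ => h4 g))
  obtain ⟨z, hz, hz1, hzz⟩ := exists_inv_mem hD.p2 hD.ne_bot
  have hcj : ∀ k : G, k * z * k⁻¹ ∈ 𝐍(D) → k ∈ 𝐍(D) := fun k hk =>
    mem_norm (h3 _ (conj_ne_one_iff.mpr hz1) (two_of_sq (Invol.conj_mul_self hzz k)) _ _
      (hD.cj k) hD (le_normalizer (cj_mem hz)) hk)
  -- every involution of `N(D)` lies in `D`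
  have h4 : ∀ a ∈ 𝐍(D), a * a = 1 → a ∈ D := by
    intro a ha haa
    by_cases ha1 : a = 1
    · exact ha1 ▸ D.one_mem
    have hz' := Invol.conj_mul_self hzz g
    rcases hG.two_or_odd (g * z * g⁻¹ * a) with h5 | h5
    · obtain ⟨Q, h6, h7⟩ := Invol.exists_sylow_of_isPGroup hz' haa h5
      obtain ⟨k, -, hk⟩ := (h1 D T hD hT).exists_conj_le Q.isPGroup' le_top
      have h8 : (Q : Subgroup G) ≤ 𝐍(k⁻¹ •ᶜ D) := by
        rw [norm_cj]; exact conj_le_iff.mp (hk.trans hT.le)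
      rw [h3 a ha1 (two_of_sq haa) _ _ (hD.cj k⁻¹) hD (h8 h7) ha] at h8
      exact absurd (hcj g (h8 h6)) hg
    · obtain ⟨s, -, hs⟩ := Invol.exists_conj_of_odd hz' haa h5
      have e : s * g * z * (s * g)⁻¹ = a := by rw [← hs]; group
      exact e ▸ cmem (hcj _ (e ▸ ha)) hz
  obtain ⟨x, hx, hxD, hxx⟩ : ∃ x ∈ T, x ∉ D ∧ x * x ∈ D := by
    by_contra! h5
    refine hD.not_le hT fun x hx => ?_
    obtain ⟨k, hk⟩ := hT.isPGroup ⟨x, hx⟩
    have e : x ^ 2 ^ k = 1 := congrArg Subtype.val hk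
    have h6 : x ^ 2 ^ k ∈ D := e ▸ D.one_mem
    clear hk e
    induction k with
    | zero => simpa using h6
    | succ k ih =>
      exact ih (by_contra fun e => h5 _ (T.pow_mem hx _) e (by rwa [← pow_add, ← two_mul, ← pow_succ']))
  obtain ⟨k, hk, ho, h5⟩ := hG.exists_odd hD hT hx hxD hxx
  have hxn := hT.le hx
  obtain ⟨d, hd, h6⟩ := exists_inv_lift (mul_mem hxn (cmem (le_normalizer hk) hxn))
    (hG.fpf hD.p2 ho h5) hxn hxx (by
      have := mul_mem hxx (cmem hk hxx)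
      convert this using 1
      group)
  exact hxD ((D.mul_mem_cancel_left hd).mp (h4 _ (mul_mem (le_normalizer hd) hxn) h6))

namespace Half

variable {P L : Subgroup G} (h : Half P L q)
include h

theorem ne : ¬ L ≤ P := fun e => h.nsyl (by simpa only [sup_of_le_left e] using h.syl)

theorem cent_eq (hG : CIT G) (h' : Half L P q) {z : G} (hz : z ∈ P ⊓ L) (h1 : z ≠ 1) :
    𝐍(P) ⊓ 𝐂[z] = P ⊔ L := by
  obtain ⟨v, hv, hvP⟩ := SetLike.not_le_iff_exists.mp h.ne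
  have h2 : P ⊔ L ≤ 𝐂[z] := sup_le ((le_cent_of_sq h.sq).trans (cent_le_cent1 hz.1))
    ((le_cent_of_sq h'.sq).trans (cent_le_cent1 hz.2))
  exact le_antisymm (hG.cent_le h.ti h.syl (two_of_sq (h.sq z hz.1)) h1 (mem_sup_right hv) hvP
    (h2 (mem_sup_right hv))) (le_inf h.syl.le h2)

theorem cj_eq_of_mem (hG : CIT G) (h' : Half L P q) {z g : G} (hz : z ∈ P ⊓ L) (h1 : z ≠ 1)
    (hg : g ∈ 𝐍(P)) (h2 : g * z * g⁻¹ ∈ L) : g •ᶜ (P ⊔ L) = P ⊔ L := by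
  have h3 := h.cent_eq hG h' (z := g * z * g⁻¹) ⟨cmem hg hz.1, h2⟩ (conj_ne_one_iff.mpr h1)
  rw [cent1_conj, ← conj_eq_of_mem hg, ← map_conj_inf, h.cent_eq hG h' hz h1] at h3
  exact h3

theorem exists_mem : ∃ z ∈ P ⊓ L, z ≠ 1 := exists_ne_one ((one_lt_card_iff_ne_bot _).mp (by
  rw [h.cardZ]; exact h.two_le))

end Half

theorem CIT.not_amal_of_ker (hG : CIT G) {X : Type*} [Group X] [Finite X] (f : G →* X)
    (hf : Function.Surjective f) (hk : IsPGroup 2 f.ker) (h0 : f.ker ≠ ⊥) {P L : Subgroup X}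
    (h : Amal P L q) : False := by
  have hX := hG.of_surjective f hf hk
  obtain ⟨e, he, he1⟩ := h.l.exists_mem
  obtain ⟨e, rfl⟩ := hf e
  -- elements of order three preserve `C_D(e)`
  have key : ∀ {P L : Subgroup X}, Half P L q → f e ∈ P → ∃ x, f x ∈ 𝐍(P) ∧
      f x •ᶜ (P ⊔ L) ≠ P ⊔ L ∧ ∀ w ∈ f.ker, w * e = e * w →
        w * (x * e * x⁻¹) = x * e * x⁻¹ * w ∧ x * w * x⁻¹ * e = e * (x * w * x⁻¹) := by
    intro P L h he
    obtain ⟨y, hy, h3, hne⟩ := h.three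
    obtain ⟨x, rfl⟩ := hf y
    have h1 : f x ≠ 1 := fun e => hne (by rw [e]; exact map_conj_one _)
    have h2 := hG.odd_of_map f (odd_of_cube h3) h1
    have h4 : x ^ 3 = 1 := Invol.eq_one_of_odd_of_mem hk
      (by rw [MonoidHom.mem_ker, map_pow, h3]) (h2.of_dvd_nat (orderOf_pow_dvd 3))
    have h5 : x ∈ 𝐍(P.comap f) := le_normalizer_comap f hy
    have h6 := hG.fpf (h.p2.comap_of_ker_isPGroup f hk) h2 fun e => h1 (by rw [e, map_one])
    refine ⟨x, hy, hne, fun w hw hc => ?_⟩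
    have h7 : w ∈ P.comap f := ker_le_comap f P hw
    exact ⟨three_comm h5 h6 h4 h7 he hc, (three_comm h5 h6 h4 he h7 hc.symm).symm⟩
  obtain ⟨x, hx, hxT, h1⟩ := key h.l he.1
  obtain ⟨y, hy, hyT, h2⟩ := key h.r he.2
  have hp := h.l.p2.comap_of_ker_isPGroup f hk
  obtain ⟨w, hw, hw1, hwc⟩ := exists_OmZ_cent hp (ker_le_comap f P)
    (by rw [normalizer_eq_top]; exact le_top) h0
  have h3 := (mem_cent.mp hwc e he.1).symm
  have h4 : y * w * y⁻¹ ∈ f.ker := (MonoidHom.normal_ker f).conj_mem w hw.1 y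
  have h5 := (h1 _ h4 (h2 w hw.1 h3).2).1
  have h6 : y * (x * e * x⁻¹) * y⁻¹ ∈ 𝐂[y * w * y⁻¹] :=
    (cent1_conj y w).ge (cj_mem (mem_cent1'.mpr (h1 w hw.1 h3).1))
  have h7 := (hG.isPGroup_cent (two_of_mem hk h4) (conj_ne_one_iff.mpr hw1)).map f
  have h8 := mem_map_of_mem f (mem_cent1'.mpr h5)
  have h9 := mem_map_of_mem f h6
  simp only [map_mul, map_inv] at h8 h9
  have h10 : f x * f e * (f x)⁻¹ ∈ L ⊔ P := mem_sup_right (cmem hx he.1)
  have h11 : f x * f e * (f x)⁻¹ ∉ L := fun e => hxT (h.l.cj_eq_of_mem hX h.r he he1 hx e)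
  refine hyT (h.r.ti.cj_eq h.r.syl hy h10 h11 ?_)
  exact h.r.ti.le h.r.syl (h7.to_le inf_le_left) inf_le_right (Y := _ ⊓ 𝐍(L))
    ⟨h8, h.r.syl.le h10⟩ h10 h11 ⟨h9, cmem (le_normalizer hy) (h.r.syl.le h10)⟩

theorem Loc.quot (h : Loc D) :
    Loc (⊥ : Subgroup (𝐍(D) ⧸ D.subgroupOf 𝐍(D))) := by
  refine ⟨IsPGroup.of_bot, fun Y h1 _ h2 => ?_⟩
  haveI : Y.Normal := normal_of_le_normalizer_top (norm_bot (G := _ ⧸ D.subgroupOf 𝐍(D)) ▸ h2)
  have h3 : IsPGroup 2 (Y.comap (QuotientGroup.mk' _)) := h1.comap_of_ker_isPGroup _ (by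
    rw [QuotientGroup.ker_mk']; exact h.p2.comap_subtype)
  have h4 := h.core _ (h3.map 𝐍(D).subtype) (map_subtype_le _) fun g hg =>
    mem_normalizer_of_conj_mem (by
      rintro _ ⟨y, hy, rfl⟩
      exact ⟨_, (normal_comap _).conj_mem y hy ⟨g, hg⟩, rfl⟩)
  intro y hy
  obtain ⟨y, rfl⟩ := QuotientGroup.mk'_surjective _ y
  exact mem_bot.mpr ((QuotientGroup.eq_one_iff y).mpr (h4 ⟨y, hy, rfl⟩))

theorem Loc.tIm_of_quot (h : Loc D)
    (h1 : TIm (⊥ : Subgroup (𝐍(D) ⧸ D.subgroupOf 𝐍(D)))) : TIm D := by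
  intro T T' hT hT' x h2 h3 h4
  have key : ∀ {T : Subgroup G}, Syl T D →
      Syl ((T.subgroupOf 𝐍(D)).map (QuotientGroup.mk' (D.subgroupOf 𝐍(D)))) ⊥ := fun hT => by
    have := (hT.subgroupOf le_rfl).map (QuotientGroup.mk' (D.subgroupOf 𝐍(D)))
    rwa [subgroupOf_self, map_top_of_surjective _ (QuotientGroup.mk'_surjective _),
      ← norm_bot] at this
  have h5 := h1 _ _ (key hT) (key hT') _ (mem_map_of_mem _ (show ⟨x, hT.le h2⟩ ∈ _ from h2))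
    (mem_map_of_mem _ (show (⟨x, hT.le h2⟩ : 𝐍(D)) ∈ T'.subgroupOf _ from h3))
    fun e => h4 ((QuotientGroup.eq_one_iff (⟨x, hT.le h2⟩ : 𝐍(D))).mp (mem_bot.mp e))
  have h6 := congrArg (comap (QuotientGroup.mk' (D.subgroupOf 𝐍(D)))) h5
  rw [comap_map_eq_self, comap_map_eq_self] at h6
  · rw [← H1.map_subtype_subgroupOf hT.le, h6, H1.map_subtype_subgroupOf hT'.le]
  · rw [QuotientGroup.ker_mk']; exact comap_mono (h.le_syl hT')
  · rw [QuotientGroup.ker_mk']; exact comap_mono (h.le_syl hT)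

theorem thmA_aux (X : Type u) [Group X] [Finite X] :
    CIT X → AllTIm X ∧ (Loc (⊥ : Subgroup X) →
      TIm (⊥ : Subgroup X) ∨ ∃ P L q, Amal (G := X) P L q) := by
  refine card_induction (P := fun X _ _ => CIT X → AllTIm X ∧ (Loc (⊥ : Subgroup X) →
      TIm (⊥ : Subgroup X) ∨ ∃ P L q, Amal (G := X) P L q)) (fun X _ _ H => ?_) X
  intro hG
  have ih : AllTIm X := by
    intro D hD h0
    have hk : (QuotientGroup.mk' (D.subgroupOf 𝐍(D))).ker = D.subgroupOf 𝐍(D) :=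
      QuotientGroup.ker_mk' _
    have h1 : D.subgroupOf 𝐍(D) ≠ ⊥ := fun e => h0 (by
      rw [← H1.map_subtype_subgroupOf (le_normalizer (H := D)), e, Subgroup.map_bot])
    have h2 := QuotientGroup.mk'_surjective (D.subgroupOf 𝐍(D))
    have h3 : IsPGroup 2 (D.subgroupOf 𝐍(D)) := hD.p2.comap_subtype
    rw [← hk] at h3
    rcases (H _ ((card_quotient_lt h1).trans_le (card_le_card_group _))
      ((hG.subgroup _).of_surjective _ h2 h3)).2 hD.quot with h4 | ⟨P, L, q, h4⟩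
    · exact hD.tIm_of_quot h4
    · exact ((hG.subgroup _).not_amal_of_ker _ h2 h3 (hk.trans_ne h1) h4).elim
  refine ⟨ih, fun h0 => or_iff_not_imp_left.mpr fun h1 => ?_⟩
  obtain ⟨D, hD⟩ := exists_par ih h1
  obtain ⟨D, E, T, hD, hE, hne, hT, hT'⟩ := hG.exists_pair h0 ih hD
  exact hG.amal_of_pair ih hD hE hne hT hT'

theorem CIT.allTIm (hG : CIT G) : AllTIm G := (thmA_aux G hG).1

/-- A (CIT)-group with `O₂(G) = 1` has independent Sylow `2`-subgroups or contains the amalgam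
of `PSL₃(q)`. -/
theorem CIT.tIm_or_amal (hG : CIT G) (h0 : Loc (⊥ : Subgroup G)) :
    TIm (⊥ : Subgroup G) ∨ ∃ P L q, Amal (G := G) P L q := (thmA_aux G hG).2 h0

end CfsgLib.Cit
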