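import Cfsg.Agent.Lib.GW.Basic
import Cfsg.Agent.Lib.CoreInvol
import Cfsg.Agent.Lib.PGroupMaxClass
import Cfsg.Agent.Lib.H1Amb

/-!
# Groups in which the centralizer of every involution is a `2`-group: basic facts
-/

set_option autoImplicit false

namespace CfsgLib.Cit

open Subgroup Cfsg CfsgLib.FT.BGN CfsgLib.FT.U4

variable {G : Type*} [Group G]

/-- No involution centralizes a nontrivial element of odd order. -/
def CIT (G : Type*) [Group G] : Prop :=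
  ∀ t y : G, t * t = 1 → t ≠ 1 → t * y = y * t → Odd (orderOf y) → y = 1

/-- `x` is a `2`-element. -/
abbrev Two (x : G) : Prop := IsPGroup 2 (zpowers x)

theorem two_of_mem {P : Subgroup G} (hP : IsPGroup 2 P) {x : G} (hx : x ∈ P) : Two x :=
  hP.to_le (zpowers_le.mpr hx)

theorem two_of_sq {x : G} (h : x * x = 1) : Two x := Invol.isPGroup_zpowers h

theorem eq_one_of_two_of_odd [Finite G] {x : G} (h : Two x) (ho : Odd (orderOf x)) : x = 1 :=
  Invol.eq_one_of_odd_of_mem h (mem_zpowers x) ho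

theorem exists_inv_zpowers [Finite G] {x : G} (h : Two x) (h1 : x ≠ 1) :
    ∃ z ∈ zpowers x, z ≠ 1 ∧ z * z = 1 :=
  Invol.exists_involution_mem_zpowers
    (Nat.not_odd_iff_even.mp fun ho => h1 (eq_one_of_two_of_odd h ho))

theorem exists_inv_mem [Finite G] {P : Subgroup G} (hP : IsPGroup 2 P) (h : P ≠ ⊥) :
    ∃ z ∈ P, z ≠ 1 ∧ z * z = 1 := by
  obtain ⟨x, hx, h1⟩ := exists_ne_one h
  obtain ⟨z, hz, h2⟩ := exists_inv_zpowers (two_of_mem hP hx) h1
  exact ⟨z, (zpowers_le.mpr hx) hz, h2⟩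

theorem odd_of_cube {y : G} (h : y ^ 3 = 1) : Odd (orderOf y) :=
  (by decide : Odd 3).of_dvd_nat (orderOf_dvd_of_pow_eq_one h)

theorem two_of_sq_mem {D : Subgroup G} (hD : IsPGroup 2 D) {u : G} (hu : u * u ∈ D) : Two u := by
  intro y
  obtain ⟨k, hk⟩ := hD ⟨u * u, hu⟩
  obtain ⟨y, i, rfl⟩ := y
  refine ⟨k + 1, Subtype.ext ?_⟩
  have h1 : (u * u) ^ 2 ^ k = 1 := congrArg Subtype.val hk
  change (u ^ i) ^ 2 ^ (k + 1) = 1
  rw [show (u ^ i) ^ 2 ^ (k + 1) = ((u * u) ^ 2 ^ k) ^ i by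
    rw [← sq, ← pow_mul, ← pow_succ']; group, h1, one_zpow]

theorem comm_of_sq {A : Subgroup G} (h : ∀ a ∈ A, a * a = 1) {a b : G} (ha : a ∈ A) (hb : b ∈ A) :
    a * b = b * a := by
  have h1 := h _ (A.mul_mem ha hb)
  calc a * b = (a * b)⁻¹ := (Invol.inv_eq h1).symm
    _ = b * a := by rw [mul_inv_rev, Invol.inv_eq (h a ha), Invol.inv_eq (h b hb)]

theorem le_cent_of_sq {A : Subgroup G} (h : ∀ a ∈ A, a * a = 1) : A ≤ 𝐂(A) :=
  fun _ ha => mem_cent.mpr fun _ hb => comm_of_sq h hb ha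

theorem isPGroup_of_sq {A : Subgroup G} (h : ∀ a ∈ A, a * a = 1) : IsPGroup 2 A :=
  fun a => ⟨1, Subtype.ext (by simpa [sq] using h a a.2)⟩

theorem sq_sup {A B : Subgroup G} (hA : ∀ a ∈ A, a * a = 1) (hB : ∀ a ∈ B, a * a = 1)
    (h : A ≤ 𝐂(B)) : ∀ x ∈ A ⊔ B, x * x = 1 := by
  intro x hx
  obtain ⟨a, ha, b, hb, rfl⟩ := (mem_sup_iff_of_le_normalizer (h.trans (cent_le_norm B))).mp hx
  calc a * b * (a * b) = a * (b * a) * b := by group
    _ = a * a * (b * b) := by rw [mem_cent.mp (h ha) b hb]; group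
    _ = 1 := by rw [hA a ha, hB b hb, one_mul]

theorem cj_eq {g : G} {H : Subgroup G} (h : g ∈ 𝐍(H)) : g •ᶜ H = H :=
  map_conj_eq_of_mem_normalizer h

theorem mem_norm {g : G} {H : Subgroup G} (h : g •ᶜ H = H) : g ∈ 𝐍(H) :=
  mem_normalizer_of_map_conj_eq h

theorem cmem {g x : G} {H : Subgroup G} (hg : g ∈ 𝐍(H)) (hx : x ∈ H) : g * x * g⁻¹ ∈ H :=
  conj_mem_of_mem_normalizer hg hx

theorem mem_cj {g x : G} {H : Subgroup G} : x ∈ g •ᶜ H ↔ g⁻¹ * x * g ∈ H := mem_map_conj_iff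

theorem cj_mem {g x : G} {H : Subgroup G} (hx : x ∈ H) : g * x * g⁻¹ ∈ g •ᶜ H :=
  conj_mem_map_conj hx

theorem norm_cj (g : G) (H : Subgroup G) : 𝐍(g •ᶜ H) = g •ᶜ 𝐍(H) := normalizer_map_conj g H

theorem pg_cj {H : Subgroup G} (h : IsPGroup 2 H) (g : G) : IsPGroup 2 ↥(g •ᶜ H) := h.map _

theorem sq_cj {A : Subgroup G} (h : ∀ a ∈ A, a * a = 1) (g : G) : ∀ a ∈ g •ᶜ A, a * a = 1 := by
  rintro _ ⟨a, ha, rfl⟩
  exact Invol.conj_mul_self (h a ha) g

section fpf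

variable [Finite G] {D : Subgroup G} {y : G}

theorem exists_conj_eq_mul (hy : y ∈ 𝐍(D)) (hf : ∀ d ∈ D, d * y = y * d → d = 1) {e : G}
    (he : e ∈ D) : ∃ d ∈ D, d * y * d⁻¹ = e * y := by
  let f : D → D := fun d => ⟨d * (y * d⁻¹ * y⁻¹), D.mul_mem d.2 (cmem hy (D.inv_mem d.2))⟩
  have hinj : Function.Injective f := by
    intro a b hab
    have h1 : (a : G) * (y * a⁻¹ * y⁻¹) = b * (y * b⁻¹ * y⁻¹) := congrArg Subtype.val hab
    have h2 := hf ((b : G)⁻¹ * a) (D.mul_mem (D.inv_mem b.2) a.2) (by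
      calc (b : G)⁻¹ * a * y = b⁻¹ * (a * (y * a⁻¹ * y⁻¹)) * y * a := by
            push_cast; group
        _ = _ := by rw [h1]; push_cast; group)
    exact Subtype.ext (inv_mul_eq_one.mp h2).symm
  obtain ⟨d, hd⟩ := Finite.surjective_of_injective hinj ⟨e, he⟩
  have h3 : (d : G) * (y * d⁻¹ * y⁻¹) = e := congrArg Subtype.val hd
  exact ⟨d, d.2, by rw [← h3]; push_cast; group⟩

theorem three_prod (hy : y ∈ 𝐍(D)) (hf : ∀ d ∈ D, d * y = y * d → d = 1) (h3 : y ^ 3 = 1)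
    {e : G} (he : e ∈ D) : y * (y * e * y⁻¹) * y⁻¹ = (e * (y * e * y⁻¹))⁻¹ := by
  obtain ⟨d, -, hd⟩ := exists_conj_eq_mul hy hf he
  have h1 : (e * y) ^ 3 = 1 := by rw [← hd, conj_pow, h3, mul_one, mul_inv_cancel]
  rw [eq_comm, inv_eq_iff_mul_eq_one, ← h1]
  calc _ = (e * y) ^ 3 * (y ^ 3)⁻¹ := by simp only [pow_succ, pow_zero, one_mul]; group
    _ = _ := by rw [h3, inv_one, mul_one]

/-- For a fixed point free action of an element `y` of order `3`: commuting elements `a, b`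
give commuting elements `a, y b y⁻¹`. -/
theorem three_comm (hy : y ∈ 𝐍(D)) (hf : ∀ d ∈ D, d * y = y * d → d = 1) (h3 : y ^ 3 = 1)
    {a b : G} (ha : a ∈ D) (hb : b ∈ D) (h : a * b = b * a) :
    a * (y * b * y⁻¹) = y * b * y⁻¹ * a := by
  have h1 := three_prod hy hf h3 ha
  have h2 := three_prod hy hf h3 hb
  have h4 := three_prod hy hf h3 (D.mul_mem ha hb)
  have h5 : y * (y * (a * b) * y⁻¹) * y⁻¹ =
      y * (y * a * y⁻¹) * y⁻¹ * (y * (y * b * y⁻¹) * y⁻¹) := by group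
  rw [h5, h1, h2, ← mul_inv_rev, inv_inj] at h4
  have h6 : y * (a * b) * y⁻¹ = y * b * y⁻¹ * (y * a * y⁻¹) := by rw [h]; group
  rw [h6, h] at h4
  generalize y * a * y⁻¹ = a' at h4
  generalize y * b * y⁻¹ = b' at h4 ⊢
  calc a * b' = b⁻¹ * (b * a * (b' * a')) * a'⁻¹ := by group
    _ = _ := by rw [← h4]; group

/-- An element inverting `y` modulo `D` can be corrected to an involution. -/
theorem exists_inv_lift (hy : y ∈ 𝐍(D)) (hf : ∀ d ∈ D, d * y = y * d → d = 1) {x : G}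
    (hx : x ∈ 𝐍(D)) (hxx : x * x ∈ D) (h : x * y * x⁻¹ * y ∈ D) :
    ∃ d ∈ D, d * x * (d * x) = 1 := by
  have hf' : ∀ d ∈ D, d * y⁻¹ = y⁻¹ * d → d = 1 := fun d hd e => hf d hd (by
    calc d * y = y * (y⁻¹ * d) * y := by group
      _ = _ := by rw [← e]; group)
  obtain ⟨d, hd, e⟩ := exists_conj_eq_mul (inv_mem hy) hf' h
  have h1 : d⁻¹ * x * y * (d⁻¹ * x)⁻¹ = y⁻¹ := by
    calc _ = d⁻¹ * (x * y * x⁻¹ * y * y⁻¹) * d := by group
      _ = _ := by rw [← e]; group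
  refine ⟨d⁻¹, D.inv_mem hd, hf _ ?_ ?_⟩
  · have := D.mul_mem (D.mul_mem (D.inv_mem hd) (cmem hx (D.inv_mem hd))) hxx
    convert this using 1
    group
  · generalize d⁻¹ * x = u at h1
    calc u * u * y = u * (u * y * u⁻¹) * u := by group
      _ = (u * y * u⁻¹)⁻¹ * (u * u) := by rw [h1]; nth_rewrite 2 [← h1]; group
      _ = _ := by rw [h1, inv_inv]

end fpf

theorem exists_two_sup [Finite G] {D : Subgroup G} (hD : IsPGroup 2 D) {x x' : G} (hx : x ∈ 𝐍(D))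
    (hx' : x' ∈ 𝐍(D)) (h1 : x * x ∈ D) (h2 : x' * x' ∈ D) (h : Two (x * x')) :
    ∃ Y : Subgroup G, IsPGroup 2 Y ∧ Y ≤ 𝐍(D) ∧ x ∈ Y ∧ x' ∈ Y := by
  have hy : zpowers (x * x') ≤ 𝐍(D) := zpowers_le.mpr (mul_mem hx hx')
  have hY : IsPGroup 2 ↥(zpowers (x * x') ⊔ D) := H1.isPGroup_sup_of_le_normalizer h hD hy
  have hn : x ∈ 𝐍(zpowers (x * x') ⊔ D) := by
    refine mem_normalizer_of_conj_mem fun w hw => ?_
    refine (show x •ᶜ (zpowers (x * x') ⊔ D) ≤ zpowers (x * x') ⊔ D from ?_) (cj_mem hw)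
    rw [conj_sup, cj_eq hx, ← zpowers_conj]
    refine sup_le (zpowers_le.mpr ?_) le_sup_right
    have e : x * (x * x') * x⁻¹ = (x * x) * (x' * x') * (x * x')⁻¹ := by group
    rw [e]
    exact mul_mem (mem_sup_right (mul_mem h1 h2)) (mem_sup_left (inv_mem (mem_zpowers _)))
  refine ⟨zpowers x ⊔ (zpowers (x * x') ⊔ D), H1.isPGroup_sup_of_le_normalizer
    (two_of_sq_mem hD h1) hY (zpowers_le.mpr hn),
    sup_le (zpowers_le.mpr hx) (sup_le hy le_normalizer), mem_sup_left (mem_zpowers x), ?_⟩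
  have := mul_mem (mem_sup_left (T := zpowers (x * x') ⊔ D) (inv_mem (mem_zpowers x)))
    (mem_sup_right (S := zpowers x) (mem_sup_left (T := D) (mem_zpowers (x * x'))))
  rwa [inv_mul_cancel_left] at this

/-- The conjugates of `W'` under `T` form `|T : D|` subsets of `V` meeting only in `1`. -/
theorem count_conj [Finite G] {T D V W W' : Subgroup G} (hT : T ≤ 𝐍(V)) (hW : W ≤ V)
    (hW' : W' ≤ V) (h1 : ∀ t ∈ T, ∀ w ∈ W', w ≠ 1 → t * w * t⁻¹ ∉ W)
    (h2 : ∀ t ∈ T, ∀ w ∈ W', w ≠ 1 → t * w * t⁻¹ ∈ W' → t ∈ D) :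
    D.relIndex T * (Nat.card W' - 1) + Nat.card W ≤ Nat.card V ∧
      (D.relIndex T * (Nat.card W' - 1) + Nat.card W = Nat.card V →
        ∀ v ∈ V, v ∉ W → ∃ t ∈ T, ∃ w ∈ W', t * w * t⁻¹ = v) := by
  classical
  let f : ((T ⧸ D.subgroupOf T) × {w : W' // w ≠ 1}) ⊕ W → V := fun x => match x with
    | .inl (c, w) => ⟨c.out * w * c.out⁻¹, cmem (hT c.out.2) (hW' w.1.2)⟩
    | .inr w => ⟨w, hW w.2⟩
  have hne : ∀ w : {w : W' // w ≠ 1}, (w.1 : G) ≠ 1 := fun w e => w.2 (Subtype.ext e)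
  have hinj : Function.Injective f := by
    rintro (⟨c, w⟩ | w) (⟨c', w'⟩ | w') e
    · have e1 : (c.out : G) * w * c.out⁻¹ = c'.out * w' * c'.out⁻¹ := congrArg Subtype.val e
      have e2 : (c'.out : G)⁻¹ * c.out * w * ((c'.out : G)⁻¹ * c.out)⁻¹ = w' := by
        calc _ = (c'.out : G)⁻¹ * (c.out * w * c.out⁻¹) * c'.out := by push_cast; group
          _ = _ := by rw [e1]; push_cast; group
      have e3 := h2 _ (T.mul_mem (T.inv_mem c'.out.2) c.out.2) w w.1.2 (hne w) (e2 ▸ w'.1.2)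
      have e4 : c' = c := by
        rw [← c.out_eq, ← c'.out_eq]
        exact QuotientGroup.eq.mpr e3
      subst e4
      simp only [inv_mul_cancel, one_mul, inv_one, mul_one] at e2
      rw [Subtype.ext (Subtype.ext e2 : w.1 = w'.1)]
    · have e1 : (c.out : G) * w * c.out⁻¹ = w' := congrArg Subtype.val e
      exact absurd (e1 ▸ w'.2) (h1 _ c.out.2 w w.1.2 (hne w))
    · have e1 : (w : G) = c'.out * w' * c'.out⁻¹ := congrArg Subtype.val e
      exact absurd (e1 ▸ w.2) (h1 _ c'.out.2 w' w'.1.2 (hne w'))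
    · have e1 : (w : G) = w' := congrArg (Subtype.val : V → G) e
      rw [Subtype.ext e1]
  have hc : Nat.card (((T ⧸ D.subgroupOf T) × {w : W' // w ≠ 1}) ⊕ W) =
      D.relIndex T * (Nat.card W' - 1) + Nat.card W := by
    have : Nat.card {w : W' // w ≠ 1} = Nat.card W' - 1 := by
      haveI := Fintype.ofFinite W'
      simp [Nat.card_eq_fintype_card]
    rw [Nat.card_sum, Nat.card_prod, this]
    rfl
  refine ⟨hc ▸ Nat.card_le_card_of_injective f hinj, fun e v hv hvW => ?_⟩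
  obtain ⟨x, hx⟩ := ((Nat.bijective_iff_injective_and_card f).mpr ⟨hinj, hc.trans e⟩).2 ⟨v, hv⟩
  rcases x with ⟨c, w⟩ | w
  · exact ⟨c.out, c.out.2, w, w.1.2, congrArg Subtype.val hx⟩
  · have e1 : (w : G) = v := congrArg (Subtype.val : V → G) hx
    exact absurd (e1 ▸ w.2) hvW

/-- `Ω₁(Z(D))`. -/
def OmZ (D : Subgroup G) : Subgroup G where
  carrier := {v | v ∈ D ∧ v ∈ 𝐂(D) ∧ v * v = 1}
  one_mem' := ⟨D.one_mem, one_mem _, one_mul 1⟩
  mul_mem' := by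
    rintro a b ⟨h1, h2, h3⟩ ⟨h4, h5, h6⟩
    refine ⟨D.mul_mem h1 h4, mul_mem h2 h5, ?_⟩
    calc a * b * (a * b) = a * (b * a) * b := by group
      _ = a * a * (b * b) := by rw [mem_cent.mp h2 b h4]; group
      _ = 1 := by rw [h3, h6, one_mul]
  inv_mem' := by
    rintro a ⟨h1, h2, h3⟩
    exact ⟨D.inv_mem h1, inv_mem h2, by rw [← mul_inv_rev, h3, inv_one]⟩

theorem mem_OmZ {D : Subgroup G} {v : G} : v ∈ OmZ D ↔ v ∈ D ∧ v ∈ 𝐂(D) ∧ v * v = 1 := Iff.rfl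

theorem OmZ_le (D : Subgroup G) : OmZ D ≤ D := fun _ h => h.1

theorem OmZ_sq (D : Subgroup G) : ∀ v ∈ OmZ D, v * v = 1 := fun _ h => h.2.2

theorem le_cent_OmZ (D : Subgroup G) : D ≤ 𝐂(OmZ D) :=
  fun _ hd => mem_cent.mpr fun _ hv => (mem_cent.mp hv.2.1 _ hd).symm

theorem norm_le_norm_OmZ [Finite G] (D : Subgroup G) : 𝐍(D) ≤ 𝐍(OmZ D) := by
  intro g hg
  refine mem_normalizer_of_conj_mem fun v hv => ⟨cmem hg hv.1, ?_, Invol.conj_mul_self hv.2.2 g⟩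
  exact cmem (norm_le_norm_cent D hg) hv.2.1

theorem exists_OmZ_cent [Finite G] {D T : Subgroup G} (hT : IsPGroup 2 T) (h : D ≤ T)
    (hn : T ≤ 𝐍(D)) (h0 : D ≠ ⊥) : ∃ z ∈ OmZ D, z ≠ 1 ∧ z ∈ 𝐂(T) := by
  obtain ⟨z, hz, h1, h2⟩ := exists_inv_mem ((hT.to_le h).to_le inf_le_left)
    (inf_centralizer_ne_bot_of_isNilpotent hT.isNilpotent h hn h0)
  exact ⟨z, ⟨hz.1, centralizer_le h hz.2, h2⟩, h1, hz.2⟩

namespace CIT

theorem of_injective (h : CIT G) {X : Type*} [Group X] (f : X →* G)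
    (hf : Function.Injective f) : CIT X := fun t y h1 h2 h3 h4 =>
  hf (by
    rw [map_one]
    exact h (f t) (f y) (by rw [← map_mul, h1, map_one]) (fun e => h2 (hf (by rw [e, map_one])))
      (by rw [← map_mul, h3, map_mul]) (by rwa [orderOf_injective f hf]))

theorem subgroup (h : CIT G) (H : Subgroup G) : CIT H := h.of_injective H.subtype H.subtype_injective

variable [Finite G] (h : CIT G)
include h

theorem eq_one {x y : G} (hx : Two x) (h1 : x ≠ 1) (hc : x * y = y * x) (hy : Odd (orderOf y)) :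
    y = 1 := by
  obtain ⟨z, hz, h2, h3⟩ := exists_inv_zpowers hx h1
  exact h z y h3 h2 (mem_cent1'.mp (cent1_le_cent1 hz (mem_cent1'.mpr hc))) hy

theorem isPGroup_cent {x : G} (hx : Two x) (h1 : x ≠ 1) : IsPGroup 2 𝐂[x] :=
  H5.isPGroup_of_forall_coprime fun y hy hc =>
    h.eq_one hx h1 (mem_cent1'.mp hy) (Nat.coprime_two_right.mp hc)

theorem two_or_odd (x : G) : Two x ∨ Odd (orderOf x) := by
  rcases Nat.even_or_odd (orderOf x) with he | ho
  · obtain ⟨z, hz, h1, h2⟩ := Invol.exists_involution_mem_zpowers he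
    exact Or.inl (two_of_mem (h.isPGroup_cent (two_of_sq h2) h1)
      (cent1_le_cent1 hz (self_mem_cent1 x)))
  · exact Or.inr ho

theorem fpf {D : Subgroup G} (hD : IsPGroup 2 D) {y : G} (hy : Odd (orderOf y)) (h1 : y ≠ 1) :
    ∀ d ∈ D, d * y = y * d → d = 1 := fun d hd hc =>
  by_contra fun h2 => h1 (h.eq_one (two_of_mem hD hd) h2 hc hy)

theorem odd_of_comm {x y : G} (hy : Odd (orderOf y)) (h1 : y ≠ 1) (hc : x * y = y * x) :
    Odd (orderOf x) := by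
  rcases h.two_or_odd x with h2 | h2
  · rw [h.fpf h2 hy h1 x (mem_zpowers x) hc, orderOf_one]; exact odd_one
  · exact h2

theorem odd_of_map {X : Type*} [Group X] (f : G →* X) {y : G} (ho : Odd (orderOf (f y)))
    (h1 : f y ≠ 1) : Odd (orderOf y) := by
  refine (h.two_or_odd y).resolve_left fun h2 => h1 ?_
  obtain ⟨k, hk⟩ := h2 ⟨y, mem_zpowers y⟩
  have h3 : y ^ 2 ^ k = 1 := congrArg Subtype.val hk
  have h4 : orderOf (f y) ∣ 2 ^ k := orderOf_dvd_of_pow_eq_one (by rw [← map_pow, h3, map_one])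
  exact orderOf_eq_one_iff.mp (Nat.eq_one_of_dvd_coprimes
    (Nat.Coprime.pow_right k (Nat.coprime_two_right.mpr ho)) dvd_rfl h4)

theorem of_surjective {X : Type*} [Group X] (f : G →* X) (hf : Function.Surjective f)
    (hk : IsPGroup 2 f.ker) : CIT X := by
  intro t y h1 h2 h3 h4
  obtain ⟨t, rfl⟩ := hf t
  obtain ⟨y, rfl⟩ := hf y
  by_contra h5
  have h6 := h.odd_of_map f h4 h5
  have h7 : y ≠ 1 := fun e => h5 (by rw [e, map_one])
  obtain ⟨d, hd, e⟩ := exists_conj_eq_mul (D := f.ker) (y := y)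
    (by rw [normalizer_eq_top]; exact mem_top _) (h.fpf hk h6 h7)
    (e := t * y * t⁻¹ * y⁻¹) (by
      rw [MonoidHom.mem_ker, map_mul, map_mul, map_mul, h3, map_inv, map_inv]; group)
  have h8 : Odd (orderOf (d⁻¹ * t)) := h.odd_of_comm h6 h7 (by
    calc d⁻¹ * t * y = d⁻¹ * (t * y * t⁻¹ * y⁻¹ * y) * t := by group
      _ = _ := by rw [← e]; group)
  have h9 := h8.of_dvd_nat (orderOf_map_dvd f _)
  rw [map_mul, map_inv, MonoidHom.mem_ker.mp hd, inv_one, one_mul] at h9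
  exact h2 (Invol.eq_one_of_odd h9 h1)

end CIT

end CfsgLib.Cit
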