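import Cfsg.Agent.Lib.CIT.Fus

/-!
# The amalgam case with `q > 2`: `P L` is a Sylow `2`-subgroup and the group is simple
-/

set_option autoImplicit false

namespace CfsgLib.Cit

open Subgroup Cfsg CfsgLib.FT.BGN CfsgLib.FT.U4

variable {G : Type*} [Group G] [Finite G] {P L S : Subgroup G} {q : ℕ}

attribute [local instance] factTwo

omit [Finite G] in
theorem Half.sq_mem (h : Half P L q) (h' : Half L P q) {t : G} (ht : t ∈ P ⊔ L) : t * t ∈ P := by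
  obtain ⟨p, hp, l, hl, rfl⟩ :=
    (mem_sup_iff_of_le_normalizer (le_sup_right.trans h'.syl.le)).mp ht
  have := P.mul_mem hp (cmem (h.syl.le (mem_sup_right hl)) hp)
  rwa [Invol.inv_eq (h'.sq l hl), ← mul_assoc, ← mul_assoc, mul_assoc (p * l)] at this

namespace Amal

variable (h : Amal P L q)
include h

omit [Finite G] in
theorem sq_mem {t : G} (ht : t ∈ P ⊔ L) : t * t ∈ P ⊓ L :=
  ⟨h.l.sq_mem h.r ht, h.r.sq_mem h.l (sup_comm P L ▸ ht)⟩

theorem exists_odd (hG : CIT G) (hq : 2 < q) :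
    ∃ k ∈ 𝐍(P ⊔ L), k ∈ 𝐍(L) ∧ Odd (orderOf k) ∧ k ≠ 1 := by
  obtain ⟨a, ha, haP⟩ := SetLike.not_le_iff_exists.mp h.l.ne
  obtain ⟨b, hb, hbP, hab⟩ : ∃ b ∈ L, b ∉ P ∧ b * a ∉ P := by
    by_contra! hc
    have h1 : P.relIndex L = 2 := relIndex_eq_two_iff.mpr ⟨a, ha, fun b hb => by
      by_cases e : b ∈ P
      · exact Or.inr ⟨e, fun e' => haP ((P.mul_mem_cancel_left e).mp e')⟩
      · exact Or.inl ⟨hc b hb e, e⟩⟩
    have h2 := card_inf_mul_relIndex P L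
    rw [h1, h.l.cardZ, h.r.card] at h2
    nlinarith
  obtain ⟨n, -, hn, e⟩ := h.l.conj_L h.r hG le_top ha haP hb hbP
  have h1 := h.l.ti.cj_eq h.l.syl hn (mem_sup_right ha) haP (e ▸ mem_sup_right hb)
  have h2 : ¬ Two n := fun h2 => hab (by
    have h3 := h.l.syl.mem_of_two h2 hn (mem_norm h1)
    have := P.mul_mem (h.sq_mem (mul_mem h3 (mem_sup_right ha))).1
      (cmem (Subgroup.inv_mem _ (h.l.syl.le (mem_sup_right ha))) (P.inv_mem (h.sq_mem h3).1))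
    rw [← e]
    convert this using 1
    group)
  refine ⟨n, mem_norm h1, ?_, (hG.two_or_odd n).resolve_left h2,
    fun e => h2 (e ▸ two_of_sq (one_mul 1))⟩
  rcases h.cj_cases h1.le with h3 | h3
  · exact mem_norm h3.2
  · exact absurd ((cj_eq hn).symm.trans h3.1) h.ne

section

variable (hS : IsPGroup 2 S) (hn : S ≤ 𝐍(P ⊔ L))
include hS hn

theorem swap {x : G} (hx : x ∈ S) (h1 : x ∉ P ⊔ L) : x •ᶜ P = L ∧ x •ᶜ L = P :=
  (h.cj_cases (cj_eq (hn hx)).le).resolve_left fun e =>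
    h1 (h.l.syl.mem_of_two (two_of_mem hS hx) (mem_norm e.1) (hn hx))

theorem mul_mem_T {x y : G} (hx : x ∈ S) (h1 : x ∉ P ⊔ L) (hy : y ∈ S) (h2 : y ∉ P ⊔ L) :
    x * y ∈ P ⊔ L := by
  refine h.l.syl.mem_of_two (two_of_mem hS (S.mul_mem hx hy)) (mem_norm ?_) (hn (S.mul_mem hx hy))
  rw [← FT.cj_cj, (h.swap hS hn hy h2).1, (h.swap hS hn hx h1).2]

theorem card_le {E : Subgroup G} (hE : E ≤ S) : Nat.card E ≤ Nat.card ↥((P ⊔ L) ⊓ E) * 2 := by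
  by_cases h1 : E ≤ P ⊔ L
  · rw [inf_of_le_right h1]; omega
  obtain ⟨a, ha, h2⟩ := SetLike.not_le_iff_exists.mp h1
  rw [← card_inf_mul_relIndex (P ⊔ L) E, relIndex_eq_two_iff.mpr ⟨a, ha, fun b hb => ?_⟩]
  by_cases e : b ∈ P ⊔ L
  · exact Or.inr ⟨e, fun e' => h2 ((Subgroup.mul_mem_cancel_left _ e).mp e')⟩
  · exact Or.inl ⟨h.mul_mem_T hS hn (hE hb) e (hE ha) h2, e⟩

theorem mem_Z {x u : G} (hx : x ∈ S) (h1 : x ∉ P ⊔ L) (hu : u ∈ P ⊔ L) (huu : u * u = 1)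
    (hc : u ∈ 𝐂[x]) : u ∈ P ⊓ L := by
  have e : x * u * x⁻¹ = u := conj_eq_of_mem_cent1 (mem_cent1_comm.mp hc)
  obtain ⟨h2, h3⟩ := h.swap hS hn hx h1
  rcases h.inv_mem hu huu with h4 | h4
  · exact ⟨h4, e ▸ h2 ▸ cj_mem h4⟩
  · exact ⟨e ▸ h3 ▸ cj_mem h4, h4⟩

theorem mem_cent_S {x u : G} (hx : x ∈ S) (h1 : x ∉ P ⊔ L) (hu : u ∈ P ⊔ L) (huu : u * u = 1)
    (hc : u ∈ 𝐂[x]) : S ≤ 𝐂[u] := fun y hy => by
  have h2 := h.le_cent.trans (cent_le_cent1 (h.mem_Z hS hn hx h1 hu huu hc))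
  by_cases h3 : y ∈ P ⊔ L
  · exact h2 h3
  · exact (Subgroup.mul_mem_cancel_right _ (mem_cent1_comm.mp hc)).mp
      (h2 (h.mul_mem_T hS hn hy h3 hx h1))

theorem big_le (hq : 2 < q) {E : Subgroup G} (hE : E ≤ S) (hsq : ∀ e ∈ E, e * e = 1)
    (hc : Nat.card E = q ^ 2) : E ≤ P ⊔ L := by
  by_contra h1
  obtain ⟨a, ha, h2⟩ := SetLike.not_le_iff_exists.mp h1
  have h3 := card_le_of_le (show (P ⊔ L) ⊓ E ≤ P ⊓ L from fun e he => h.mem_Z hS hn (hE ha) h2 he.1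
    (hsq e he.2) (mem_cent1.mpr (comm_of_sq hsq he.2 ha)))
  have h4 := h.card_le hS hn hE
  rw [h.l.cardZ] at h3
  nlinarith

theorem exists_inv (hG : CIT G) (hq : 2 < q) (hT : P ⊔ L < S) :
    ∃ s ∈ S, s ∉ P ⊔ L ∧ s * s = 1 := by
  obtain ⟨s, hs, h1⟩ := SetLike.exists_of_lt hT
  obtain ⟨k, hk, hkL, ho, hk1⟩ := h.exists_odd hG hq
  have hp := h.l.syl.isPGroup
  have h2 : s * k * s⁻¹ * k⁻¹ ∈ 𝐍(P ⊔ L) :=
    mul_mem (mul_mem (mul_mem (hn hs) hk) (Subgroup.inv_mem _ (hn hs))) (Subgroup.inv_mem _ hk)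
  have h3 : ¬ Two (s * k * s⁻¹ * k⁻¹) := fun h3 => by
    have hkP : k ∈ 𝐍(P) := by
      rcases h.cj_cases (cj_eq hk).le with h4 | h4
      · exact mem_norm h4.1
      · exact absurd ((cj_eq hkL).symm.trans h4.2).symm h.ne
    have h4 : s * k * s⁻¹ ∈ 𝐍(P) := by
      rw [← (h.swap hS hn hs h1).2, norm_cj]; exact cj_mem hkL
    obtain ⟨d, hd, e⟩ := exists_conj_eq_mul hk (hG.fpf hp ho hk1)
      (h.l.syl.mem_of_two h3 (mul_mem h4 (Subgroup.inv_mem _ hkP)) h2)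
    have := hG.fpf hS ho hk1 (d⁻¹ * s) (S.mul_mem (S.inv_mem (hT.le hd)) hs) (by
      calc d⁻¹ * s * k = d⁻¹ * (s * k * s⁻¹ * k⁻¹ * k) * s := by group
        _ = _ := by rw [← e]; group)
    exact h1 (inv_mul_eq_one.mp this ▸ hd)
  have h4 := h.mul_mem_T hS hn hs h1 hs h1
  obtain ⟨d, hd, e⟩ := exists_inv_lift h2 (hG.fpf hp ((hG.two_or_odd _).resolve_left h3)
    fun e => h3 (e ▸ two_of_sq (one_mul 1))) (hn hs) h4 (by
      have := mul_mem h4 (cmem hk (Subgroup.inv_mem _ h4))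
      convert this using 1
      group)
  exact ⟨d * s, S.mul_mem (hT.le hd) hs,
    fun e => h1 ((Subgroup.mul_mem_cancel_left _ hd).mp e), e⟩

end

theorem card_cent {s : G} (hs : s •ᶜ P = L) (hs' : s •ᶜ L = P) (hss : s * s = 1) :
    q ≤ Nat.card ↥(𝐂[s] ⊓ (P ⊔ L)) := by
  have hn : P ⊔ L ≤ 𝐍(P ⊓ L) :=
    H1.le_normalizer_inf h.l.syl.le (sup_comm P L ▸ h.r.syl.le)
  have hT : s ∈ 𝐍(P ⊔ L) := mem_norm (by rw [conj_sup, hs, hs', sup_comm])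
  let W : Subgroup G :=
    { carrier := {w | w ∈ P ⊔ L ∧ s * w * s⁻¹ * w⁻¹ ∈ P ⊓ L}
      one_mem' := ⟨one_mem _, by simp⟩
      mul_mem' := fun {a b} ha hb => ⟨mul_mem ha.1 hb.1, by
        have := mul_mem ha.2 (cmem (hn ha.1) hb.2)
        convert this using 1
        group⟩
      inv_mem' := fun {a} ha => ⟨Subgroup.inv_mem _ ha.1, by
        have := cmem (hn (Subgroup.inv_mem _ ha.1)) (Subgroup.inv_mem _ ha.2)
        convert this using 1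
        group⟩ }
  have h1 : W ≤ P ⊔ L := fun w hw => hw.1
  have h2 : W ⊓ P ≤ P ⊓ L := fun w hw => ⟨hw.2, by
    have h3 : s * w * s⁻¹ ∈ L := hs ▸ cj_mem hw.2
    exact (Subgroup.inv_mem_iff _).mp ((L.mul_mem_cancel_left h3).mp hw.1.2.2)⟩
  have h3 := PGrp.relIndex_centralizer_le_card (a := s) (D := P ⊔ L) (N := W) fun g hg => by
    have h4 : s * g * s⁻¹ * g⁻¹ ∈ P ⊔ L := mul_mem (cmem hT hg) (Subgroup.inv_mem _ hg)
    refine ⟨h4, ?_⟩
    have := h.sq_mem (Subgroup.inv_mem _ h4)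
    rw [commutatorElement_def]
    convert this using 2
    calc _ = s * s * (g * s⁻¹ * g⁻¹ * s⁻¹) := by group
      _ = _ := by rw [hss]; nth_rewrite 1 [Invol.inv_eq hss]; group
  have h4 := card_sup_mul_card_inf (h1.trans h.l.syl.le)
  have h5 := card_le_of_le h2
  have h6 := card_le_of_le (sup_le h1 le_sup_left)
  have h7 := card_inf_mul_relIndex 𝐂[s] (P ⊔ L)
  rw [h.l.cardZ] at h5
  rw [h.card_T] at h6 h7
  rw [h.l.card] at h4
  have hq := h.l.two_le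
  have h8 : Nat.card W ≤ q ^ 2 := Nat.le_of_mul_le_mul_right (c := q ^ 2) (by
    rw [← h4]; exact (Nat.mul_le_mul h6 h5).trans (le_of_eq (by ring))) (by positivity)
  refine Nat.le_of_mul_le_mul_right (c := q ^ 2) ?_ (by positivity)
  calc q * q ^ 2 = q ^ 3 := by ring
    _ ≤ _ := h7 ▸ Nat.mul_le_mul_left _ (h3.trans h8)

variable (hG : CIT G)
include hG

theorem not_conj (hq : 2 < q) (hS : IsSylowIn 2 S ⊤) (hT : P ⊔ L ≤ S) (hn : S ≤ 𝐍(P ⊔ L))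
    {s g : G} (hs : s ∈ S) (h1 : s ∉ P ⊔ L) (hss : s * s = 1) : g * s * g⁻¹ ∉ P ⊔ L := by
  intro hg
  have hp := hS.isPGroup
  have hC : ∀ {u : G}, u * u = 1 → u ≠ 1 → S ≤ 𝐂[u] → 𝐂[u] = S := fun h2 h3 h4 =>
    hS.eq_of_le (hG.isPGroup_cent (two_of_sq h2) h3) h4 le_top
  have hs1 : s ≠ 1 := fun e => h1 (e ▸ one_mem _)
  obtain ⟨z, hz, hz1, hzc⟩ := exists_OmZ_cent hp le_rfl le_normalizer (ne_bot_of_mem hs hs1)
  have hzZ := h.cent_T hG (centralizer_le hT hzc)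
  obtain ⟨n, -, e⟩ := h.fusion hG le_top hg (Invol.conj_mul_self hss g) (conj_ne_one_iff.mpr hs1)
    (mem_sup_left hzZ.1) hz.2.2 hz1
  have e1 : n * g * s * (n * g)⁻¹ = z := by rw [← e]; group
  generalize n * g = c at e1
  have h2 : c •ᶜ 𝐂[s] = S := by
    rw [← cent1_conj, e1]
    exact hC hz.2.2 hz1 fun x hx => mem_cent1.mpr (mem_cent.mp hzc x hx)
  have h3 : (P ⊔ L) ⊓ c •ᶜ (𝐂[s] ⊓ (P ⊔ L)) = ⊥ := by
    by_contra h3
    obtain ⟨_, ⟨h4, v, hv, rfl⟩, h5, h6⟩ :=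
      exists_inv_mem (h.l.syl.isPGroup.to_le inf_le_left) h3
    have h7 : v * v = 1 := (MulAut.conj c).injective (by rw [map_mul, map_one]; exact h6)
    have h8 := hC h7 (conj_ne_one_iff.mp h5) (h.mem_cent_S hp hn hs h1 hv.2 h7 hv.1)
    have key : ∀ E : Subgroup G, (∀ e ∈ E, e * e = 1) → Nat.card E = q ^ 2 → z ∈ E →
        c * v * c⁻¹ ∉ E := fun E h9 h10 h11 h12 => by
      have h13 := (le_cent_of_sq h9).trans (cent_le_cent1 h12)
      rw [cent1_conj, h8, le_conj_iff] at h13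
      have := h.big_le hp hn hq h13 (sq_cj h9 _) (by rw [card_map_conj, h10]) (cj_mem h11)
      rw [← e1] at this
      exact h1 (by simpa [mul_assoc] using this)
    rcases h.inv_mem h4 h6 with h9 | h9
    · exact key P h.l.sq h.l.card hzZ.1 h9
    · exact key L h.r.sq h.r.card hzZ.2 h9
  have h4 := h.card_le hp hn (E := c •ᶜ (𝐂[s] ⊓ (P ⊔ L))) ((map_mono inf_le_left).trans h2.le)
  rw [h3, card_bot, card_map_conj] at h4
  have h5 := h.card_cent (h.swap hp hn hs h1).1 (h.swap hp hn hs h1).2 hss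
  omega

theorem syl_top (h0 : Loc (⊥ : Subgroup G)) (hq : 2 < q) : IsSylowIn 2 (P ⊔ L) ⊤ := by
  obtain ⟨S, hT, hS⟩ := IsSylowIn.exists_ge h.l.syl.isPGroup (le_top : P ⊔ L ≤ ⊤)
  have hp := hS.isPGroup
  have hn : S ≤ 𝐍(P ⊔ L) := by
    by_contra h1
    obtain ⟨g, hg, h2⟩ := SetLike.exists_of_lt (lt_inf_normalizer_of_isPGroup hp
      (inf_lt_left.mpr h1))
    have h3 : ∀ E ≤ P ⊔ L, (∀ e ∈ E, e * e = 1) → Nat.card E = q ^ 2 → g •ᶜ E ≤ P ⊔ L :=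
      fun E h3 h4 h5 => h.big_le (hp.to_le inf_le_left) inf_le_right hq
        ((map_mono (h3.trans (le_inf hT le_normalizer))).trans (cj_eq hg.2).le) (sq_cj h4 g)
        (by rw [card_map_conj, h5])
    refine h2 ⟨hg.1, mem_norm (eq_of_le_of_card_le ?_ (card_map_conj g _).ge)⟩
    rw [conj_sup]
    exact sup_le (h3 P le_sup_left h.l.sq h.l.card) (h3 L le_sup_right h.r.sq h.r.card)
  rcases hT.eq_or_lt with e | hlt
  · exact e ▸ hS
  exfalso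
  obtain ⟨s, hs, h1, hss⟩ := h.exists_inv hp hn hG hq hlt
  have hs1 : s ≠ 1 := fun e => h1 (e ▸ one_mem _)
  obtain ⟨z, hz, hz1, hzc⟩ := exists_OmZ_cent hp le_rfl le_normalizer (ne_bot_of_mem hs hs1)
  have hzT : z ∈ P ⊔ L := mem_sup_left (h.cent_T hG (centralizer_le hT hzc)).1
  refine hG.unique_syl h0 hS hzc hz.2.2 hz1 hss hs1 (fun g e => h.not_conj hG hq hS hT hn hs h1 hss
    (g := g⁻¹) (by rw [← e]; simpa [mul_assoc] using hzT)) fun g k h2 h3 => ?_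
  have h4 := Invol.conj_mul_self hz.2.2 k
  have h5 : k * z * k⁻¹ ∈ P ⊔ L := by_contra fun e => h.not_conj hG hq hS hT hn h3.1 e h4
    (g := k⁻¹) (by simpa [mul_assoc] using hzT)
  exact mem_cent.mpr fun x hx => mem_cent1.mp
    (h.mem_cent_S hp hn h2 (h.not_conj hG hq hS hT hn hs h1 hss) h5 h4 h3.2 hx)

theorem simple_of_big (h0 : Loc (⊥ : Subgroup G)) (hq : 2 < q) : IsSimpleGroup G := by
  have h1 : normalClosure ((P ⊔ L : Subgroup G) : Set G) = ⊤ := eq_top_iff.mpr fun g _ => by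
    rcases hG.two_or_odd g with h1 | h1
    · obtain ⟨k, -, hk⟩ := (h.syl_top hG h0 hq).exists_conj_le h1 le_top
      have := normalClosure_normal.conj_mem _ (le_normalClosure (hk (cj_mem (mem_zpowers g)))) k⁻¹
      simpa [mul_assoc] using this
    · exact h.mem_of_odd hG le_normalClosure h1
  have h2 := h.simple hG
  rw [h1] at h2
  exact topEquiv.symm.isSimpleGroup

end Amal

end CfsgLib.Cit
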