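import Cfsg.Agent.Lib.CIT.TI

/-!
# Fusion of involutions in the amalgam case
-/

set_option autoImplicit false

namespace CfsgLib.Cit

open Subgroup Cfsg CfsgLib.FT.BGN CfsgLib.FT.U4

variable {G : Type*} [Group G] [Finite G] {P L N : Subgroup G} {q : ℕ}

attribute [local instance] factTwo

omit [Finite G] in
theorem conj_of_odd {a b : G} (ha : a * a = 1) (hb : b * b = 1) (h : Odd (orderOf (a * b))) :
    ∃ c ∈ zpowers (a * b), c * a * c⁻¹ = b := by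
  obtain ⟨c, hc, e⟩ := Invol.exists_conj_eq_mul (Invol.inverts_mul ha hb) h
  exact ⟨c, hc, by rw [e, ← mul_assoc, ha, one_mul]⟩

namespace Half

variable (h : Half P L q) (h' : Half L P q)
include h

theorem cent_le (hG : CIT G) : 𝐂(P) ≤ P := by
  have e : OmZ P = P := le_antisymm (OmZ_le P) fun x hx => ⟨hx, le_cent_of_sq h.sq hx, h.sq x hx⟩
  have := hG.cent_OmZ_le h.toLoc h.ne_bot
  rw [e] at this
  exact (le_inf (cent_le_norm P) le_rfl).trans this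

theorem exists_far [N.Normal] (hN : P ⊔ L ≤ N) {x : G} (hx : x ∈ L) (hxP : x ∉ P)
    (hxx : x * x = 1) : ∃ T', Syl T' P ∧ T' ≠ P ⊔ L ∧
      ∃ r ∈ T', r ∈ N ∧ r ∉ P ∧ r * r = 1 := by
  obtain ⟨y, hy, hne⟩ := h.exists_cj_ne h.syl
  exact ⟨_, h.syl.cj hy, hne, _, cj_mem (mem_sup_right hx),
    Normal.conj_mem inferInstance x (hN (mem_sup_right hx)) y,
    fun e => hxP (by simpa [mul_assoc] using cmem (inv_mem hy) e), Invol.conj_mul_self hxx y⟩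

include h'

omit [Finite G] in
theorem inv_mem {t : G} (ht : t ∈ P ⊔ L) (htt : t * t = 1) : t ∈ P ∨ t ∈ L := by
  obtain ⟨p, hp, l, hl, rfl⟩ :=
    (mem_sup_iff_of_le_normalizer (le_sup_right.trans h'.syl.le)).mp ht
  by_cases h1 : l ∈ P
  · exact Or.inl (P.mul_mem hp h1)
  · refine Or.inr (L.mul_mem ((h.cent l (mem_sup_right hl) h1).le ⟨hp, mem_cent1.mpr ?_⟩).2 hl)
    calc p * l = (p * l)⁻¹ := (Invol.inv_eq htt).symm
      _ = l * p := by rw [mul_inv_rev, Invol.inv_eq (h.sq p hp), Invol.inv_eq (h'.sq l hl)]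

omit [Finite G] in
theorem ea_le {E : Subgroup G} (hE : E ≤ P ⊔ L) (hsq : ∀ e ∈ E, e * e = 1) : E ≤ P ∨ E ≤ L := by
  by_contra! hc
  obtain ⟨a, ha, h1⟩ := SetLike.not_le_iff_exists.mp hc.1
  obtain ⟨b, hb, h2⟩ := SetLike.not_le_iff_exists.mp hc.2
  have h3 := (h.inv_mem h' (hE ha) (hsq a ha)).resolve_left h1
  have h4 := (h.inv_mem h' (hE hb) (hsq b hb)).resolve_right h2
  rcases h.inv_mem h' (hE (E.mul_mem ha hb)) (hsq _ (E.mul_mem ha hb)) with h5 | h5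
  · exact h1 ((P.mul_mem_cancel_right h4).mp h5)
  · exact h2 ((L.mul_mem_cancel_left h3).mp h5)

theorem cj_eq_or {g : G} (hg : g •ᶜ P ≤ P ⊔ L) : g •ᶜ P = P ∨ g •ᶜ P = L :=
  (h.ea_le h' hg (sq_cj h.sq g)).imp (fun e => eq_of_le_of_card_le e (card_map_conj g P).ge)
    fun e => eq_of_le_of_card_le e (by rw [card_map_conj, h.card, h'.card])

theorem conj_L (hG : CIT G) [N.Normal] (hN : P ⊔ L ≤ N) {a b : G} (ha : a ∈ L) (haP : a ∉ P)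
    (hb : b ∈ L) (hbP : b ∉ P) : ∃ n ∈ N, n ∈ 𝐍(P) ∧ n * a * n⁻¹ = b := by
  obtain ⟨T', hT', hne, r, hr, hrN, hrP, hrr⟩ := h.exists_far hN ha haP (h'.sq a ha)
  have key : ∀ a ∈ L, a ∉ P → ∃ n ∈ N, n ∈ 𝐍(P) ∧ n * a * n⁻¹ = r := fun a ha haP => by
    have haa := h'.sq a ha
    obtain ⟨c, hc, e⟩ := conj_of_odd haa hrr (hG.odd_mul h.p2 h.ti h.syl hT' hne.symm
      (mem_sup_right ha) haP (haa ▸ P.one_mem) hr hrP (hrr ▸ P.one_mem)).1
    exact ⟨c, (zpowers_le.mpr (N.mul_mem (hN (mem_sup_right ha)) hrN)) hc,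
      (zpowers_le.mpr (mul_mem (h.syl.le (mem_sup_right ha)) (hT'.le hr))) hc, e⟩
  obtain ⟨m, h1, h2, e1⟩ := key a ha haP
  obtain ⟨n, h3, h4, e2⟩ := key b hb hbP
  refine ⟨n⁻¹ * m, N.mul_mem (N.inv_mem h3) h1, mul_mem (Subgroup.inv_mem _ h4) h2, ?_⟩
  calc _ = n⁻¹ * (m * a * m⁻¹) * n := by group
    _ = b := by rw [e1, ← e2]; group

theorem conj_Z (hG : CIT G) [N.Normal] (hN : P ⊔ L ≤ N) {z : G} (hz : z ∈ P ⊓ L) (h1 : z ≠ 1) :
    ∃ n ∈ N, n * z * n⁻¹ ∈ P ∧ n * z * n⁻¹ ∉ L := by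
  obtain ⟨a, ha, haP⟩ := SetLike.not_le_iff_exists.mp h.ne
  obtain ⟨T', hT', hne, r, hr, hrN, hrP, hrr⟩ := h.exists_far hN ha haP (h'.sq a ha)
  refine ⟨r, hrN, cmem (hT'.le hr) hz.1, fun e => hrP (h.ti.mem hT' h.syl hne hr ?_)⟩
  exact h.syl.mem_of_two (two_of_sq hrr) (hT'.le hr)
    (mem_norm (h.cj_eq_of_mem hG h' hz h1 (hT'.le hr) e))

end Half

theorem CIT.exists_inv_of_norm (hG : CIT G) {a b : G} (ha : a * a = 1) (hb : b * b = 1)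
    (ha1 : a ≠ 1) (hb1 : b ≠ 1) (hab : a ≠ b) (hc : a * b = b * a) {M : Subgroup G}
    (h1 : a ∈ 𝐍(M)) (h2 : b ∈ 𝐍(M)) (h0 : M ≠ ⊥) : ∃ u ∈ M, u ≠ 1 ∧ u * u = 1 := by
  rcases Nat.even_or_odd (Nat.card M) with he | ho
  · exact Suz.exists_invol_of_even he
  exfalso
  obtain ⟨m, hm, hm1⟩ := exists_ne_one h0
  have hodd : ∀ m ∈ M, Odd (orderOf m) := fun m hm => ho.of_dvd_nat (M.orderOf_dvd_natCard hm)
  have key : ∀ a : G, a * a = 1 → a ≠ 1 → a ∈ 𝐍(M) → a * m * a⁻¹ = m⁻¹ := fun a ha ha1 h1 => by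
    obtain ⟨d, -, e⟩ := exists_conj_eq_mul h1 (fun d hd e => hG a d ha ha1 e.symm (hodd d hd)) hm
    have h3 := Invol.conj_mul_self ha d
    rw [e] at h3
    rw [Invol.inv_eq ha, eq_inv_iff_mul_eq_one]
    calc a * m * a * m = a * (m * a * (m * a)) * a⁻¹ := by group
      _ = 1 := by rw [h3]; group
  refine hm1 (hG (a * b) m ?_ (fun e => hab ?_) ?_ (hodd m hm))
  · calc a * b * (a * b) = a * (b * a) * b := by group
      _ = a * a * (b * b) := by rw [← hc]; group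
      _ = 1 := by rw [ha, hb, one_mul]
  · rw [← Invol.inv_eq ha]; exact inv_eq_of_mul_eq_one_right e
  · calc a * b * m = a * (b * m * b⁻¹) * a⁻¹ * (a * b) := by group
      _ = (a * m * a⁻¹)⁻¹ * (a * b) := by rw [key b hb hb1 h2]; group
      _ = m * (a * b) := by rw [key a ha ha1 h1, inv_inv]

namespace Amal

variable (h : Amal P L q) (hG : CIT G)
include h

omit [Finite G] in
theorem inv_mem {t : G} (ht : t ∈ P ⊔ L) (htt : t * t = 1) : t ∈ P ∨ t ∈ L :=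
  h.l.inv_mem h.r ht htt

theorem ne : P ≠ L := fun e => h.l.ne e.ge

theorem cj_cases {g : G} (hg : g •ᶜ (P ⊔ L) ≤ P ⊔ L) :
    (g •ᶜ P = P ∧ g •ᶜ L = L) ∨ (g •ᶜ P = L ∧ g •ᶜ L = P) := by
  have h1 := h.l.cj_eq_or h.r ((map_mono le_sup_left).trans hg)
  have h2 := h.r.cj_eq_or h.l (((map_mono le_sup_right).trans hg).trans (sup_comm P L).le)
  rcases h1 with h1 | h1 <;> rcases h2 with h2 | h2
  · exact Or.inl ⟨h1, h2⟩
  · exact absurd (conj_inj.mp (h1.trans h2.symm)) h.ne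
  · exact absurd (conj_inj.mp (h1.trans h2.symm)) h.ne
  · exact Or.inr ⟨h1, h2⟩

theorem card_T : Nat.card ↥(P ⊔ L) = q ^ 3 := by
  rw [← card_mul_relIndex (le_sup_left : P ≤ P ⊔ L), h.l.card, h.l.idx]; ring

omit [Finite G] in
theorem le_cent : P ⊔ L ≤ 𝐂(P ⊓ L) :=
  sup_le ((le_cent_of_sq h.l.sq).trans (centralizer_le inf_le_left))
    ((le_cent_of_sq h.r.sq).trans (centralizer_le inf_le_right))

include hG

theorem fusion [N.Normal] (hN : P ⊔ L ≤ N) {a b : G} (ha : a ∈ P ⊔ L) (haa : a * a = 1)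
    (ha1 : a ≠ 1) (hb : b ∈ P ⊔ L) (hbb : b * b = 1) (hb1 : b ≠ 1) : ∃ n ∈ N, n * a * n⁻¹ = b := by
  have hN' : L ⊔ P ≤ N := sup_comm P L ▸ hN
  obtain ⟨z, hz, hz1⟩ := h.l.exists_mem
  obtain ⟨m, hm, h1, h2⟩ := h.l.conj_Z h.r hG hN hz hz1
  obtain ⟨m', hm', h3, h4⟩ := h.r.conj_Z h.l hG hN' ⟨hz.2, hz.1⟩ hz1
  have tr : ∀ {a b c : G}, (∃ n ∈ N, n * a * n⁻¹ = b) → (∃ n ∈ N, n * c * n⁻¹ = b) →
      ∃ n ∈ N, n * a * n⁻¹ = c := by
    rintro a _ c ⟨n, hn, rfl⟩ ⟨k, hk, e⟩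
    refine ⟨k⁻¹ * n, N.mul_mem (N.inv_mem hk) hn, ?_⟩
    calc _ = k⁻¹ * (n * a * n⁻¹) * k := by group
      _ = c := by rw [← e]; group
  have k1 : ∀ a ∈ P, a ∉ L → ∃ n ∈ N, n * z * n⁻¹ = a := fun a ha haL => by
    obtain ⟨n, hn, -, e⟩ := h.r.conj_L h.l hG hN' ha haL h1 h2
    exact tr ⟨m, hm, rfl⟩ ⟨n, hn, e⟩
  have key : ∀ a ∈ P ⊔ L, a * a = 1 → a ≠ 1 → ∃ n ∈ N, n * z * n⁻¹ = a := fun a ha haa ha1 => by
    by_cases h5 : a ∈ L
    · by_cases h6 : a ∈ P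
      · obtain ⟨n, hn, h7, h8⟩ := h.l.conj_Z h.r hG hN ⟨h6, h5⟩ ha1
        exact tr (k1 _ h7 h8) ⟨n, hn, rfl⟩
      · obtain ⟨n, hn, -, e⟩ := h.l.conj_L h.r hG hN h5 h6 h3 h4
        exact tr ⟨m', hm', rfl⟩ ⟨n, hn, e⟩
    · exact k1 a ((h.inv_mem ha haa).resolve_right h5) h5
  obtain ⟨n, hn, e⟩ := key a ha haa ha1
  obtain ⟨k, hk, e'⟩ := key b hb hbb hb1
  exact ⟨k * n⁻¹, N.mul_mem hk (N.inv_mem hn), by rw [← e, ← e']; group⟩

theorem cent_T : 𝐂(P ⊔ L) ≤ P ⊓ L :=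
  le_inf ((centralizer_le (le_sup_left : P ≤ P ⊔ L)).trans (h.l.cent_le hG))
    ((centralizer_le (le_sup_right : L ≤ P ⊔ L)).trans (h.r.cent_le hG))

/-- A nontrivial normal subgroup of a normal subgroup containing `T` contains `T`. -/
theorem le_of_norm [N.Normal] (hN : P ⊔ L ≤ N) {M : Subgroup G} (hM : M ≤ N) (hn : N ≤ 𝐍(M))
    (h0 : M ≠ ⊥) : P ⊔ L ≤ M := by
  obtain ⟨z, hz, hz1⟩ := h.l.exists_mem
  obtain ⟨a, ha, haP⟩ := SetLike.not_le_iff_exists.mp h.l.ne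
  obtain ⟨u, hu, hu1, huu⟩ := hG.exists_inv_of_norm (h.r.sq z hz.2) (h.r.sq a ha) hz1
    (fun e => haP (e ▸ P.one_mem)) (fun e => haP (e ▸ hz.1)) (comm_of_sq h.r.sq hz.2 ha)
    (hn (hN (mem_sup_left hz.1))) (hn (hN (mem_sup_right ha))) h0
  obtain ⟨S, h1, hS⟩ := IsSylowIn.exists_ge h.l.syl.isPGroup hN
  obtain ⟨k, hk, h2⟩ := hS.exists_conj_le (two_of_sq huu) (zpowers_le.mpr (hM hu))
  obtain ⟨w, hw, hw1, h3⟩ := exists_OmZ_cent hS.isPGroup (inf_le_left : S ⊓ M ≤ S)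
    (H1.le_normalizer_inf le_normalizer (hS.le.trans hn)) (ne_bot_of_mem
      ⟨h2 (cj_mem (mem_zpowers u)), cmem (hn hk) hu⟩ (conj_ne_one_iff.mpr hu1))
  have h4 := h.cent_T hG (centralizer_le h1 h3)
  have key : ∀ b ∈ P ⊔ L, b * b = 1 → b ∈ M := fun b hb hbb => by
    by_cases hb1 : b = 1
    · exact hb1 ▸ M.one_mem
    obtain ⟨n, hn', e⟩ := h.fusion hG hN (mem_sup_left h4.1) hw.2.2 hw1 hb hbb hb1
    exact e ▸ cmem (hn hn') hw.1.2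
  exact sup_le (fun b hb => key b (mem_sup_left hb) (h.l.sq b hb))
    fun b hb => key b (mem_sup_right hb) (h.r.sq b hb)

theorem simple : IsSimpleGroup (normalClosure ((P ⊔ L : Subgroup G) : Set G)) := by
  set N := normalClosure ((P ⊔ L : Subgroup G) : Set G)
  have hN : P ⊔ L ≤ N := le_normalClosure
  haveI : Nontrivial N := (nontrivial_iff_ne_bot N).mpr fun e =>
    h.l.ne_bot (le_bot_iff.mp (le_sup_left.trans (hN.trans e.le)))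
  refine ⟨fun M hM => or_iff_not_imp_left.mpr fun h0 => ?_⟩
  have h1 : N ≤ 𝐍(M.map N.subtype) := fun g hg => mem_normalizer_of_conj_mem (by
    rintro _ ⟨y, hy, rfl⟩
    exact ⟨_, hM.conj_mem y hy ⟨g, hg⟩, rfl⟩)
  have h2 : ∀ g : G, g •ᶜ N = N := fun g => cj_eq (by rw [normalizer_eq_top]; exact mem_top g)
  have h3 : N ≤ M.map N.subtype := by
    refine (closure_le _).mpr fun x hx => ?_
    obtain ⟨a, ha, g, rfl⟩ : ∃ a ∈ P ⊔ L, ∃ g : G, g * a * g⁻¹ = x := by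
      obtain ⟨a, ha, h4⟩ := Group.mem_conjugatesOfSet_iff.mp hx
      exact ⟨a, ha, isConj_iff.mp h4⟩
    have := h.le_of_norm hG hN (M := g⁻¹ •ᶜ M.map N.subtype)
      ((map_mono (map_subtype_le M)).trans (h2 _).le)
      (by rw [norm_cj]; exact (h2 g⁻¹).ge.trans (map_mono h1))
      (fun e => h0 (by rwa [conj_eq_bot_iff, map_eq_bot_iff_of_injective _ N.subtype_injective] at e)) ha
    simpa using mem_cj.mp this
  refine eq_top_iff.mpr fun x _ => ?_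
  obtain ⟨y, hy, e⟩ := h3 x.2
  exact Subtype.ext e ▸ hy

theorem frattini [N.Normal] (hN : P ⊔ L ≤ N) {z : G} (hz : z ∈ P ⊔ L) (hzz : z * z = 1)
    (hz1 : z ≠ 1) (g : G) : ∃ n ∈ N, n * g ∈ 𝐂[z] := by
  obtain ⟨S, h1, hS⟩ := IsSylowIn.exists_ge h.l.syl.isPGroup hN
  obtain ⟨w, hw, hw1, -⟩ := exists_OmZ_cent hS.isPGroup le_rfl le_normalizer fun e =>
    h.l.ne_bot (le_bot_iff.mp (le_sup_left.trans (h1.trans e.le)))
  have h2 : ∀ w ∈ OmZ S, w ∈ P ⊔ L := fun w hw =>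
    mem_sup_left (h.cent_T hG (centralizer_le h1 hw.2.1)).1
  obtain ⟨m, hm, e⟩ := h.fusion hG hN (h2 w hw) hw.2.2 hw1 hz hzz hz1
  obtain ⟨k, hk, h3⟩ := hS.frattini_elem (g := g * m) (by rw [normalizer_eq_top]; exact mem_top _)
  have h4 := cmem (norm_le_norm_OmZ S h3) hw
  obtain ⟨n, hn, e'⟩ := h.fusion hG hN (h2 _ h4) h4.2.2 (conj_ne_one_iff.mpr hw1) hz hzz hz1
  refine ⟨n * k, N.mul_mem hn hk, mem_cent1_of_conj_eq ?_⟩
  nth_rewrite 1 [← e]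
  rw [← e']; group

theorem mem_of_odd [N.Normal] (hN : P ⊔ L ≤ N) {y : G} (hy : Odd (orderOf y)) : y ∈ N := by
  obtain ⟨z, hz, hz1⟩ := h.l.exists_mem
  have hzz := h.l.sq z hz.1
  obtain ⟨n, hn, h1⟩ := h.frattini hG hN (mem_sup_left hz.1) hzz hz1 y
  have h2 := (hG.isPGroup_cent (two_of_sq hzz) hz1).map (QuotientGroup.mk' N)
  have h3 := mem_map_of_mem (QuotientGroup.mk' N) h1
  rw [map_mul, QuotientGroup.mk'_apply, (QuotientGroup.eq_one_iff n).mpr hn, one_mul] at h3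
  exact (QuotientGroup.eq_one_iff y).mp (Invol.eq_one_of_odd_of_mem h2 h3
    (hy.of_dvd_nat (orderOf_map_dvd (QuotientGroup.mk' N) y)))

end Amal

/-- An involution not conjugate to `z` which lies in a unique Sylow subgroup cannot exist. -/
theorem CIT.unique_syl (hG : CIT G) (h0 : Loc (⊥ : Subgroup G)) {S : Subgroup G}
    (hS : IsSylowIn 2 S ⊤) {z s : G} (hz : z ∈ 𝐂(S)) (hzz : z * z = 1) (hz1 : z ≠ 1)
    (hss : s * s = 1) (hs1 : s ≠ 1) (hn : ∀ g, g * z * g⁻¹ ≠ s)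
    (H : ∀ g k : G, g * s * g⁻¹ ∈ S → k * z * k⁻¹ ∈ S ⊓ 𝐂[g * s * g⁻¹] → k * z * k⁻¹ ∈ 𝐂(S)) :
    False := by
  have h1 : ∀ k : G, k * z * k⁻¹ ∈ 𝐂(S) → k ∈ 𝐍(S) := fun k hk => by
    have h2 : ∀ {u : G}, u * u = 1 → u ≠ 1 → u ∈ 𝐂(S) → 𝐂[u] = S := fun h2 h3 h4 =>
      hS.eq_of_le (hG.isPGroup_cent (two_of_sq h2) h3)
        (fun x hx => mem_cent1.mpr (mem_cent.mp h4 x hx)) le_top
    have := h2 (Invol.conj_mul_self hzz k) (conj_ne_one_iff.mpr hz1) hk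
    rw [cent1_conj, h2 hzz hz1 hz] at this
    exact mem_norm this
  obtain ⟨c, -, hc⟩ := hS.exists_conj_le (hG.isPGroup_cent (two_of_sq hss) hs1) le_top
  have hcs := hc (cj_mem (self_mem_cent1 s))
  have h2 : ∀ g : G, g * s * g⁻¹ ∈ S → c * g⁻¹ ∈ 𝐍(S) := fun g hg => by
    have h3 : g⁻¹ * z * g ∈ 𝐂[s] := by
      have := (cent1_conj g s).le (mem_cent1'.mpr (mem_cent.mp hz _ hg))
      exact mem_cj.mp this
    refine h1 _ (H c _ hcs ?_)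
    have e : c * g⁻¹ * z * (c * g⁻¹)⁻¹ = c * (g⁻¹ * z * g) * c⁻¹ := by group
    rw [e]
    exact ⟨hc (cj_mem h3), (cent1_conj c s).ge (cj_mem h3)⟩
  have h3 : normalClosure {z} ≤ c⁻¹ •ᶜ S := by
    refine (closure_le _).mpr fun x hx => ?_
    obtain ⟨a, ha, h4⟩ := Group.mem_conjugatesOfSet_iff.mp hx
    obtain ⟨k, rfl⟩ := isConj_iff.mp h4
    rw [Set.mem_singleton_iff.mp ha]
    have hk := Invol.conj_mul_self hzz k
    rcases hG.two_or_odd (k * z * k⁻¹ * s) with h5 | h5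
    · obtain ⟨Q, h6, h7⟩ := Invol.exists_sylow_of_isPGroup hk hss h5
      obtain ⟨g, -, hg⟩ := hS.exists_conj_le Q.isPGroup' le_top
      have := cmem (h2 g (hg (cj_mem h7))) (hg (cj_mem h6))
      exact mem_cj.mpr (by simpa [mul_assoc] using this)
    · obtain ⟨d, -, e⟩ := conj_of_odd hk hss h5
      exact absurd (by rw [← e]; group) (hn (d * k))
  exact hz1 (h0.core _ ((pg_cj hS.isPGroup _).to_le h3) (norm_bot (G := G) ▸ le_top)
    (by rw [normalizer_eq_top (normalClosure {z})]; exact le_top)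
    (subset_normalClosure (Set.mem_singleton z)))

end CfsgLib.Cit
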