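import Cfsg.Agent.Lib.CIT.Big

/-!
# The amalgam case with `q > 2`: the projective plane
-/

set_option autoImplicit false

namespace CfsgLib.Cit

open Subgroup Cfsg CfsgLib.FT.BGN CfsgLib.FT.U4

variable {G : Type*} [Group G] [Finite G] {P L : Subgroup G} {q : ℕ}

attribute [local instance] factTwo

theorem card_pre (z : G) {X : Set G} (hX : ∀ x ∈ X, ∃ g, g * z * g⁻¹ = x) :
    Nat.card {g | g * z * g⁻¹ ∈ X} = Nat.card 𝐂[z] * Nat.card X := by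
  let φ : G ⧸ 𝐂[z] → G := fun c => c.out * z * c.out⁻¹
  have h1 : ∀ g : G, φ g = g * z * g⁻¹ := fun g => by
    obtain ⟨c, e⟩ := QuotientGroup.mk_out_eq_mul 𝐂[z] g
    have := mem_cent1.mp c.2
    simp only [φ, e]
    calc _ = g * (c * z) * (c : G)⁻¹ * g⁻¹ := by group
      _ = _ := by rw [this]; group
  have h2 : Function.Injective φ := fun a b e => by
    induction a using QuotientGroup.induction_on with | H a =>
    induction b using QuotientGroup.induction_on with | H b =>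
    rw [h1, h1] at e
    refine QuotientGroup.eq.mpr (mem_cent1_of_conj_eq ?_)
    calc _ = a⁻¹ * (b * z * b⁻¹) * a := by group
      _ = _ := by rw [← e]; group
  have h3 : {g | g * z * g⁻¹ ∈ X} = QuotientGroup.mk ⁻¹' (φ ⁻¹' X) := by
    ext g; simp only [Set.mem_ofPred_eq, Set.mem_preimage, h1]
  rw [h3, QuotientGroup.card_preimage_mk, Nat.card_coe_set_eq, Nat.card_coe_set_eq,
    Set.ncard_preimage_of_injective_subset_range h2]
  intro x hx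
  obtain ⟨g, rfl⟩ := hX x hx
  exact ⟨g, h1 g⟩

theorem card_ne_one (A : Subgroup G) : Nat.card {x | x ∈ A ∧ x ≠ 1} = Nat.card A - 1 := by
  rw [Nat.card_coe_set_eq, show {x | x ∈ A ∧ x ≠ 1} = (A : Set G) \ {1} from rfl,
    Set.ncard_sdiff_singleton_of_mem A.one_mem]
  rfl

omit [Finite G] in
theorem mem_norm_inf {u : G} (hu : u * u = 1) (H : Subgroup G) : u ∈ 𝐍(H ⊓ u •ᶜ H) :=
  mem_norm (by rw [map_conj_inf, FT.cj_cj, hu, map_conj_one, inf_comm])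

theorem card_eq_of_two_trans {H : Subgroup G} {t : G} (ht : t ∉ H)
    (h : ∀ g ∉ H, ∃ a ∈ H, (a * t)⁻¹ * g ∈ H) :
    Nat.card G = Nat.card H * (1 + (t •ᶜ H).relIndex H) := by
  have h1 : MulAction.stabilizer H (t : G ⧸ H) = (t •ᶜ H).subgroupOf H := by
    ext a
    rw [MulAction.mem_stabilizer_iff, eq_comm, mem_subgroupOf, mem_cj, mul_assoc]
    exact QuotientGroup.eq
  have h2 : (Set.univ : Set (G ⧸ H)) = insert ((1 : G) : G ⧸ H) (MulAction.orbit H (t : G ⧸ H)) := by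
    refine (Set.eq_univ_of_forall fun c => ?_).symm
    induction c using QuotientGroup.induction_on with | H g =>
    by_cases e : g ∈ H
    · exact Or.inl (QuotientGroup.eq.mpr (by simpa using e))
    · obtain ⟨a, ha, e'⟩ := h g e
      exact Or.inr ⟨⟨a, ha⟩, QuotientGroup.eq.mpr e'⟩
  rw [← H.card_mul_index, relIndex, ← h1, MulAction.index_stabilizer, index, ← Set.ncard_univ (G ⧸ H), h2,
    Set.ncard_insert_of_notMem, add_comm]
  rintro ⟨a, e⟩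
  have := QuotientGroup.eq.mp (e : ((a * t : G) : G ⧸ H) = _)
  rw [mul_one, inv_mem_iff] at this
  exact ht ((H.mul_mem_cancel_left a.2).mp this)

theorem CIT.inverts (hG : CIT G) {a : G} (ha : a * a = 1) (ha1 : a ≠ 1) {M : Subgroup G}
    (h1 : a ∈ 𝐍(M)) (h : ∀ u ∈ M, u * u = 1 → u = 1) {m : G} (hm : m ∈ M) : a * m * a = m⁻¹ := by
  have ho : Odd (Nat.card M) := Nat.not_even_iff_odd.mp fun he => by
    obtain ⟨u, hu, h2, h3⟩ := Suz.exists_invol_of_even he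
    exact h2 (h u hu h3)
  obtain ⟨d, -, e⟩ := exists_conj_eq_mul h1 (fun d hd e => hG a d ha ha1 e.symm
    (ho.of_dvd_nat (M.orderOf_dvd_natCard hd))) hm
  have h3 := Invol.conj_mul_self ha d
  rw [e] at h3
  rw [eq_inv_iff_mul_eq_one]
  calc a * m * a * m = a * (m * a * (m * a)) * a⁻¹ := by group
    _ = 1 := by rw [h3]; group

theorem CIT.inverts_mod (hG : CIT G) {D M : Subgroup G} (hD : IsPGroup 2 D) (hM : M ≤ 𝐍(D))
    (hDM : D ≤ M) {a : G} (ha : a * a = 1) (h0 : a ∉ D) (haD : a ∈ 𝐍(D)) (h1 : a ∈ 𝐍(M))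
    (h : ∀ u ∈ M, u * u ∈ D → u ∈ D) {m : G} (hm : m ∈ M) : a * m * a * m ∈ D := by
  let f := QuotientGroup.mk' (D.subgroupOf 𝐍(D))
  have hf : ∀ x : 𝐍(D), f x = 1 ↔ (x : G) ∈ D := fun x => QuotientGroup.eq_one_iff x
  have hX := (hG.subgroup 𝐍(D)).of_surjective f (QuotientGroup.mk'_surjective _)
    (by rw [QuotientGroup.ker_mk']; exact hD.comap_of_injective _ (subtype_injective _))
  have := hX.inverts (a := f ⟨a, haD⟩) (M := (M.subgroupOf 𝐍(D)).map f)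
    (by rw [← map_mul, hf]; exact (congrArg (· ∈ D) ha).mpr D.one_mem) (fun e => h0 ((hf _).mp e))
    (mem_normalizer_of_conj_mem (by
      rintro _ ⟨y, hy, rfl⟩
      exact ⟨⟨a, haD⟩ * y * ⟨a, haD⟩⁻¹, cmem h1 hy, by simp only [map_mul, map_inv]⟩))
    (by
      rintro _ ⟨y, hy, rfl⟩ e
      rw [← map_mul, hf] at e
      exact (hf y).mpr (h y hy e)) (m := f ⟨m, hM hm⟩) ⟨_, hm, rfl⟩
  rw [eq_inv_iff_mul_eq_one, ← map_mul, ← map_mul, ← map_mul, hf] at this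
  exact this

theorem exists_inv_lift' {D : Subgroup G} {y : G} (hy : y ∈ 𝐍(D))
    (hf : ∀ d ∈ D, d * y = y * d → d = 1) {x : G} (hx : x ∈ 𝐍(D)) (hxx : x * x ∈ D)
    (h : x * y * x⁻¹ * y ∈ D) : ∃ d ∈ D, d * x * (d * x) = 1 ∧ d * x * y * (d * x)⁻¹ = y⁻¹ := by
  have hf' : ∀ d ∈ D, d * y⁻¹ = y⁻¹ * d → d = 1 := fun d hd e => hf d hd (by
    calc d * y = y * (y⁻¹ * d) * y := by group
      _ = _ := by rw [← e]; group)
  obtain ⟨d, hd, e⟩ := exists_conj_eq_mul (inv_mem hy) hf' h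
  have h1 : d⁻¹ * x * y * (d⁻¹ * x)⁻¹ = y⁻¹ := by
    calc _ = d⁻¹ * (x * y * x⁻¹ * y * y⁻¹) * d := by group
      _ = _ := by rw [← e]; group
  refine ⟨d⁻¹, D.inv_mem hd, hf _ ?_ ?_, h1⟩
  · have := D.mul_mem (D.mul_mem (D.inv_mem hd) (cmem hx (D.inv_mem hd))) hxx
    convert this using 1
    group
  · generalize d⁻¹ * x = u at h1
    calc u * u * y = u * (u * y * u⁻¹) * u := by group
      _ = (u * y * u⁻¹)⁻¹ * (u * u) := by rw [h1]; nth_rewrite 2 [← h1]; group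
      _ = _ := by rw [h1, inv_inv]

/-- The amalgam with `q > 2`. -/
structure Big (P L : Subgroup G) (q : ℕ) : Prop extends Amal P L q where
  cit : CIT G
  lt : 2 < q
  top : IsSylowIn 2 (P ⊔ L) ⊤

/-- Points collinear with `P`. -/
def Col (P L : Subgroup G) : Set G := {g | ∃ h ∈ 𝐍(P), ∃ m ∈ 𝐍(L), ∃ h' ∈ 𝐍(P), g = h * m * h'}

omit [Finite G] in
theorem Col.mul {g a b : G} (h : g ∈ Col P L) (ha : a ∈ 𝐍(P)) (hb : b ∈ 𝐍(P)) :
    a * g * b ∈ Col P L := by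
  obtain ⟨x, hx, m, hm, y, hy, rfl⟩ := h
  exact ⟨a * x, mul_mem ha hx, m, hm, y * b, mul_mem hy hb, by group⟩

namespace Big

variable (h : Big P L q)
include h

omit [Finite G] in
theorem symm : Big L P q := ⟨h.toAmal.symm, h.cit, h.lt, sup_comm P L ▸ h.top⟩

omit [Finite G] in
theorem mem_T {x : G} (hx : Two x) (h2 : x ∈ 𝐍(P ⊔ L)) : x ∈ P ⊔ L := by
  rw [← h.top.eq_of_le (H1.isPGroup_sup_of_le_normalizer hx h.top.isPGroup (zpowers_le.mpr h2))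
    le_sup_right le_top]
  exact mem_sup_left (mem_zpowers x)

theorem norm_le : 𝐍(P ⊔ L) ≤ 𝐍(P) := fun g hg => by
  rcases h.cit.two_or_odd g with h1 | h1
  · exact h.l.syl.le (h.mem_T h1 hg)
  have h2 : g ^ 2 ∈ 𝐍(P) := by
    refine mem_norm ?_
    rw [pow_two, ← FT.cj_cj]
    rcases h.cj_cases (cj_eq hg).le with e | e
    · rw [e.1, e.1]
    · rw [e.1, e.2]
  exact zpowers_le.mpr h2 (mem_zpowers_pow_iff.mpr (Nat.coprime_two_left.mpr h1))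

theorem norm_le' : 𝐍(P ⊔ L) ≤ 𝐍(L) := sup_comm L P ▸ h.symm.norm_le

omit [Finite G] h in
theorem mem_B {x : G} (h1 : x ∈ 𝐍(P)) (h2 : x ∈ 𝐍(L)) : x ∈ 𝐍(P ⊔ L) :=
  H1.le_normalizer_sup (zpowers_le.mpr h1) (zpowers_le.mpr h2) (mem_zpowers x)

theorem not_cj (g : G) : g •ᶜ P ≠ L := fun e => by
  obtain ⟨m, hm, h1⟩ := h.r.syl.exists_conj_le (pg_cj h.top.isPGroup g)
    ((map_mono h.l.syl.le).trans (by rw [← norm_cj, e]))
  rw [FT.cj_cj, sup_comm L P] at h1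
  have h2 := cj_eq (h.norm_le (mem_norm (eq_of_le_of_card_le h1 (card_map_conj _ _).ge)))
  rw [← FT.cj_cj, e, cj_eq hm] at h2
  exact h.ne h2.symm

section

variable {z : G} (hz : z ∈ P ⊓ L) (hz1 : z ≠ 1)
include hz hz1

theorem cent_eq : 𝐂[z] = P ⊔ L :=
  h.top.eq_of_le (h.cit.isPGroup_cent (two_of_sq (h.l.sq z hz.1)) hz1)
    (fun x hx => mem_cent1.mpr (mem_cent.mp (h.le_cent hx) z hz).symm) le_top

theorem mem_H {g : G} (hg : g * z * g⁻¹ ∈ P) : g ∈ 𝐍(P) := by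
  have h1 : g⁻¹ •ᶜ P ≤ P ⊔ L := by
    rw [← h.cent_eq hz hz1]
    intro x hx
    have := (cent1_conj g z).le (mem_cent1.mpr (comm_of_sq h.l.sq (mem_cj.mp hx) hg))
    simpa [mul_assoc] using mem_cj.mp this
  exact (inv_mem_iff (H := 𝐍(P))).mp
    (mem_norm ((h.l.cj_eq_or h.r h1).resolve_right (h.not_cj _)))

theorem mem_H' {g : G} (hg : g * z * g⁻¹ ∈ L) : g ∈ 𝐍(L) := h.symm.mem_H ⟨hz.2, hz.1⟩ hz1 hg

theorem conj {u : G} (hu : u * u = 1) (hu1 : u ≠ 1) : ∃ g, g * z * g⁻¹ = u := by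
  obtain ⟨c, -, h1⟩ := h.top.exists_conj_le (two_of_sq hu) le_top
  obtain ⟨n, -, e⟩ := h.fusion h.cit (N := ⊤) le_top (mem_sup_left hz.1) (h.l.sq z hz.1) hz1
    (h1 (cj_mem (mem_zpowers u))) (Invol.conj_mul_self hu c) (conj_ne_one_iff.mpr hu1)
  refine ⟨c⁻¹ * n, ?_⟩
  calc _ = c⁻¹ * (n * z * n⁻¹) * c := by group
    _ = u := by rw [e]; group

theorem card_conj {X : Set G} (hX : ∀ x ∈ X, x * x = 1 ∧ x ≠ 1) :
    Nat.card {g | g * z * g⁻¹ ∈ X} = q ^ 3 * Nat.card X := by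
  rw [card_pre z fun x hx => h.conj hz hz1 (hX x hx).1 (hX x hx).2, h.cent_eq hz hz1, h.card_T]

/-- The centre of an involution fixing a point is collinear with it. -/
theorem center_of_mem {g : G} (hg : g * z * g⁻¹ ∈ 𝐍(P)) :
    ∃ a ∈ 𝐍(P), ∃ m ∈ 𝐍(L), g = a * m := by
  have hu := Invol.conj_mul_self (h.l.sq z hz.1) g
  obtain ⟨c, hc, h1⟩ := h.l.syl.exists_conj_le (two_of_sq hu) (zpowers_le.mpr hg)
  have e : c * (g * z * g⁻¹) * c⁻¹ = c * g * z * (c * g)⁻¹ := by group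
  rcases h.inv_mem (h1 (cj_mem (mem_zpowers _))) (Invol.conj_mul_self hu c) with h2 | h2
  · exact ⟨g, (mul_mem_cancel_left hc).mp (h.mem_H hz hz1 (e ▸ h2)), 1, one_mem _, by group⟩
  · exact ⟨c⁻¹, inv_mem hc, c * g, h.mem_H' hz hz1 (e ▸ h2), by group⟩

theorem col_of_conj {g : G} (hg : g * z * g⁻¹ ∈ Col P L) : g ∈ Col P L := by
  have key : ∀ g : G, ∀ m ∈ 𝐍(L), ∀ a ∈ 𝐍(P), g * z * g⁻¹ = m * a → g ∈ Col P L := by
    intro g m hm a ha e
    by_cases h1 : m ∈ 𝐍(P)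
    · obtain ⟨b, hb, n, hn, rfl⟩ := h.center_of_mem hz hz1 (e ▸ mul_mem h1 ha)
      exact ⟨b, hb, n, hn, 1, one_mem _, by group⟩
    have hu := Invol.conj_mul_self (h.l.sq z hz.1) g
    rw [e] at hu
    have h2 : m * z * m⁻¹ ∈ L := cmem hm hz.2
    have h3 : a * (m * z * m⁻¹) * a⁻¹ ∈ P ⊔ L := by
      refine h.mem_T (two_of_sq (Invol.conj_mul_self (h.r.sq _ h2) a))
        (mem_B (cmem (le_normalizer ha) (h.l.syl.le (mem_sup_right h2))) ?_)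
      have h4 := cmem (le_normalizer (inv_mem hm))
        (h.r.syl.le (mem_sup_right (cmem (inv_mem ha) hz.1)))
      have e2 : a * m = m⁻¹ * a⁻¹ := by
        rw [← mul_inv_rev, ← mul_eq_one_iff_eq_inv]
        calc _ = m⁻¹ * (m * a * (m * a)) * m := by group
          _ = 1 := by rw [hu]; group
      convert h4 using 1
      calc _ = a * m * z * (a * m)⁻¹ := by group
        _ = _ := by rw [e2]; group
    have h4 := h.norm_le' (mem_norm (h.l.ti.cj_eq h.l.syl ha (mem_sup_right h2)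
      (fun e => h1 (h.mem_H hz hz1 e)) h3))
    obtain ⟨b, hb, n, hn, rfl⟩ := h.symm.center_of_mem ⟨hz.2, hz.1⟩ hz1 (e ▸ mul_mem hm h4)
    exact ⟨1, one_mem _, b, hb, n, hn, by group⟩
  obtain ⟨a, ha, m, hm, b, hb, e⟩ := hg
  have := Col.mul (key (a⁻¹ * g) m hm (b * a) (mul_mem hb ha) (by
    calc _ = a⁻¹ * (g * z * g⁻¹) * a := by group
      _ = _ := by rw [e]; group)) ha (one_mem _)
  simpa using this

end

theorem card_H : Nat.card 𝐍(P) = q ^ 3 * (q ^ 2 - 1) := by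
  obtain ⟨z, hz, hz1⟩ := h.l.exists_mem
  rw [← h.l.card, ← card_ne_one, ← h.card_conj hz hz1 fun x hx => ⟨h.l.sq x hx.1, hx.2⟩]
  refine Nat.card_congr (Equiv.setCongr (Set.ext fun g => ⟨fun hg => ⟨cmem hg hz.1,
    conj_ne_one_iff.mpr hz1⟩, fun hg => h.mem_H hz hz1 hg.1⟩))

theorem card_B : Nat.card 𝐍(P ⊔ L) = q ^ 3 * (q - 1) := by
  obtain ⟨z, hz, hz1⟩ := h.l.exists_mem
  have := h.card_conj hz hz1 (X := {x | x ∈ P ⊓ L ∧ x ≠ 1}) fun x hx => ⟨h.l.sq x hx.1.1, hx.2⟩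
  rw [card_ne_one, h.l.cardZ] at this
  rw [← this]
  refine Nat.card_congr (Equiv.setCongr (Set.ext fun g => ⟨fun hg => ⟨⟨cmem (h.norm_le hg) hz.1,
    cmem (h.norm_le' hg) hz.2⟩, conj_ne_one_iff.mpr hz1⟩,
    fun hg => mem_B (h.mem_H hz hz1 hg.1.1) (h.mem_H' hz hz1 hg.1.2)⟩))

theorem eq_one_of_not_col {u v : G} (hu : u ∉ Col P L) (h1 : v ∈ 𝐍(P) ⊓ u •ᶜ 𝐍(P))
    (hv : v * v = 1) : v = 1 := by
  by_contra hv1
  obtain ⟨z, hz, hz1⟩ := h.l.exists_mem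
  obtain ⟨g, rfl⟩ := h.conj hz hz1 hv hv1
  obtain ⟨a, ha, m, hm, e⟩ := h.center_of_mem hz hz1 h1.1
  obtain ⟨b, hb, n, hn, e'⟩ := h.center_of_mem hz hz1 (g := u⁻¹ * g)
    (by simpa [mul_assoc] using mem_cj.mp h1.2)
  refine hu ⟨a, ha, m * n⁻¹, mul_mem hm (inv_mem hn), b⁻¹, inv_mem hb, ?_⟩
  calc u = g * (u⁻¹ * g)⁻¹ := by group
    _ = _ := by rw [e', e]; group

theorem exists_two_pow : ∃ n, q = 2 ^ n := by
  obtain ⟨n, hn⟩ := IsPGroup.iff_card.mp (h.l.p2.to_le (inf_le_left : P ⊓ L ≤ P))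
  exact ⟨n, h.l.cardZ ▸ hn⟩

/-- Either any two points are collinear, or there is a large abelian subgroup. -/
theorem col_or : (∀ g, g ∈ Col P L) ∨
    ∃ D : Subgroup G, D ≤ 𝐂(D) ∧ Nat.card D = q ^ 2 - 1 := by
  classical
  refine or_iff_not_imp_left.mpr fun hc => ?_
  obtain ⟨g₀, hg₀⟩ := not_forall.mp hc
  obtain ⟨z, hz, hz1⟩ := h.l.exists_mem
  have hzz := h.l.sq z hz.1
  have hq := h.lt
  have hq2 : 0 < q ^ 2 - 1 := by have : 1 < q ^ 2 := by nlinarith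
                                 omega
  set J : Set G := {u | ∃ g ∉ Col P L, g * z * g⁻¹ = u}
  have hJ : ∀ u ∈ J, u * u = 1 ∧ u ≠ 1 := by
    rintro _ ⟨g, -, rfl⟩
    exact ⟨Invol.conj_mul_self hzz g, conj_ne_one_iff.mpr hz1⟩
  have hJ' : ∀ u ∈ J, u ∉ Col P L := by
    rintro _ ⟨g, hg, rfl⟩ e
    exact hg (h.col_of_conj hz hz1 e)
  set t : Set (G ⧸ 𝐍(P)) := QuotientGroup.mk '' (Col P L)ᶜ
  have h1 : {g | g * z * g⁻¹ ∈ J} = QuotientGroup.mk ⁻¹' t := by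
    ext g
    constructor
    · rintro ⟨g', hg', e⟩
      refine ⟨g', hg', QuotientGroup.eq.mpr (h.mem_H hz hz1 ?_)⟩
      have : g'⁻¹ * g * z * (g'⁻¹ * g)⁻¹ = z := by
        calc _ = g'⁻¹ * (g * z * g⁻¹) * g' := by group
          _ = z := by rw [← e]; group
      exact this.symm ▸ hz.1
    · rintro ⟨g', hg', e⟩
      refine ⟨g, fun e' => hg' ?_, rfl⟩
      simpa using Col.mul e' (one_mem _) (inv_mem (QuotientGroup.eq.mp e))
  have h2 := h.card_conj hz hz1 hJ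
  rw [h1, QuotientGroup.card_preimage_mk, h.card_H, mul_assoc,
    Nat.mul_right_inj (by positivity), Nat.card_coe_set_eq, Nat.card_coe_set_eq,
    Set.ncard_eq_toFinset_card t, Set.ncard_eq_toFinset_card J] at h2
  obtain ⟨c, -, h3⟩ := Finset.exists_le_card_fiber_of_mul_le_card_of_maps_to
    (f := (QuotientGroup.mk : G → G ⧸ 𝐍(P))) (s := (Set.toFinite J).toFinset)
    (t := (Set.toFinite t).toFinset) (n := q ^ 2 - 1)
    (fun u hu => by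
      rw [Set.Finite.mem_toFinset] at hu ⊢
      exact ⟨u, hJ' u hu, rfl⟩)
    ⟨g₀, (Set.Finite.mem_toFinset _).mpr ⟨g₀, hg₀, rfl⟩⟩ (by rw [← h2, mul_comm])
  obtain ⟨u, hu⟩ := Finset.card_pos.mp (hq2.trans_le h3)
  simp only [Finset.mem_filter, Set.Finite.mem_toFinset] at hu
  obtain ⟨huu, hu1⟩ := hJ u hu.1
  set D := 𝐍(P) ⊓ u •ᶜ 𝐍(P) with hD
  have h4 : ∀ v ∈ D, v * v = 1 → v = 1 := fun v hv => h.eq_one_of_not_col (hJ' u hu.1) hv
  have h5 : u ∈ 𝐍(D) := mem_norm_inf huu _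
  have h6 : ∀ m ∈ D, u * m * u = m⁻¹ := fun m hm => h.cit.inverts huu hu1 h5 h4 hm
  refine ⟨D, fun a ha => mem_cent.mpr fun b hb => ?_, le_antisymm (Nat.le_of_dvd hq2 ?_) ?_⟩
  · rw [← inv_inj, ← h6 _ (D.mul_mem hb ha), mul_inv_rev, ← h6 a ha, ← h6 b hb]
    calc _ = u * b * (u * u) * a * u := by rw [huu]; group
      _ = _ := by group
  · have ho : Odd (Nat.card D) := Nat.not_even_iff_odd.mp fun he => by
      obtain ⟨v, hv, h7, h8⟩ := Suz.exists_invol_of_even he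
      exact h7 (h4 v hv h8)
    obtain ⟨n, hn⟩ := h.exists_two_pow
    refine Nat.Coprime.dvd_of_dvd_mul_left (m := q ^ 3) ?_
      (h.card_H ▸ card_dvd_of_le (inf_le_left : D ≤ 𝐍(P)))
    rw [hn]
    exact ((Nat.coprime_two_right.mpr ho).pow_right _).pow_right _
  · refine h3.trans ?_
    rw [← Nat.card_eq_finsetCard]
    refine Nat.card_le_card_of_injective (fun v => ⟨u * v, ?_⟩) fun v w e => ?_
    · have hv := v.2
      simp only [Finset.mem_filter, Set.Finite.mem_toFinset] at hv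
      have h7 := QuotientGroup.eq.mp (hu.2.trans hv.2.symm)
      rw [Invol.inv_eq huu] at h7
      refine ⟨h7, mem_cj.mpr ?_⟩
      have h8 := inv_mem h7
      rw [mul_inv_rev, Invol.inv_eq huu, Invol.inv_eq (hJ _ hv.1).1] at h8
      simpa using h8
    · exact Subtype.ext (mul_left_cancel (congrArg Subtype.val e : u * v = u * w))

theorem mem_L {t x : G} (ht : t ∈ 𝐍(L)) (h1 : t ∉ 𝐍(P)) (hx : x ∈ 𝐍(P ⊔ L) ⊓ t •ᶜ 𝐍(P ⊔ L))
    (h2 : Two x) : x ∈ L := by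
  refine h.r.ti.mem h.r.syl (h.r.syl.cj ht) (fun e => h1 (h.symm.norm_le' (mem_norm e.symm)))
    (sup_comm P L ▸ h.mem_T h2 hx.1) (mem_cj.mpr (sup_comm P L ▸ h.mem_T ?_ (mem_cj.mp hx.2)))
  have := pg_cj h2 t⁻¹
  rwa [FT.cj_zpowers, inv_inv] at this

theorem two_trans {t g : G} (ht : t ∈ 𝐍(L)) (h1 : t ∉ 𝐍(P)) (hg : g ∈ 𝐍(L)) (h2 : g ∉ 𝐍(P)) :
    ∃ x ∈ P ⊔ L, (x * t)⁻¹ * g ∈ 𝐍(P) := by
  obtain ⟨z, hz, hz1⟩ := h.l.exists_mem
  have hT : P ⊔ L ≤ 𝐍(L) := sup_comm L P ▸ h.r.syl.le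
  have hq := h.lt
  obtain ⟨x, hx, w, hw, e⟩ := (count_conj (T := P ⊔ L) (D := L) (V := L) (W := P ⊓ L)
    (W' := t •ᶜ (P ⊓ L)) hT inf_le_right (FT.cj_le_of_norm inf_le_right ht)
    (fun x hx w hw hw1 e => h1 ((mul_mem_cancel_left (h.l.syl.le hx)).mp (h.mem_H (mem_cj.mp hw)
      (by simpa using (conj_ne_one_iff (g := t⁻¹)).mpr hw1) (by simpa [mul_assoc] using e.1))))
    (fun x hx w hw hw1 e => h.mem_L ht h1 ⟨le_normalizer hx, mem_cj.mpr (mem_B (h.mem_H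
      (mem_cj.mp hw) (by simpa using (conj_ne_one_iff (g := t⁻¹)).mpr hw1)
      (by simpa [mul_assoc] using (mem_cj.mp e).1))
      (mul_mem (mul_mem (inv_mem ht) (hT hx)) ht))⟩ (two_of_mem h.top.isPGroup hx))).2
    (by
      rw [sup_comm P L, h.r.idx, card_map_conj, h.l.cardZ, h.r.card]
      obtain ⟨n, rfl⟩ : ∃ n, q = n + 1 := ⟨q - 1, by omega⟩
      rw [Nat.add_sub_cancel]; ring) _ (cmem hg hz.2) fun e => h2 (h.mem_H hz hz1 e.1)
  refine ⟨x, hx, h.mem_H hz hz1 ?_⟩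
  have : (x * t)⁻¹ * g * z * ((x * t)⁻¹ * g)⁻¹ = t⁻¹ * w * t := by
    calc _ = (x * t)⁻¹ * (g * z * g⁻¹) * (x * t) := by group
      _ = _ := by rw [← e]; group
  exact this ▸ (mem_cj.mp hw).1

theorem exists_mul {t b : G} (ht : t ∈ 𝐍(L)) (h1 : t ∉ 𝐍(P)) (hb : b ∈ 𝐍(P ⊔ L)) :
    ∃ x ∈ P ⊔ L, x⁻¹ * b ∈ 𝐍(P ⊔ L) ⊓ t •ᶜ 𝐍(P ⊔ L) := by
  obtain ⟨x, hx, e⟩ := h.two_trans ht h1 (mul_mem (h.norm_le' hb) ht)
    fun e => h1 ((mul_mem_cancel_left (h.norm_le hb)).mp e)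
  have h2 := mul_mem (inv_mem (le_normalizer hx)) hb
  exact ⟨x, hx, h2, mem_cj.mpr (mem_B (by simpa [mul_assoc] using e)
    (mul_mem (mul_mem (inv_mem ht) (h.norm_le' h2)) ht))⟩

theorem exists_inv : ∃ t ∈ 𝐍(L), t ∉ 𝐍(P) ∧ t * t = 1 := by
  obtain ⟨a, ha, haL⟩ := SetLike.not_le_iff_exists.mp h.r.ne
  obtain ⟨T', hT', hne, r, hr, -, hrL, hrr⟩ := h.r.exists_far (N := ⊤) le_top ha haL (h.l.sq a ha)
  exact ⟨r, hT'.le hr, fun e => hrL (h.r.ti.mem hT' h.r.syl hne hr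
    (h.symm.mem_T (two_of_sq hrr) (mem_B (hT'.le hr) e))), hrr⟩

theorem exists_inverts {k : G} (hk : k ∈ 𝐍(P ⊔ L)) (ho : Odd (orderOf k)) (hk1 : k ≠ 1) :
    ∃ t ∈ 𝐍(L), t ∉ 𝐍(P) ∧ t * t = 1 ∧ t * k * t = k⁻¹ := by
  obtain ⟨t, ht, h1, htt⟩ := h.exists_inv
  obtain ⟨x, hx, h2⟩ := h.exists_mul ht h1 hk
  obtain ⟨y, hy, e⟩ := exists_conj_eq_mul hk (h.cit.fpf h.top.isPGroup ho hk1) (inv_mem hx)
  rw [← e] at h2
  have hLB : L ≤ 𝐍(P ⊔ L) := le_sup_right.trans le_normalizer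
  have h3 := h.cit.inverts_mod h.r.p2 (inf_le_left.trans h.norm_le')
    (le_inf hLB ((cj_eq ht).ge.trans (map_mono hLB))) htt (fun e => h1 (h.norm_le (hLB e))) ht
    (mem_norm_inf htt _) (fun u hu e => h.mem_L ht h1 hu (two_of_sq_mem h.r.p2 e)) h2
  obtain ⟨d, hd, h4, h5⟩ := exists_inv_lift' (h.norm_le' h2.1) (h.cit.fpf h.r.p2
    (by rwa [orderOf_conj]) (conj_ne_one_iff.mpr hk1)) ht (htt ▸ L.one_mem)
    (by rwa [Invol.inv_eq htt])
  have hy' := le_normalizer hy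
  refine ⟨y⁻¹ * (d * t) * y⁻¹⁻¹, cmem (le_normalizer (inv_mem (h.norm_le' hy')))
    (mul_mem (le_normalizer hd) ht), fun e => h1 ?_, Invol.conj_mul_self h4 _, ?_⟩
  · have := cmem (le_normalizer (h.norm_le hy')) e
    rw [← mul_mem_cancel_left (h.norm_le (hLB hd))]
    simpa [mul_assoc] using this
  · rw [Invol.inv_eq h4] at h5
    calc _ = y⁻¹ * (d * t * (y * k * y⁻¹) * (d * t)) * y := by group
      _ = _ := by rw [h5]; group

theorem card_G (hc : ∀ g, g ∈ Col P L) :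
    Nat.card G = q ^ 3 * (q - 1) * ((q + 1) * (q ^ 2 + q + 1)) := by
  obtain ⟨t, ht, h1, htt⟩ := h.exists_inv
  obtain ⟨z, hz, hz1⟩ := h.l.exists_mem
  have h2 : 𝐍(P) ⊓ t •ᶜ 𝐍(P) = 𝐍(P ⊔ L) ⊓ t •ᶜ 𝐍(P ⊔ L) := by
    refine le_antisymm (fun a ha => ?_) (inf_le_inf h.norm_le (map_mono h.norm_le))
    have h3 : a ∈ 𝐍(P ⊔ L) := mem_norm (h.l.ti.cj_eq h.l.syl ha.1 (mem_sup_right (cmem ht hz.2))
      (fun e => h1 (h.mem_H hz hz1 e)) (h.mem_T (two_of_sq (Invol.conj_mul_self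
        (Invol.conj_mul_self (h.l.sq z hz.1) t) a)) (mem_B (cmem (le_normalizer ha.1)
        (h.l.syl.le (mem_sup_right (cmem ht hz.2)))) (by
          have := cmem (le_normalizer ht) (h.r.syl.le (mem_sup_right (cmem (mem_cj.mp ha.2) hz.1)))
          simpa [mul_assoc] using this))))
    exact ⟨h3, mem_cj.mpr (mem_B (mem_cj.mp ha.2)
      (mul_mem (mul_mem (inv_mem ht) (h.norm_le' h3)) ht))⟩
  set D := 𝐍(P ⊔ L) ⊓ t •ᶜ 𝐍(P ⊔ L)
  have hLB : L ≤ 𝐍(P ⊔ L) := le_sup_right.trans le_normalizer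
  have h3 : (P ⊔ L) ⊓ D = L := le_antisymm
    (fun x hx => h.mem_L ht h1 hx.2 (two_of_mem h.top.isPGroup hx.1))
    (le_inf le_sup_right (le_inf hLB ((cj_eq ht).ge.trans (map_mono hLB))))
  have h4 : D ⊔ (P ⊔ L) = 𝐍(P ⊔ L) := le_antisymm (sup_le inf_le_left le_normalizer) fun b hb => by
    obtain ⟨x, hx, e⟩ := h.exists_mul ht h1 hb
    simpa using mul_mem (mem_sup_right hx : x ∈ D ⊔ (P ⊔ L)) (mem_sup_left e)
  have h5 : Nat.card D * q ^ 3 = q ^ 3 * (q - 1) * q ^ 2 := by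
    have := card_sup_mul_card_inf (inf_le_left : D ≤ 𝐍(P ⊔ L))
    rw [h4, inf_comm, h3, h.card_B, h.r.card, h.card_T] at this
    exact this.symm
  have h6 := card_inf_mul_relIndex (t •ᶜ 𝐍(P)) 𝐍(P)
  rw [inf_comm, h2, h.card_H] at h6
  have hq := h.lt
  rw [card_eq_of_two_trans h1 fun g hg => ?_, h.card_H]
  · obtain ⟨n, rfl⟩ : ∃ n, q = n + 1 := ⟨q - 1, by omega⟩
    have e : (n + 1) ^ 2 - 1 = n * (n + 2) := by rw [Nat.sub_eq_iff_eq_add (by nlinarith)]; ring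
    rw [Nat.add_sub_cancel] at h5 ⊢
    rw [e] at h6 ⊢
    rw [mul_comm, mul_assoc, Nat.mul_right_inj (by positivity)] at h5
    have h7 : (t •ᶜ 𝐍(P)).relIndex 𝐍(P) = (n + 1) * (n + 2) := by
      refine Nat.eq_of_mul_eq_mul_left (Nat.card_pos (α := D)) ?_
      rw [h6, h5]; ring
    rw [h7]; ring
  · obtain ⟨a, ha, m, hm, b, hb, rfl⟩ := hc g
    obtain ⟨x, hx, e⟩ := h.two_trans ht h1 hm fun e => hg (mul_mem (mul_mem ha e) hb)
    exact ⟨a * x, mul_mem ha (h.l.syl.le hx), by simpa [mul_assoc] using mul_mem e hb⟩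

end Big

end CfsgLib.Cit
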