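import Cfsg.Agent.Lib.CIT.Model
import Cfsg.Agent.Lib.CIT.Basic

/-!
# `O₂(G)` is elementary abelian if `G / O₂(G)` is `SL₂(2^n)` or `Sz(q)`
-/

set_option autoImplicit false

namespace CfsgLib.Cit

open Subgroup Cfsg CfsgLib.FT.BGN CfsgLib.FT.U4 Finset
open scoped commutatorElement

theorem exists_add_char {G : Type*} [Group G] [Finite G] (p : ℕ) [Fact p.Prime] {A : Subgroup G}
    (hc : A ≤ 𝐂(A)) (h : ∀ a ∈ A, a ^ (p - 1) = 1) {a : G} (ha : a ∈ A) (h1 : a ≠ 1) :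
    ∃ l : G → ZMod (p - 1), (∀ x ∈ A, ∀ y ∈ A, l (x * y) = l x + l y) ∧ l a ≠ 0 := by
  classical
  letI : CommGroup A :=
    { mul_comm := fun x y => Subtype.ext (mem_cent.mp (hc y.2) x x.2) }
  haveI : NeZero (p - 1) := ⟨Nat.sub_ne_zero_of_lt (Fact.out : p.Prime).one_lt⟩
  haveI := HasEnoughRootsOfUnity.of_dvd (ZMod p)
    (Monoid.exponent_dvd_of_forall_pow_eq_one fun a : A => Subtype.ext (h a a.2))
  obtain ⟨φ, hφ⟩ := CommGroup.exists_apply_ne_one_of_hasEnoughRootsOfUnity A (ZMod p)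
    (a := ⟨a, ha⟩) fun e => h1 (congrArg Subtype.val e)
  let e : (ZMod p)ˣ ≃* Multiplicative (ZMod (p - 1)) := mulEquivOfCyclicCardEq (by
    rw [Nat.card_eq_fintype_card, ZMod.card_units]; simp)
  refine ⟨fun x => if hx : x ∈ A then (e (φ ⟨x, hx⟩)).toAdd else 0, fun x hx y hy => ?_, ?_⟩
  · simp only [hx, hy, A.mul_mem hx hy, dite_true, ← toAdd_mul, ← map_mul]
    rfl
  · simpa [ha] using hφ

variable {G : Type*} [Group G] [Finite G] {X : Type*} [Group X] {f : G →* X}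

theorem CIT.fpf_fun (hG : CIT G) (hf : Function.Surjective f) (hk : IsPGroup 2 f.ker)
    {A : Type*} [AddCommGroup A] {H : Subgroup G} [hH : H.Normal] (hHk : H ≤ f.ker) {l : G → A}
    (hl : ∀ x ∈ H, ∀ y ∈ H, l (x * y) = l x + l y) {e : G} (he : e ∈ H) {φ : X → A}
    (hφ : ∀ a, φ (f a) = l (a * e * a⁻¹)) : Fpf φ := by
  intro y n g h h1 h2 h3
  obtain ⟨y, rfl⟩ := hf y
  obtain ⟨g, rfl⟩ := hf g
  obtain ⟨h, rfl⟩ := hf h
  have h4 := hG.odd_of_map f (h1.of_dvd_nat (orderOf_dvd_of_pow_eq_one h2)) h3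
  have h5 : y ^ n = 1 := Invol.eq_one_of_odd_of_mem hk
    (by rw [MonoidHom.mem_ker, map_pow, h2]) (h4.of_dvd_nat (orderOf_pow_dvd n))
  obtain ⟨d, hd, e1⟩ := exists_conj_eq_mul (by rw [normalizer_eq_top]; exact mem_top _)
    (hG.fpf (hk.to_le hHk) h4 fun e => h3 (by rw [e, map_one])) (hH.conj_mem e he h)
  have key : ∀ j, φ (f g * f y ^ j * f h) =
      l (g * y ^ (j + 1) * d⁻¹ * (g * y ^ (j + 1))⁻¹) - l (g * y ^ j * d⁻¹ * (g * y ^ j)⁻¹) := by
    intro j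
    rw [← map_pow, ← map_mul, ← map_mul, hφ, eq_sub_iff_add_eq',
      ← hl _ (hH.conj_mem _ (H.inv_mem hd) _) _ (hH.conj_mem e he _)]
    congr 1
    calc _ = g * y ^ j * d⁻¹ * (h * e * h⁻¹ * y) * (g * y ^ (j + 1))⁻¹ := by group
      _ = _ := by rw [← e1]; group
  simp only [key, sum_range_sub (fun j => l (g * y ^ j * d⁻¹ * (g * y ^ j)⁻¹)), h5, pow_zero,
    sub_self]

theorem exists_comm_OmZ {D : Subgroup G} [hD : D.Normal] (hp : IsPGroup 2 D) (hc : ¬ D ≤ 𝐂(D)) :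
    ∃ e ∈ D, (∀ d ∈ D, ⁅e, d⁆ ∈ OmZ D) ∧ e ∉ 𝐂(D) := by
  haveI := Fact.mk Nat.prime_two
  haveI : (D ⊓ 𝐂(D)).Normal := inferInstance
  obtain ⟨_, ⟨⟨e, he, rfl⟩, h1, h2⟩, h3, -⟩ := exists_OmZ_cent
    (hp.map (QuotientGroup.mk' (D ⊓ 𝐂(D)))) le_rfl le_normalizer fun e => hc (by
      rw [Subgroup.map_eq_bot_iff, QuotientGroup.ker_mk'] at e
      exact e.trans inf_le_right)
  have h4 : e * e ∈ D ⊓ 𝐂(D) := (QuotientGroup.eq_one_iff _).mp h2
  refine ⟨e, he, fun d hd => ?_, fun h5 => h3 ((QuotientGroup.eq_one_iff _).mpr ⟨he, h5⟩)⟩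
  have h5 : ⁅e, d⁆ ∈ D ⊓ 𝐂(D) := (QuotientGroup.eq_one_iff _).mp (by
    have := mem_cent.mp h1 _ (mem_map_of_mem _ hd)
    rw [← QuotientGroup.mk'_apply, map_commutatorElement, commutatorElement_eq_one_iff_mul_comm,
      this])
  refine ⟨h5.1, h5.2, ?_⟩
  calc ⁅e, d⁆ * ⁅e, d⁆ = (e * ⁅e, d⁆) * e⁻¹ * ⁅e, d⁆ := by rw [mem_cent.mp h5.2 e he]; group
    _ = e * e * d * (e * e)⁻¹ * d⁻¹ := by simp only [commutatorElement_def]; group
    _ = 1 := by rw [← mem_cent.mp h4.2 d hd]; group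

variable {F : Type*} [Field F] [Fintype F] [CharP F 2] {ι : Type} [Fintype ι]

theorem CIT.ker_comm (hG : CIT G) (fr : Fr X F ι) (hf : Function.Surjective f)
    (hk : IsPGroup 2 f.ker) : f.ker ≤ 𝐂(f.ker) := by
  classical
  haveI := Finite.of_surjective f hf
  haveI := Fact.mk Nat.prime_three
  by_contra hc
  obtain ⟨e, he, h1, h2⟩ := exists_comm_OmZ hk hc
  obtain ⟨d, hd, h3⟩ : ∃ d ∈ f.ker, ⁅e, d⁆ ≠ 1 := by
    by_contra! h3
    exact h2 (mem_cent.mpr fun d hd => (commutatorElement_eq_one_iff_mul_comm.mp (h3 d hd)).symm)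
  set D := f.ker
  have hD : D.Normal := inferInstance
  haveI hV : (OmZ D).Normal := normal_of_le_normalizer_top
    (le_trans (by rw [normalizer_eq_top]) (norm_le_norm_OmZ D))
  obtain ⟨l0, hl0, h4⟩ := exists_add_char 3 (le_cent_of_sq (OmZ_sq D))
    (fun a ha => by rw [sq, ha.2.2]) (h1 d hd) h3
  let l : G → F := fun x => ZMod.castHom (dvd_refl 2) F (l0 x)
  have hl : ∀ x ∈ OmZ D, ∀ y ∈ OmZ D, l (x * y) = l x + l y := fun x hx y hy => by
    simp only [l, hl0 x hx y hy, map_add]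
  let M : Subgroup G :=
    { carrier := {e | e ∈ D ∧ ∀ d ∈ D, ⁅e, d⁆ ∈ OmZ D}
      one_mem' := ⟨D.one_mem, fun d _ => by simp [one_mem]⟩
      mul_mem' := fun {a b} ha hb => ⟨D.mul_mem ha.1 hb.1, fun d hd => by
        have := mul_mem (hV.conj_mem _ (hb.2 d hd) a) (ha.2 d hd)
        convert this using 1
        simp only [commutatorElement_def]; group⟩
      inv_mem' := fun {a} ha => ⟨D.inv_mem ha.1, fun d hd => by
        have := hV.conj_mem _ (inv_mem (ha.2 d hd)) a⁻¹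
        convert this using 1
        simp only [commutatorElement_def]; group⟩ }
  haveI hM : M.Normal := ⟨fun a ha g => ⟨hD.conj_mem a ha.1 g, fun d hd => by
    have := hV.conj_mem _ (ha.2 _ (hD.conj_mem d hd g⁻¹)) g
    convert this using 1
    simp only [commutatorElement_def]; group⟩⟩
  have hcj : ∀ v ∈ OmZ D, ∀ x ∈ D, x * v * x⁻¹ = v := fun v hv x hx => by
    rw [mem_cent.mp hv.2.1 x hx, mul_inv_cancel_right]
  have m1 : ∀ a ∈ M, ∀ b ∈ M, ∀ x ∈ D, ⁅a * b, x⁆ = ⁅b, x⁆ * ⁅a, x⁆ := fun a ha b hb x hx => by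
    rw [← hcj _ (hb.2 x hx) a ha.1]; simp only [commutatorElement_def]; group
  have m2 : ∀ a ∈ M, ∀ x ∈ D, ∀ y ∈ D, ⁅a, x * y⁆ = ⁅a, x⁆ * ⁅a, y⁆ := fun a ha x hx y hy => by
    rw [← hcj _ (ha.2 y hy) x hx]; simp only [commutatorElement_def]; group
  have m3 : ∀ a ∈ M, ∀ x ∈ D, ∀ y ∈ D, ∀ z ∈ D, ⁅y * a * y⁻¹, z * x * z⁻¹⁆ = ⁅a, x⁆ := by
    intro a ha x hx y hy z hz
    have h5 : y * a * y⁻¹ = (⁅a, y⁆)⁻¹ * a := by simp only [commutatorElement_def]; group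
    have h6 := inv_mem (ha.2 y hy)
    have h7 := hD.conj_mem x hx z
    rw [h5, m1 _ ⟨h6.1, fun d hd => by
        rw [commutatorElement_eq_one_iff_mul_comm.mpr (mem_cent.mp h6.2.1 d hd).symm]
        exact one_mem _⟩ a ha _ h7,
      commutatorElement_eq_one_iff_mul_comm.mpr (mem_cent.mp h6.2.1 _ h7).symm, mul_one,
      m2 a ha _ (D.mul_mem hz hx) _ (D.inv_mem hz), m2 a ha z hz x hx,
      comm_of_sq (OmZ_sq D) (ha.2 z hz) (ha.2 x hx), mul_assoc, ← m2 a ha z hz _ (D.inv_mem hz)]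
    simp
  let s := Function.surjInv hf
  have hs : ∀ a, ∃ x ∈ D, s (f a) = x * a := fun a => ⟨s (f a) * a⁻¹, by
    rw [MonoidHom.mem_ker, map_mul, Function.surjInv_eq hf, map_inv, mul_inv_cancel], by group⟩
  let B : G → G → G → F := fun a b c => l (c⁻¹ * ⁅a * e * a⁻¹, b * d * b⁻¹⁆ * c⁻¹⁻¹)
  have heM : e ∈ M := ⟨he, h1⟩
  have hB : ∀ a b c, B (s (f a)) (s (f b)) (s (f c)) = B a b c := fun a b c => by
    obtain ⟨x, hx, e1⟩ := hs a
    obtain ⟨y, hy, e2⟩ := hs b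
    obtain ⟨z, hz, e3⟩ := hs c
    have h5 := m3 _ (hM.conj_mem e heM a) _ (hD.conj_mem d hd b) x hx y hy
    have h6 := hcj _ ((hM.conj_mem e heM a).2 _ (hD.conj_mem d hd b)) _ (D.inv_mem hz)
    simp only [B, e1, e2, e3]
    congr 1
    calc _ = c⁻¹ * (z⁻¹ * ⁅x * (a * e * a⁻¹) * x⁻¹, y * (b * d * b⁻¹) * y⁻¹⁆ * z⁻¹⁻¹) * c⁻¹⁻¹ := by
          simp only [commutatorElement_def]; group
      _ = _ := by rw [h5, h6]
  have hT : Tri fun p : X × X × X => B (s p.1) (s p.2.1) (s p.2.2) := by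
    refine ⟨fun h a b c => ?_, fun b c => ?_, fun a c => ?_, fun a b => ?_⟩
    · obtain ⟨h, rfl⟩ := hf h
      obtain ⟨a, rfl⟩ := hf a
      obtain ⟨b, rfl⟩ := hf b
      obtain ⟨c, rfl⟩ := hf c
      simp only [← map_mul, hB]
      simp only [B, commutatorElement_def]
      congr 1
      group
    · obtain ⟨b, rfl⟩ := hf b
      obtain ⟨c, rfl⟩ := hf c
      refine hG.fpf_fun hf hk (H := M) (fun x hx => hx.1)
        (l := fun x => l (c⁻¹ * ⁅x, b * d * b⁻¹⁆ * c⁻¹⁻¹)) (fun x hx y hy => ?_) heM fun a => hB a b c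
      have h5 := hD.conj_mem d hd b
      rw [add_comm, ← hl _ (hV.conj_mem _ (hy.2 _ h5) _) _ (hV.conj_mem _ (hx.2 _ h5) _),
        m1 x hx y hy _ h5]
      congr 1
      group
    · obtain ⟨a, rfl⟩ := hf a
      obtain ⟨c, rfl⟩ := hf c
      refine hG.fpf_fun hf hk (H := D) le_rfl
        (l := fun x => l (c⁻¹ * ⁅a * e * a⁻¹, x⁆ * c⁻¹⁻¹)) (fun x hx y hy => ?_) hd fun b => hB a b c
      have h5 := hM.conj_mem e heM a
      rw [← hl _ (hV.conj_mem _ (h5.2 _ hx) _) _ (hV.conj_mem _ (h5.2 _ hy) _), m2 _ h5 x hx y hy]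
      congr 1
      group
    · obtain ⟨a, rfl⟩ := hf a
      obtain ⟨b, rfl⟩ := hf b
      simpa only [inv_inv] using (hG.fpf_fun hf hk (OmZ_le D) hl
        ((hM.conj_mem e heM a).2 _ (hD.conj_mem d hd b))
        (φ := fun c => B (s (f a)) (s (f b)) (s c⁻¹)) fun c => by
          rw [← map_inv, hB]; simp only [B, inv_inv]).inv
  have h5 := congrFun (fr.tri_eq_zero hT) (f 1, f 1, f 1)
  simp only [hB] at h5
  simp only [B, l, inv_one, one_mul, mul_one, Pi.zero_apply] at h5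
  exact h4 ((map_eq_zero_iff _ (RingHom.injective (ZMod.castHom (dvd_refl 2) F))).mp h5)

theorem CIT.ker_sq (hG : CIT G) (fr : Fr X F ι) (hf : Function.Surjective f)
    (hk : IsPGroup 2 f.ker) : ∀ d ∈ f.ker, d * d = 1 := by
  classical
  haveI := Finite.of_surjective f hf
  haveI := Fact.mk Nat.prime_five
  have hc := hG.ker_comm fr hf hk
  set D := f.ker
  have hD : D.Normal := inferInstance
  have key : ∀ d ∈ D, d ^ 4 = 1 → d * d = 1 := by
    intro d hd h1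
    let E : Subgroup G :=
      { carrier := {x | x ∈ D ∧ x ^ 4 = 1}
        one_mem' := ⟨D.one_mem, one_pow 4⟩
        mul_mem' := fun {a b} ha hb => ⟨D.mul_mem ha.1 hb.1, by
          rw [Commute.mul_pow (mem_cent.mp (hc hb.1) a ha.1), ha.2, hb.2, one_mul]⟩
        inv_mem' := fun {a} ha => ⟨D.inv_mem ha.1, by rw [inv_pow, ha.2, inv_one]⟩ }
    haveI hE : E.Normal := ⟨fun a ha g => ⟨hD.conj_mem a ha.1 g, by rw [conj_pow, ha.2]; group⟩⟩
    have hED : E ≤ D := fun x hx => hx.1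
    have hdE : d ∈ E := ⟨hd, h1⟩
    by_contra h2
    obtain ⟨l, hl, h3⟩ := exists_add_char 5 (hED.trans (hc.trans (centralizer_le hED)))
      (fun a ha => ha.2) (E.mul_mem hdE hdE) h2
    let s := Function.surjInv hf
    have hs : ∀ a, s (f a) * d * (s (f a))⁻¹ = a * d * a⁻¹ := fun a => by
      have h4 : s (f a) * a⁻¹ ∈ D := by
        rw [MonoidHom.mem_ker, map_mul, Function.surjInv_eq hf, map_inv, mul_inv_cancel]
      calc _ = s (f a) * a⁻¹ * (a * d * a⁻¹) * (s (f a) * a⁻¹)⁻¹ := by group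
        _ = _ := by rw [mem_cent.mp (hc (hD.conj_mem d hd a)) _ h4, mul_inv_cancel_right]
    have := fr.add_self_eq_zero (hG.fpf_fun hf hk hED hl hdE
      (φ := fun x => l (s x * d * (s x)⁻¹)) fun a => by simp only [hs]) (f 1)
    rw [hs, one_mul, inv_one, mul_one, ← hl d hdE d hdE] at this
    exact h3 this
  intro d hd
  obtain ⟨k, hk'⟩ := hk ⟨d, hd⟩
  have h1 : d ^ 2 ^ k = 1 := congrArg Subtype.val hk'
  clear hk'
  induction k with
  | zero => rw [show d = 1 by simpa using h1, one_mul]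
  | succ k ih =>
    rcases k with _ | k
    · simpa [sq] using h1
    · refine ih ?_
      rw [pow_succ, pow_mul, sq]
      exact key _ (D.pow_mem hd _) (by rw [← pow_mul, ← h1]; congr 1; ring)

end CfsgLib.Cit
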