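import Cfsg.Agent.Lib.CIT.Basic

/-!
# `2`-local subgroups of (CIT)-groups
-/

set_option autoImplicit false

namespace CfsgLib.Cit

open Subgroup Cfsg CfsgLib.FT.BGN CfsgLib.FT.U4

variable {G : Type*} [Group G]

/-- `D = O₂(N(D))`. -/
structure Loc (D : Subgroup G) : Prop where
  p2 : IsPGroup 2 D
  core : ∀ Y : Subgroup G, IsPGroup 2 Y → Y ≤ 𝐍(D) → 𝐍(D) ≤ 𝐍(Y) → Y ≤ D

/-- `T` is a Sylow `2`-subgroup of `N(D)`. -/
abbrev Syl (T D : Subgroup G) : Prop := IsSylowIn 2 T 𝐍(D)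

/-- The Sylow `2`-subgroups of `N(D) / D` intersect trivially. -/
def TIm (D : Subgroup G) : Prop :=
  ∀ T T', Syl T D → Syl T' D → ∀ x ∈ T, x ∈ T' → x ∉ D → T = T'

/-- A parabolic subgroup `N(D)` which is not `2`-closed. -/
structure Par (D : Subgroup G) : Prop extends Loc D where
  ti : TIm D
  ne_bot : D ≠ ⊥
  nsyl : ¬ Syl D D

/-- `A` is an elementary abelian subgroup of maximal order of `T`. -/
structure MaxEA (T A : Subgroup G) : Prop where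
  le : A ≤ T
  sq : ∀ a ∈ A, a * a = 1
  max : ∀ B ≤ T, (∀ b ∈ B, b * b = 1) → Nat.card B ≤ Nat.card A

theorem factTwo : Fact (Nat.Prime 2) := ⟨Nat.prime_two⟩

attribute [local instance] factTwo

variable [Finite G] {D T T' : Subgroup G}

theorem exists_maxEA (T : Subgroup G) : ∃ A, MaxEA T A := by
  obtain ⟨A, hA, h⟩ := Set.exists_max_image {A : Subgroup G | A ≤ T ∧ ∀ a ∈ A, a * a = 1}
    (fun A => Nat.card A) (Set.toFinite _) ⟨⊥, bot_le, fun a ha => by rw [mem_bot.mp ha, one_mul]⟩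
  exact ⟨A, hA.1, hA.2, fun B h1 h2 => h B ⟨h1, h2⟩⟩

omit [Finite G] in
theorem Syl.cj (h : Syl T D) {g : G} (hg : g ∈ 𝐍(D)) : Syl (g •ᶜ T) D :=
  h.map_conj_of_mem_normalizer (le_normalizer hg)

omit [Finite G] in
theorem Syl.mem_of_two (h : Syl T D) {x : G} (hx : Two x) (h1 : x ∈ 𝐍(D)) (h2 : x ∈ 𝐍(T)) :
    x ∈ T := by
  rw [← h.eq_of_le (H1.isPGroup_sup_of_le_normalizer hx h.isPGroup (zpowers_le.mpr h2))
    le_sup_right (sup_le (zpowers_le.mpr h1) h.le)]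
  exact mem_sup_left (mem_zpowers x)

omit [Finite G] in
theorem Loc.le_syl (h : Loc D) (hT : Syl T D) : D ≤ T := by
  rw [← hT.eq_of_le (H1.isPGroup_sup_of_le_normalizer hT.isPGroup h.p2 hT.le) le_sup_left
    (sup_le hT.le le_normalizer)]
  exact le_sup_right

theorem Loc.le_of_norm (h : Loc D) {Y : Subgroup G} (hY : IsPGroup 2 Y) (hn : 𝐍(D) ≤ 𝐍(Y)) :
    Y ≤ D := by
  by_contra hc
  have h1 := H1.isPGroup_sup_of_le_normalizer h.p2 hY (le_normalizer.trans hn)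
  have h2 : D < D ⊔ Y := left_lt_sup.mpr hc
  refine (lt_inf_normalizer_of_isPGroup h1 h2).not_ge (h.core _ (h1.to_le inf_le_left)
    inf_le_right (H1.le_normalizer_inf (H1.le_normalizer_sup le_rfl hn) le_normalizer))

theorem exists_loc {Y : Subgroup G} (hY : IsPGroup 2 Y) :
    ∃ D, Loc D ∧ Y ≤ D ∧ 𝐍(Y) ≤ 𝐍(D) := by
  obtain ⟨D, -, hD⟩ := Finite.exists_le_maximal
    (p := fun D : Subgroup G => IsPGroup 2 D ∧ Y ≤ D ∧ 𝐍(Y) ≤ 𝐍(D)) ⟨hY, le_rfl, le_rfl⟩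
  refine ⟨D, ⟨hD.prop.1, fun Z h1 h2 h3 => le_sup_left.trans (hD.le_of_ge
    ⟨H1.isPGroup_sup_of_le_normalizer h1 hD.prop.1 h2, hD.prop.2.1.trans le_sup_right,
      H1.le_normalizer_sup (hD.prop.2.2.trans h3) hD.prop.2.2⟩ le_sup_right)⟩, hD.prop.2⟩

theorem TIm.le (h : TIm D) (hT : Syl T D) {Y : Subgroup G} (hY : IsPGroup 2 Y) (hn : Y ≤ 𝐍(D))
    {x : G} (h1 : x ∈ Y) (h2 : x ∈ T) (h3 : x ∉ D) : Y ≤ T := by
  obtain ⟨S, h4, hS⟩ := IsSylowIn.exists_ge hY hn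
  exact h S T hS hT x (h4 h1) h2 h3 ▸ h4

omit [Finite G] in
theorem TIm.mem (h : TIm D) (hT : Syl T D) (hT' : Syl T' D) (hne : T ≠ T') {x : G} (h1 : x ∈ T)
    (h2 : x ∈ T') : x ∈ D := by_contra fun h3 => hne (h T T' hT hT' x h1 h2 h3)

omit [Finite G] in
theorem TIm.cj_eq (h : TIm D) (hT : Syl T D) {g x : G} (hg : g ∈ 𝐍(D)) (h1 : x ∈ T) (h2 : x ∉ D)
    (h3 : g * x * g⁻¹ ∈ T) : g •ᶜ T = T :=
  h _ _ (hT.cj hg) hT _ (cj_mem h1) h3 fun e => h2 (by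
    simpa [mul_assoc] using cmem (inv_mem hg) e)

omit [Finite G] in
theorem Par.not_le (h : Par D) (hT : Syl T D) : ¬ T ≤ D := fun e =>
  h.nsyl (le_antisymm e (h.le_syl hT) ▸ hT)

theorem Par.exists_cj_ne (h : Par D) (hT : Syl T D) : ∃ g ∈ 𝐍(D), g •ᶜ T ≠ T := by
  by_contra! hc
  exact h.not_le hT (h.core T hT.isPGroup hT.le fun g hg => mem_norm (hc g hg))

/-- Products of `2`-elements of order `2` modulo `D` from different Sylow subgroups. -/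
theorem CIT.odd_mul (hG : CIT G) (hD : IsPGroup 2 D) (h : TIm D) (hT : Syl T D) (hT' : Syl T' D)
    (hne : T ≠ T') {x x' : G} (h1 : x ∈ T) (h2 : x ∉ D) (h3 : x * x ∈ D) (h4 : x' ∈ T')
    (h5 : x' ∉ D) (h6 : x' * x' ∈ D) : Odd (orderOf (x * x')) ∧ x * x' ≠ 1 := by
  refine ⟨(hG.two_or_odd _).resolve_left fun h7 => ?_, fun e => ?_⟩
  · obtain ⟨Y, hY, hn, h8, h9⟩ := exists_two_sup hD (hT.le h1) (hT'.le h4) h3 h6 h7
    exact h5 (h.mem hT hT' hne (h.le hT hY hn h8 h1 h2 h9) h4)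
  · exact h5 (h.mem hT hT' hne (eq_inv_of_mul_eq_one_right e ▸ T.inv_mem h1) h4)

theorem CIT.cent_le (hG : CIT G) (h : TIm D) (hT : Syl T D) {v t : G} (hv : Two v) (h1 : v ≠ 1)
    (ht : t ∈ T) (htD : t ∉ D) (hc : t ∈ 𝐂[v]) : 𝐍(D) ⊓ 𝐂[v] ≤ T :=
  h.le hT ((hG.isPGroup_cent hv h1).to_le inf_le_right) inf_le_left ⟨hT.le ht, hc⟩ ht htD

theorem CIT.cent_OmZ_le (hG : CIT G) (h : Loc D) (h0 : D ≠ ⊥) : 𝐍(D) ⊓ 𝐂(OmZ D) ≤ D := by
  obtain ⟨z, hz, h1, -⟩ := exists_OmZ_cent h.p2 le_rfl le_normalizer h0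
  exact h.core _ ((hG.isPGroup_cent (two_of_sq hz.2.2) h1).to_le
    (inf_le_right.trans (cent_le_cent1 hz))) inf_le_left (H1.le_normalizer_inf le_normalizer
      ((norm_le_norm_OmZ D).trans (norm_le_norm_cent _)))

omit [Finite G] in
theorem sq_zpowers {e : G} (h : e * e = 1) : ∀ x ∈ zpowers e, x * x = 1 := by
  rintro _ ⟨i, rfl⟩
  rw [← (Commute.refl e).mul_zpow, h, one_zpow]

theorem card_mul_le {V W W' : Subgroup G} (h1 : W ≤ V) (h2 : W' ≤ V) (hc : W ≤ 𝐂(W'))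
    (h : W ⊓ W' = ⊥) : Nat.card W * Nat.card W' ≤ Nat.card V :=
  card_sup_of_disjoint (hc.trans (cent_le_norm _)) h ▸ card_le_of_le (sup_le h1 h2)

theorem card_le_sq {V : Subgroup G} (hV : ∀ v ∈ V, v * v = 1) {a : G} (ha : a ∈ 𝐍(V))
    (haa : a * a = 1) : Nat.card V ≤ Nat.card ↥(V ⊓ 𝐂[a]) * Nat.card ↥(V ⊓ 𝐂[a]) := by
  rw [← card_inf_mul_relIndex 𝐂[a] V, inf_comm]
  refine Nat.mul_le_mul_left _ (PGrp.relIndex_centralizer_le_card fun g hg => ⟨?_, ?_⟩)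
  · exact commutatorElement_def a g ▸ V.mul_mem (cmem ha hg) (V.inv_mem hg)
  · have h1 := comm_of_sq hV (cmem ha hg) hg
    have h2 := Invol.inv_eq haa
    refine mem_cent1.mpr ?_
    rw [h2] at h1
    rw [commutatorElement_def, Invol.inv_eq (hV g hg), h2]
    calc a * g * a * g * a = a * (g * (a * g * a)) := by group
      _ = _ := by rw [← h1]

/-- The outcome of the analysis of a parabolic subgroup with an offender. -/
structure LA (D T A : Subgroup G) (q : ℕ) : Prop where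
  two_le : 2 ≤ q
  cardV : Nat.card (OmZ D) = q ^ 2
  cardZ : Nat.card ↥(OmZ D ⊓ 𝐂(T)) = q
  cardA : Nat.card A = q ^ 2
  idx : D.relIndex T = q
  sup : A ⊔ D = T
  cent : ∀ t ∈ T, t ∉ D → OmZ D ⊓ 𝐂[t] = OmZ D ⊓ 𝐂(T)
  inv : ∀ e ∈ D, e * e = 1 → e ∈ OmZ D
  three : ∃ y ∈ 𝐍(D), y ^ 3 = 1 ∧ y •ᶜ T ≠ T

theorem CIT.la (hG : CIT G) (h : Par D) (hT : Syl T D) {A : Subgroup G} (hA : MaxEA T A)
    (hAD : ¬ A ≤ D) : ∃ q, LA D T A q := by
  obtain ⟨g, hg, hne⟩ := h.exists_cj_ne hT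
  have hT' := hT.cj hg
  have hDT := h.le_syl hT
  have hnV := norm_le_norm_OmZ D
  set V := OmZ D with hV
  have hVsq : ∀ v ∈ V, v * v = 1 := OmZ_sq D
  have hVT : V ≤ T := (OmZ_le D).trans hDT
  have hVD : V ≤ 𝐂(D) := fun v hv => hv.2.1
  obtain ⟨z, hzV, hz1, hzT⟩ := exists_OmZ_cent hT.isPGroup hDT hT.le h.ne_bot
  -- the fixed points of an element outside `D` determine the Sylow subgroup
  have key : ∀ {S : Subgroup G}, Syl S D → ∀ {a w k : G}, a ∈ T → a ∉ D → w ∈ V ⊓ 𝐂[a] → w ≠ 1 →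
      k ∈ 𝐍(D) → ∀ {b : G}, b ∈ S → b ∉ D → k * w * k⁻¹ ∈ 𝐂[b] → k •ᶜ T = S := by
    intro S hS a w k ha haD hw h1 hk b hb hbD hc
    refine h.ti _ _ (hT.cj hk) hS _ (cj_mem ha) (hG.cent_le h.ti hS (two_of_sq (hVsq _
      (cmem (hnV hk) hw.1))) (conj_ne_one_iff.mpr h1) hb hbD (mem_cent1_comm.mp hc)
      ⟨cmem (le_normalizer hk) (hT.le ha), ?_⟩) fun e => haD (by
        simpa [mul_assoc] using cmem (inv_mem hk) e)
    rw [cent1_conj]
    exact cj_mem (mem_cent1_comm.mp hw.2)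
  have main : ∀ a ∈ A, a ∉ D → (V ⊓ 𝐂[a] ≤ A ∧ Nat.card ↥(V ⊓ 𝐂[a]) = D.relIndex T ∧
      D.relIndex A = D.relIndex T ∧ Nat.card V = D.relIndex T ^ 2) := by
    intro a ha haD
    have haT := hA.le ha
    set W := V ⊓ 𝐂[a] with hW
    have hW' : g •ᶜ W ≤ V := conj_le_iff.mpr (inf_le_left.trans (cj_eq (hnV (inv_mem hg))).ge)
    have hw2 : 1 < Nat.card W := (one_lt_card_iff_ne_bot _).mpr
      (ne_bot_of_mem (x := z) ⟨hzV, cent_le_cent1 haT hzT⟩ hz1)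
    have h1 : ∀ t ∈ T, ∀ w ∈ g •ᶜ W, w ≠ 1 → t * w * t⁻¹ ∉ W := by
      rintro t ht _ ⟨w, hw, rfl⟩ h1 h2
      have := key hT haT haD hw (conj_ne_one_iff.mp h1) (mul_mem (hT.le ht) hg) haT haD (by
        simpa [mul_assoc] using h2.2)
      rw [← FT.cj_cj, FT.cj_eq_iff, conj_eq_of_mem (T.inv_mem ht)] at this
      exact hne this
    have hga : g * a * g⁻¹ ∉ D := fun e => haD (by simpa [mul_assoc] using cmem (inv_mem hg) e)
    have h2 : ∀ t ∈ T, ∀ w ∈ g •ᶜ W, w ≠ 1 → t * w * t⁻¹ ∈ g •ᶜ W → t ∈ D := by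
      rintro t ht _ ⟨w, hw, rfl⟩ h1 h2
      have h3 := map_mono (f := (MulAut.conj g).toMonoidHom) (inf_le_right : W ≤ _) h2
      rw [← cent1_conj] at h3
      have := key hT' haT haD hw (conj_ne_one_iff.mp h1) (mul_mem (hT.le ht) hg) (cj_mem haT) hga
        (by simpa [mul_assoc] using h3)
      rw [← FT.cj_cj] at this
      exact h.ti.mem hT hT' hne.symm ht
        (hT'.mem_of_two (two_of_mem hT.isPGroup ht) (hT.le ht) (mem_norm this))
    have i1 := (count_conj (W := W) (hT.le.trans hnV) inf_le_left hW' h1 h2).1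
    have i2 := card_le_sq hVsq (hnV (hT.le haT)) (hA.sq a ha)
    have i3 := card_mul_le (W := W) inf_le_left hW'
      (inf_le_left.trans ((le_cent_of_sq hVsq).trans (centralizer_le hW')))
      (eq_bot_of_forall fun w hw => by_contra fun e => h1 1 T.one_mem w hw.2 e (by rw [one_mul, inv_one, mul_one]; exact hw.1))
    rw [card_map_conj] at i1 i3
    have hc : A ⊓ D ≤ 𝐂(V) := inf_le_right.trans (le_cent_OmZ D)
    have i4 := hA.max _ (sup_le (inf_le_left.trans hA.le) hVT)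
      (sq_sup (fun x hx => hA.sq x hx.1) hVsq hc)
    have i5 := card_sup_mul_card_inf (hc.trans (cent_le_norm _))
    have i6 := card_inf_mul_relIndex D A
    have i7 : D.relIndex A ≤ D.relIndex T := relIndex_le_of_le_right hA.le
      (index_ne_zero_of_finite (H := D.subgroupOf T))
    have hAV : A ⊓ D ⊓ V ≤ W := fun x hx => ⟨hx.2, mem_cent1.mpr (comm_of_sq hA.sq hx.1.1 ha)⟩
    have i8 := card_le_of_le hAV
    rw [inf_comm D] at i6
    have hE : 0 < Nat.card ↥(A ⊓ D) := Nat.card_pos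
    have i9 : Nat.card V ≤ D.relIndex A * Nat.card ↥(A ⊓ D ⊓ V) := by
      refine Nat.le_of_mul_le_mul_left ?_ hE
      rw [← i5, ← mul_assoc, i6]
      exact Nat.mul_le_mul_right _ i4
    rw [← hW] at i2
    generalize Nat.card V = v at *
    have j1 : D.relIndex T ≤ Nat.card W := by
      obtain ⟨m, hm⟩ : ∃ m, Nat.card W = m + 1 := ⟨Nat.card W - 1, by omega⟩
      rw [hm] at i1 i2 hw2 ⊢
      refine Nat.le_of_mul_le_mul_right (c := m) ?_ (by omega)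
      simp only [Nat.add_sub_cancel] at i1
      nlinarith
    have j2 : Nat.card W ≤ D.relIndex A := by nlinarith
    have j3 : Nat.card W ≤ Nat.card ↥(A ⊓ D ⊓ V) := by nlinarith
    refine ⟨(eq_of_le_of_card_le hAV j3).ge.trans (inf_le_left.trans inf_le_left), by omega,
      by omega, ?_⟩
    rw [show D.relIndex T = Nat.card W by omega]
    nlinarith
  obtain ⟨a, ha, haD⟩ := SetLike.not_le_iff_exists.mp hAD
  obtain ⟨-, m2, m3, m4⟩ := main a ha haD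
  have hAn : A ≤ 𝐍(D) := hA.le.trans hT.le
  have hsup : A ⊔ D = T := by
    refine eq_of_le_of_card_le (sup_le hA.le hDT) (le_of_eq ?_)
    rw [← card_mul_relIndex hDT, ← card_mul_relIndex (le_sup_right : D ≤ A ⊔ D),
      relIndex_sup_of_le_normalizer hAn, m3]
  have hcA : ∀ a ∈ A, a ∉ D → V ⊓ 𝐂[a] = V ⊓ 𝐂(T) := by
    intro a ha haD
    refine le_antisymm (le_inf inf_le_left ?_) (inf_le_inf_left _ (cent_le_cent1 (hA.le ha)))
    rw [← hsup]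
    exact le_cent_sup ((main a ha haD).1.trans (le_cent_of_sq hA.sq)) (inf_le_left.trans hVD)
  have hcT : ∀ t ∈ T, t ∉ D → V ⊓ 𝐂[t] = V ⊓ 𝐂(T) := by
    intro t ht htD
    obtain ⟨b, hb, d, hd, rfl⟩ := (mem_sup_iff_of_le_normalizer hAn).mp (hsup ▸ ht)
    refine le_antisymm (le_trans ?_ (hcA b hb fun e => htD (D.mul_mem e hd)).le)
      (inf_le_inf_left _ (cent_le_cent1 ht))
    intro v hv
    refine ⟨hv.1, mem_cent1.mpr (mul_right_cancel (b := d) ?_)⟩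
    rw [mul_assoc, mem_cent1.mp hv.2, mul_assoc, mul_assoc, mem_cent.mp (hVD hv.1) d hd]
  set Z := V ⊓ 𝐂(T) with hZ
  rw [hcA a ha haD] at m2
  have haT := hA.le ha
  have hq : 2 ≤ D.relIndex T := m2 ▸ (one_lt_card_iff_ne_bot _).mpr
    (ne_bot_of_mem (x := z) ⟨hzV, hzT⟩ hz1)
  -- an element of order three inverted by `a`
  have hZ' : g •ᶜ Z ≤ V := conj_le_iff.mpr (inf_le_left.trans (cj_eq (hnV (inv_mem hg))).ge)
  have hga : g * a * g⁻¹ ∉ D := fun e => haD (by simpa [mul_assoc] using cmem (inv_mem hg) e)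
  have hZc : ∀ w ∈ g •ᶜ Z, ∀ t ∈ g •ᶜ T, t * w = w * t := by
    rintro _ ⟨w, hw, rfl⟩ _ ⟨t, ht, rfl⟩
    rw [← map_mul, ← map_mul, mem_cent.mp hw.2 t ht]
  have k1 : ∀ t ∈ g •ᶜ T, ∀ w ∈ Z, w ≠ 1 → t * w * t⁻¹ ∉ g •ᶜ Z := by
    intro t ht w hw h1 h2
    have := key hT' haT haD ⟨hw.1, cent_le_cent1 haT hw.2⟩ h1 (hT'.le ht) (cj_mem haT) hga
      (mem_cent1'.mpr (hZc _ h2 _ (cj_mem haT)))
    rw [FT.cj_eq_iff, conj_eq_of_mem (inv_mem ht)] at this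
    exact hne this.symm
  have k2 : ∀ t ∈ g •ᶜ T, ∀ w ∈ Z, w ≠ 1 → t * w * t⁻¹ ∈ Z → t ∈ D := by
    intro t ht w hw h1 h2
    have := key hT haT haD ⟨hw.1, cent_le_cent1 haT hw.2⟩ h1 (hT'.le ht) haT haD
      (cent_le_cent1 haT h2.2)
    exact h.ti.mem hT' hT hne ht
      (hT.mem_of_two (two_of_mem hT'.isPGroup ht) (hT'.le ht) (mem_norm this))
  have hzZ : z ∈ Z := ⟨hzV, hzT⟩
  have hw' : g * z * g⁻¹ ∈ g •ᶜ Z := cj_mem hzZ
  have hw'Z : g * z * g⁻¹ ∉ Z := fun e => k1 1 (one_mem _) _ e (conj_ne_one_iff.mpr hz1)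
    (by simpa using hw')
  generalize g * z * g⁻¹ = w' at hw' hw'Z
  have haa := hA.sq a ha
  obtain ⟨t, ht, w, hw, e⟩ := (count_conj (D := D) (W' := Z) (hT'.le.trans hnV) hZ' inf_le_left
    k1 k2).2 (by
      have := relIndex_conj g D T
      rw [cj_eq hg] at this
      rw [this, card_map_conj, m2, m4]
      obtain ⟨m, hm⟩ : ∃ m, D.relIndex T = m + 1 := ⟨D.relIndex T - 1, by omega⟩
      rw [hm, Nat.add_sub_cancel]; ring) (a * w' * a⁻¹) (cmem (hnV (hT.le haT)) (hZ' hw')) (by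
      intro e
      have h1 : w' ≠ 1 := fun e => hw'Z (e ▸ one_mem _)
      have h2 := hG.cent_le h.ti hT' (two_of_sq (hVsq _ (hZ' e))) (conj_ne_one_iff.mpr h1)
        (cj_mem haT) hga (mem_cent1.mpr (hZc _ e _ (cj_mem haT)))
      have h3 : a •ᶜ (g •ᶜ T) ≤ g •ᶜ T := by
        rintro _ ⟨s, hs, rfl⟩
        refine h2 ⟨cmem (le_normalizer (hT.le haT)) (hT'.le hs), ?_⟩
        rw [cent1_conj]
        exact cj_mem (mem_cent1.mpr (hZc _ hw' _ hs))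
      exact haD (h.ti.mem hT hT' hne.symm haT (hT'.mem_of_two (two_of_sq haa) (hT.le haT)
        (mem_normalizer_of_conj_mem fun s hs => h3 (cj_mem hs)))))
  have ht' : t ∈ g •ᶜ A ⊔ D := by
    have := conj_sup g A D
    rw [cj_eq hg, hsup] at this
    exact this ▸ ht
  have hA'n : g •ᶜ A ≤ 𝐍(D) := (map_mono hA.le).trans hT'.le
  obtain ⟨r, hr, d, hd, rfl⟩ := (mem_sup_iff_of_le_normalizer hA'n).mp ht'
  have hrr := sq_cj hA.sq g r hr
  have e1 : r * w * r⁻¹ = a * w' * a⁻¹ := by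
    rw [← e]
    calc r * w * r⁻¹ = r * (w * d * d⁻¹) * r⁻¹ := by group
      _ = _ := by rw [← mem_cent.mp (hVD hw.1) d hd]; group
  have hai := Invol.inv_eq haa
  have hri := Invol.inv_eq hrr
  have haw : a * w * a⁻¹ = w := by rw [mem_cent.mp hw.2 a haT, mul_inv_cancel_right]
  have hrw : r * w' * r⁻¹ = w' := by rw [hZc _ hw' r (map_mono hA.le hr), mul_inv_cancel_right]
  have y1 : a * r * w * (a * r)⁻¹ = w' := by
    calc _ = a * (r * w * r⁻¹) * a⁻¹ := by group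
      _ = (a * a) * w' * (a * a)⁻¹ := by rw [e1]; group
      _ = _ := by rw [haa]; group
  have y3 : (a * r) ^ 3 * w * ((a * r) ^ 3)⁻¹ = w := by
    calc _ = a * r * (a * (r * (a * r * w * (a * r)⁻¹) * r⁻¹) * a⁻¹) * (a * r)⁻¹ := by
          simp only [pow_succ, pow_zero, one_mul]; group
      _ = a * ((r * r) * w * (r * r)⁻¹) * a⁻¹ := by rw [y1, hrw, ← e1]; group
      _ = _ := by rw [hrr, one_mul, inv_one, mul_one, haw]
  have hww : w ≠ w' := fun e => hw'Z (e ▸ hw)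
  have hw1 : w ≠ 1 := by
    rintro rfl
    exact hww (by simpa using y1)
  have hy : (a * r) ^ 3 = 1 := by
    rcases hG.two_or_odd (a * r) with h1 | h1
    · exfalso
      obtain ⟨k, hk⟩ := (IsPGroup.iff_orderOf.mp h1) ⟨_, mem_zpowers _⟩
      rw [← Subgroup.orderOf_coe] at hk
      have h2 : a * r ∈ zpowers ((a * r) ^ 3) := mem_zpowers_pow_iff.mpr (by
        rw [hk]; exact Nat.Coprime.pow_right k (by norm_num))
      exact hww (by
        rw [← y1, conj_eq_of_mem_cent1 ((zpowers_le.mpr (mem_cent1_of_conj_eq y3)) h2)])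
    · exact hG w _ (hVsq w hw.1) hw1 (mem_cent1'.mp (mem_cent1_of_conj_eq y3))
        (h1.of_dvd_nat (orderOf_pow_dvd 3))
  have hyn : a * r ∈ 𝐍(D) := mul_mem (hT.le haT) (hA'n hr)
  have hy1 : a * r ≠ 1 := fun e => hww (by simpa [e] using y1)
  have hinv := Invol.inverts_mul haa hrr
  have hyT : (a * r) •ᶜ T ≠ T := fun e => hw'Z (y1 ▸ cmem (H1.le_normalizer_inf
    (zpowers_le.mpr (hnV hyn)) (zpowers_le.mpr (norm_le_norm_cent T (mem_norm e)))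
    (mem_zpowers _)) hw)
  generalize a * r = y at *
  have hf := hG.fpf h.p2 (odd_of_cube hy) hy1
  have hE : y •ᶜ (A ⊓ D) ≤ D := conj_le_iff.mpr (inf_le_right.trans (cj_eq (inv_mem hyn)).ge)
  have hEc : A ⊓ D ≤ 𝐂(y •ᶜ (A ⊓ D)) := fun x hx => mem_cent.mpr (by
    rintro _ ⟨b, hb, rfl⟩
    exact (three_comm hyn hf hy hx.2 hb.2 (comm_of_sq hA.sq hx.1 hb.1)).symm)
  have hEi : A ⊓ D ⊓ y •ᶜ (A ⊓ D) = ⊥ := eq_bot_of_forall fun u hu => by
    obtain ⟨b, hb, e⟩ := hu.2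
    have h1 : y * a * y⁻¹ ∈ 𝐂[u] := by
      rw [← e]
      exact (cent1_conj y b).ge (cj_mem (mem_cent1.mpr (comm_of_sq hA.sq ha hb.1)))
    have h2 := mul_mem h1 (inv_mem (mem_cent1.mpr (comm_of_sq hA.sq ha hu.1.1)))
    have h3 : y * a * y⁻¹ * a⁻¹ = y * y := by
      calc _ = y * (a * y * a⁻¹)⁻¹ := by group
        _ = _ := by rw [hinv, inv_inv]
    rw [h3] at h2
    exact hf u hu.1.2 (mem_cent1'.mp ((zpowers_le.mpr h2) (GW.mem_zpowers_sq (odd_of_cube hy))))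
  have i1 := hA.max _ (sup_le (inf_le_left.trans hA.le) (hE.trans hDT))
    (sq_sup (fun x hx => hA.sq x hx.1) (sq_cj (A := A ⊓ D) (fun x hx => hA.sq x hx.1) y) hEc)
  rw [card_sup_of_disjoint (hEc.trans (cent_le_norm _)) hEi, card_map_conj] at i1
  have i2 := card_inf_mul_relIndex D A
  rw [inf_comm D, m3] at i2
  have i3 : Nat.card Z ≤ Nat.card ↥(A ⊓ D) := card_le_of_le (le_inf
    (hcA a ha haD ▸ (main a ha haD).1) (inf_le_left.trans (OmZ_le D)))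
  have hE0 : 0 < Nat.card ↥(A ⊓ D) := Nat.card_pos
  have i4 : Nat.card ↥(A ⊓ D) = D.relIndex T := by nlinarith
  have cA : Nat.card A = D.relIndex T ^ 2 := by rw [← i2, i4, sq]
  refine ⟨_, hq, m4, m2, cA, rfl, hsup, hcT, fun e he hee => ?_, y, hyn, hy, hyT⟩
  have hsq := sq_zpowers hee
  have := hA.max _ (sup_le (zpowers_le.mpr (hDT he)) hVT)
    (sq_sup hsq hVsq (zpowers_le.mpr (le_cent_OmZ D he)))
  rw [cA, ← m4] at this
  exact (eq_of_le_of_card_le le_sup_right this).ge (mem_sup_left (mem_zpowers e))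

end CfsgLib.Cit
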