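import Cfsg.Agent.Lib.CIT.Two
import Cfsg.Agent.Lib.CIT.Ker

/-!
# The structure of non-solvable (CIT)-groups
-/

set_option autoImplicit false

namespace CfsgLib.Cit

open Subgroup Cfsg CfsgLib.FT.BGN CfsgLib.FT.U4 CfsgLib.BSW

universe u

attribute [local instance] factTwo

theorem exists_theta {F : Type*} [Field F] [Fintype F] {m : ℕ}
    (h : Fintype.card F = 2 ^ (2 * m + 1)) : ∃ (_ : CharP F 2) (θ : F ≃+* F),
      (∀ x, θ (θ x) = x ^ 2) ∧ ∀ x, θ x = x ^ 2 ^ (m + 1) := by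
  haveI : CharP F 2 := charP_of_card_eq_prime_pow h
  refine ⟨inferInstance, iterateFrobeniusEquiv F 2 (m + 1), fun x => ?_, fun x => rfl⟩
  rw [iterateFrobeniusEquiv_def, iterateFrobeniusEquiv_def, ← pow_mul, ← pow_add,
    show m + 1 + (m + 1) = 2 * m + 1 + 1 by ring, pow_succ, pow_mul, ← h, FiniteField.pow_card]

theorem exists_unit_ne_one {F : Type*} [Field F] [Finite F] (h : 2 < Nat.card F) :
    ∃ ρ : Fˣ, ρ ≠ 1 := by
  haveI : Nontrivial Fˣ := Finite.one_lt_card_iff_nontrivial.mp (by rw [Nat.card_units]; omega)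
  exact exists_ne 1

variable {G : Type u} [Group G] [Finite G]

theorem CIT.ker_sq_of_zSetup (hG : CIT G) {X : Type*} [Group X] [Finite X] {f : G →* X}
    (hf : Function.Surjective f) (hk : IsPGroup 2 f.ker) {K : Subgroup X} {t : X}
    (h : ZSetup K t) : ∀ d ∈ f.ker, d * d = 1 := by
  have key : ∀ {Y : Type} [Group Y] (e : X ≃* Y) {F : Type} [Field F] [Fintype F] [CharP F 2]
      {ι : Type} [Fintype ι], Fr Y F ι → ∀ d ∈ f.ker, d * d = 1 := fun e F _ _ _ ι _ fr => by
    have h1 : (e.toMonoidHom.comp f).ker = f.ker := by ext x; simp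
    exact h1 ▸ hG.ker_sq fr (e.surjective.comp hf) (h1 ▸ hk)
  rcases h.zt with ⟨n, h1, -, -, -, ⟨e⟩, -⟩ | ⟨-, -, -, F, _, _, m, h1, h2, -, ⟨e⟩⟩
  · letI := Fintype.ofFinite (GaloisField 2 n)
    refine key e (frSL (exists_unit_ne_one ?_))
    rw [GaloisField.card 2 n (by omega)]
    exact (by norm_num : 2 < 2 ^ 2).trans_le (Nat.pow_le_pow_right two_pos h1)
  · obtain ⟨_, θ, h3, h4⟩ := exists_theta h2
    refine key e (frSz h3 h4 (exists_unit_ne_one ?_))
    rw [Nat.card_eq_fintype_card, h2]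
    exact (by norm_num : 2 < 2 ^ 2).trans_le (Nat.pow_le_pow_right two_pos (by omega))

omit [Finite G] in
theorem loc_bot_of_pCore (h : pCore 2 G = ⊥) : Loc (⊥ : Subgroup G) :=
  ⟨IsPGroup.of_bot, fun Y h1 _ h2 => by
    haveI : Y.Normal := normal_of_le_normalizer_top (norm_bot (G := G) ▸ h2)
    exact h ▸ le_pCore h1⟩

/-- A non-solvable (CIT)-group is an extension of an elementary abelian `2`-group by a
Zassenhaus group of even characteristic, or contains the amalgam. -/
theorem CIT.structure (hG : CIT G) (hs : ¬ Group.IsSolvable G) :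
    (∃ (X : Type u) (_ : Group X) (f : G →* X), Function.Surjective f ∧
      (∀ d ∈ f.ker, d * d = 1) ∧ ∃ (K : Subgroup X) (t : X), ZSetup K t) ∨
    (Loc (⊥ : Subgroup G) ∧ ∃ P L q, Amal (G := G) P L q) := by
  by_cases h0 : pCore 2 G = ⊥
  · rcases hG.tIm_or_amal (loc_bot_of_pCore h0) with h | h
    · exact Or.inl ⟨G, inferInstance, MonoidHom.id G, Function.surjective_id,
        fun d hd => by rw [show d = 1 from hd, one_mul], hG.zSetup hs h⟩
    · exact Or.inr ⟨loc_bot_of_pCore h0, h⟩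
  have hf := QuotientGroup.mk'_surjective (pCore 2 G)
  have hk : IsPGroup 2 (QuotientGroup.mk' (pCore 2 G)).ker := by
    rw [QuotientGroup.ker_mk']; exact pCore_isPGroup 2
  have h1 := hG.of_surjective _ hf hk
  rcases h1.tIm_or_amal (loc_bot_of_pCore (pCore_quotient_pCore 2)) with h | ⟨P, L, q, h⟩
  · obtain ⟨K, t, h2⟩ := h1.zSetup (fun e => hs (by
      haveI := (pCore_isPGroup (G := G) 2).isNilpotent
      exact isSolvable_of_normal_of_quotient (pCore 2 G) inferInstance e)) h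
    exact Or.inl ⟨_, inferInstance, _, hf, hG.ker_sq_of_zSetup hf hk h2, K, t, h2⟩
  · exact (hG.not_amal_of_ker _ hf hk (by rwa [QuotientGroup.ker_mk']) h).elim

theorem zs_isSuzuki_or {K : Subgroup G} {t : G} (h : ZSetup K t) :
    (∃ (F : Type) (_ : Field F) (_ : Fintype F), CharP F 2 ∧ 4 ≤ Fintype.card F ∧
      Nonempty (G ≃* Matrix.ProjectiveSpecialLinearGroup (Fin 2) F)) ∨ IsSuzuki G := by
  rcases h.zt with ⟨n, h1, -, -, -, -, e⟩ | ⟨-, -, h1, F, _, _, m, h2, -, h3, -⟩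
  · letI := Fintype.ofFinite (GaloisField 2 n)
    refine Or.inl ⟨GaloisField 2 n, inferInstance, inferInstance, inferInstance, ?_, e⟩
    rw [← Nat.card_eq_fintype_card, GaloisField.card 2 n (by omega)]
    exact Nat.pow_le_pow_right two_pos h1
  · refine Or.inr ⟨zs_simple h, m, h2, ?_⟩
    rw [h.ro.card_G, h.Dg_eq, h1, ← h3, Nat.add_sub_cancel]
    ring

end CfsgLib.Cit
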