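import Mathlib
import Cfsg.Agent.Lib.Suz.SzField

/-!
# Modules in characteristic `2` for `SL₂(q)` and `Sz(q)` on which all elements of odd order act
fixed point freely
-/

set_option autoImplicit false

namespace CfsgLib.Cit

open Finset

/-- The data of a rank one group together with its natural module. -/
structure Fr (X : Type*) [Group X] (F : Type*) [Field F] (ι : Type) [Fintype ι] where
  S : Subgroup X
  k : Fˣ →* X
  w : X
  z : F → X
  c : X → F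
  p : ℕ
  m : ι → X → F
  n : ι → X → F
  d : ι → Fˣ →* F
  S2 : IsPGroup 2 S
  kS : ∀ ρ, ∀ s ∈ S, k ρ * s * (k ρ)⁻¹ ∈ S
  bruhat : ∀ g, (∃ s ∈ S, ∃ ρ, g = s * k ρ) ∨ ∃ s ∈ S, ∃ ρ, ∃ s' ∈ S, g = s * w * k ρ * s'
  c_sl : ∀ s ∈ S, ∀ g, c (s * g) = c g
  c_sr : ∀ s ∈ S, ∀ g, c (g * s) = c g
  c_kl : ∀ ρ g, c (k ρ * g) = (ρ⁻¹ : Fˣ) * c g
  c_kr : ∀ ρ g, c (g * k ρ) = ρ * c g
  c_w : c w = 1
  c_one : c 1 = 0
  kw : ∀ ρ, k ρ * w = w * k ρ⁻¹
  odd : Odd p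
  one_lt : 1 < p
  pow : (z 1 * w) ^ p = 1
  cx : ∀ j, 0 < j → j < p → c ((z 1 * w) ^ j) ≠ 0
  sum : ∀ (σ : F → F) (β : F),
    ∑ j ∈ range p, σ (c ((z 1 * w) ^ j * (z β * w))) = σ 1 + σ β + σ (1 + β)
  mul : ∀ g h, c (g * h) = ∑ i, m i g * n i h
  mk' : ∀ i g ρ, m i (g * k ρ) = d i ρ * m i g
  dform : ∀ i, (∀ ρ, d i ρ = ρ) ∨ (∀ ρ, d i ρ * ρ = 1) ∨
    ∃ θ : F →+* F, (∀ ρ, d i ρ * ρ = θ ρ) ∨ ∀ ρ, d i ρ * θ ρ = ρ
  zadd : ∀ a b, z a * z b = z (a + b)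
  kz : ∀ ρ s, k ρ * z s = z (ρ ^ 2 * s) * k ρ
  cz : ∀ s, c (w * z s * w) = s
  big : ∃ ρ : Fˣ, ρ ≠ 1

variable {X : Type*} [Group X]

/-- The matrix coefficients of a module on which elements of odd order act fixed point freely. -/
def Fpf {A : Type*} [AddCommMonoid A] (φ : X → A) : Prop :=
  ∀ (y : X) (n : ℕ) (g h : X), Odd n → y ^ n = 1 → y ≠ 1 → ∑ j ∈ range n, φ (g * y ^ j * h) = 0

theorem Fpf.inv {A : Type*} [AddCommMonoid A] {φ : X → A} (h : Fpf φ) : Fpf fun g => φ g⁻¹ :=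
  fun y n g g' h1 h2 h3 => by
    simpa [mul_assoc] using h y⁻¹ n g'⁻¹ g⁻¹ h1 (by rw [inv_pow, h2, inv_one]) (inv_ne_one.mpr h3)

variable {F : Type*} [Field F] [Fintype F] [CharP F 2]

theorem card_units_cast : ((Fintype.card F - 1 : ℕ) : F) = 1 := by
  rw [Nat.cast_sub Fintype.card_pos, FiniteField.cast_card_eq_zero, Nat.cast_one, zero_sub,
    CharTwo.neg_eq]

theorem sum_units_const [DecidableEq F] (a : F) : ∑ _ρ : Fˣ, a = a := by
  rw [sum_const, card_univ, Fintype.card_units, nsmul_eq_mul, card_units_cast, one_mul]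

omit [Fintype F] in
theorem hom_eq_of_mul {α β γ : F →+* F} (h : ∀ ρ : Fˣ, α ρ * β ρ = γ ρ) : α = β := by
  have h1 : ∀ a, α a * β a = γ a := fun a => by
    by_cases e : a = 0
    · simp [e]
    · exact h (Units.mk0 a e)
  ext a
  have h2 := h1 (a + 1)
  simp only [map_add, map_one] at h2
  linear_combination h2 - h1 a - β a * (CharTwo.two_eq_zero (R := F))

omit [Fintype F] [CharP F 2] in
theorem hom_eq_of_mul' {α β γ δ : F →+* F} (h : ∀ ρ : Fˣ, α ρ * β ρ = γ ρ * δ ρ) :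
    α = β ∨ α = γ ∨ β = γ := by
  have h1 : ∀ a, α a * β a = γ a * δ a := fun a => by
    by_cases e : a = 0
    · simp [e]
    · exact h (Units.mk0 a e)
  have h2 : ∀ a, α a + β a = γ a + δ a := fun a => by
    have h2 := h1 (a + 1)
    simp only [map_add, map_one] at h2
    linear_combination h2 - h1 a
  by_contra! hc
  have inj : ∀ {α β : F →+* F}, α ≠ β → (α : F →* F) ≠ β := fun e e' =>
    e (RingHom.ext fun a => DFunLike.congr_fun e' a)
  have h3 : δ = α := by_contra fun e => one_ne_zero (Suz.dedekind4 (α : F →* F) β γ δ 1 1 (-1) (-1)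
    (fun a => by simp only [MonoidHom.coe_coe]; linear_combination h2 a) (inj hc.1.symm)
    (inj hc.2.1.symm) (inj e))
  exact hc.2.2 (RingHom.ext fun a => by have := h2 a; rw [h3] at this; linear_combination this)

namespace Fr

variable {ι : Type} [Fintype ι] (fr : Fr X F ι) [DecidableEq F]

theorem sumK {A : Type*} [AddCommMonoid A] {φ : X → A} (hφ : Fpf φ) (g h : X) :
    ∑ ρ, φ (g * fr.k ρ * h) = 0 := by
  obtain ⟨γ, hγ⟩ := IsCyclic.exists_generator (α := Fˣ)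
  have h1 : γ ≠ 1 := by
    rintro rfl
    obtain ⟨ρ, h1⟩ := fr.big
    exact h1 (by simpa using hγ ρ)
  have h2 := orderOf_eq_card_of_forall_mem_zpowers hγ
  rw [← hφ (fr.k γ) (Nat.card Fˣ) g h ?_ (by rw [← map_pow, pow_card_eq_one', map_one]) fun e => ?_,
    ← IsCyclic.image_range_card hγ, sum_image]
  · simp only [map_pow]
  · rw [← h2, coe_range]; exact pow_injOn_Iio_orderOf
  · rw [Nat.card_eq_fintype_card, Fintype.card_units]
    exact Nat.Even.sub_odd Fintype.card_pos (even_iff_two_dvd.mpr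
      (Nat.dvd_of_mod_eq_zero (FiniteField.even_card_of_char_two (ringChar.eq F 2)))) odd_one
  · have := fr.c_kr γ fr.w
    rw [e, mul_one, fr.c_w, mul_one] at this
    exact h1 (Units.ext this.symm)

section rep

variable {V : Type*} [AddCommGroup V] [Module F V] [Finite V] (π : X →* Module.End F V)
  {U : Submodule F V} (hU : ∀ g, ∀ u ∈ U, π g u ∈ U) (h0 : U ≠ ⊥)

/-- `v` is a highest weight vector. -/
structure HW (v : V) (χ : Fˣ →* F) : Prop where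
  fix : ∀ s ∈ fr.S, π s v = v
  eig : ∀ ρ, π (fr.k ρ) v = χ ρ • v

omit [Fintype F] [CharP F 2] [DecidableEq F] [Finite V] in
theorem app_mul (g h : X) (v : V) : π (g * h) v = π g (π h v) := by rw [map_mul]; rfl

include hU h0 in
theorem exists_hw : ∃ v ∈ U, v ≠ 0 ∧ ∃ χ, fr.HW π v χ := by
  haveI := Fact.mk Nat.prime_two
  letI : MulAction fr.S U :=
    { smul := fun s u => ⟨π s u, hU s u u.2⟩
      one_smul := fun u => Subtype.ext (by change π 1 u = u; rw [map_one]; rfl)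
      mul_smul := fun s t u => Subtype.ext (app_mul π s t u) }
  obtain ⟨u, hu, hu0⟩ := (Submodule.ne_bot_iff U).mp h0
  obtain ⟨v, hv, hv0⟩ := fr.S2.exists_fixed_point_of_prime_dvd_card_of_fixed_point U (a := 0)
    (addOrderOf_eq_prime (x := (⟨u, hu⟩ : U)) (p := 2) (by
      rw [← Nat.cast_smul_eq_nsmul F, CharP.cast_eq_zero, zero_smul])
      (fun e => hu0 (congrArg Subtype.val e)) ▸ addOrderOf_dvd_natCard _)
    fun s => Subtype.ext (map_zero (π s))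
  have h1 : ∀ s ∈ fr.S, π s v = v := fun s hs => congrArg Subtype.val (hv ⟨s, hs⟩)
  obtain ⟨j, hj⟩ : ∃ j : ℕ, ∑ ρ : Fˣ, ((ρ⁻¹ : Fˣ) : F) ^ j • π (fr.k ρ) v ≠ 0 := by
    by_contra! hc
    have := sum_congr (rfl : range (Fintype.card F - 1) = _) fun j _ => hc j
    rw [sum_comm, sum_eq_single 1, sum_const_zero, ← sum_smul] at this
    · simp only [inv_one, Units.val_one, one_pow, sum_const, card_range, nsmul_one,
        card_units_cast, one_smul, map_one, Module.End.one_apply] at this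
      exact hv0 (Subtype.ext this.symm)
    · intro ρ _ h2
      rw [← sum_smul, geom_sum_eq fun e => h2 (inv_eq_one.mp (Units.ext e)),
        FiniteField.pow_card_sub_one_eq_one _ (Units.ne_zero _), sub_self, zero_div, zero_smul]
    · simp
  refine ⟨_, U.sum_mem fun ρ _ => U.smul_mem _ (hU _ _ v.2), hj,
    (powMonoidHom j).comp (Units.coeHom F), fun s hs => ?_, fun τ => ?_⟩
  · rw [map_sum]
    refine sum_congr rfl fun ρ _ => ?_
    rw [map_smul, ← app_mul, show s * fr.k ρ = fr.k ρ * (fr.k ρ⁻¹ * s * (fr.k ρ⁻¹)⁻¹) by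
      rw [map_inv]; group, app_mul, h1 _ (fr.kS _ s hs)]
  · rw [map_sum, smul_sum]
    refine Fintype.sum_equiv (Equiv.mulLeft τ) _ _ fun ρ => ?_
    rw [map_smul, ← app_mul, ← map_mul, smul_smul]
    congr 1
    simp only [Equiv.coe_mulLeft, mul_inv_rev, Units.val_mul, mul_pow, MonoidHom.comp_apply,
      Units.coeHom_apply, powMonoidHom_apply]
    rw [mul_left_comm, ← mul_pow, Units.mul_inv, one_pow, mul_one]

end rep

/-- Functions invariant under `S` on both sides. -/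
theorem bi_hw {φ : X → F} (h0 : φ ≠ 0) (hφ : Fpf φ) (hl : ∀ s ∈ fr.S, ∀ g, φ (s * g) = φ g)
    (hr : ∀ s ∈ fr.S, ∀ g, φ (g * s) = φ g) {χ χ' : Fˣ →* F}
    (h1 : ∀ ρ g, φ (g * fr.k ρ) = χ ρ * φ g) (h2 : ∀ ρ g, φ (fr.k ρ * g) = χ' ρ * φ g) :
    ∃ σ : F →+* F, (∀ ρ, χ ρ = σ ρ) ∧ φ fr.w ≠ 0 ∧ ∀ g, φ g = φ fr.w * σ (fr.c g) := by
  have hx : fr.z 1 * fr.w ≠ 1 := fun e => fr.cx 1 one_pos fr.one_lt (by rw [e, one_pow, fr.c_one])
  have c1 : ∀ s ∈ fr.S, ∀ ρ, fr.c (s * fr.k ρ) = 0 := fun s hs ρ => by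
    rw [fr.c_kr, ← mul_one s, fr.c_sl s hs, fr.c_one, mul_zero]
  have c2 : ∀ s ∈ fr.S, ∀ ρ, ∀ s' ∈ fr.S, fr.c (s * fr.w * fr.k ρ * s') = ρ :=
    fun s hs ρ s' hs' => by rw [fr.c_sr s' hs', fr.c_kr, fr.c_sl s hs, fr.c_w, mul_one]
  have f1 : ∀ s ∈ fr.S, ∀ ρ, φ (s * fr.k ρ) = χ ρ * φ 1 := fun s hs ρ => by
    rw [h1, ← mul_one s, hl s hs]
  have f2 : ∀ s ∈ fr.S, ∀ ρ, ∀ s' ∈ fr.S, φ (s * fr.w * fr.k ρ * s') = χ ρ * φ fr.w :=
    fun s hs ρ s' hs' => by rw [hr s' hs', h1, hl s hs]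
  have hw : φ fr.w ≠ 0 := fun e => h0 (by
    have h3 : φ 1 = 0 := by
      have := hφ _ _ 1 1 fr.odd fr.pow hx
      rwa [sum_eq_single 0, pow_zero, mul_one, mul_one] at this
      · intro j hj hj0
        rw [one_mul, mul_one]
        rcases fr.bruhat ((fr.z 1 * fr.w) ^ j) with ⟨s, hs, ρ, h3⟩ | ⟨s, hs, ρ, s', hs', h3⟩
        · exact absurd (h3 ▸ c1 s hs ρ) (fr.cx j (Nat.pos_of_ne_zero hj0) (mem_range.mp hj))
        · rw [h3, f2 s hs ρ s' hs', e, mul_zero]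
      · exact fun e => absurd (mem_range.mpr (one_pos.trans fr.one_lt)) e
    ext g
    rcases fr.bruhat g with ⟨s, hs, ρ, rfl⟩ | ⟨s, hs, ρ, s', hs', rfl⟩
    · rw [f1 s hs, h3, mul_zero, Pi.zero_apply]
    · rw [f2 s hs ρ s' hs', e, mul_zero, Pi.zero_apply])
  have h3 : φ 1 = 0 := by
    by_contra e
    have h3 : ∀ ρ, χ ρ = 1 := fun ρ => by
      have h4 := h2 ρ fr.w
      rw [fr.kw, h1] at h4
      have h5 := h2 ρ 1
      rw [mul_one, ← one_mul (fr.k ρ), h1] at h5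
      have h6 : χ ρ * χ ρ = 1 := by
        nth_rewrite 1 [mul_right_cancel₀ e h5]
        rw [← mul_right_cancel₀ hw h4, ← map_mul, inv_mul_cancel, map_one]
      simpa [CharTwo.neg_eq] using mul_self_eq_one_iff.mp h6
    have := fr.sumK hφ fr.w 1
    simp only [mul_one, h1, h3, one_mul, sum_units_const] at this
    exact hw this
  let σ : F → F := fun a => if h : a = 0 then 0 else χ (Units.mk0 a h)
  have s1 : ∀ ρ : Fˣ, σ ρ = χ ρ := fun ρ => by simp [σ]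
  have s0 : σ 0 = 0 := by simp [σ]
  have h4 : ∀ g, φ g = φ fr.w * σ (fr.c g) := fun g => by
    rcases fr.bruhat g with ⟨s, hs, ρ, rfl⟩ | ⟨s, hs, ρ, s', hs', rfl⟩
    · rw [f1 s hs, c1 s hs, h3, s0, mul_zero, mul_zero]
    · rw [f2 s hs ρ s' hs', c2 s hs ρ s' hs', s1, mul_comm]
  have s2 : σ 1 = 1 := (s1 1).trans (map_one χ)
  have s3 : ∀ a b, σ (a * b) = σ a * σ b := fun a b => by
    by_cases ha : a = 0
    · rw [ha, zero_mul, s0, zero_mul]
    by_cases hb : b = 0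
    · rw [hb, mul_zero, s0, mul_zero]
    exact (s1 (Units.mk0 a ha * Units.mk0 b hb)).trans
      ((map_mul χ _ _).trans (by rw [← s1, ← s1]; rfl))
  have s4 : ∀ b, σ (1 + b) = 1 + σ b := fun b => by
    have := hφ _ _ 1 (fr.z b * fr.w) fr.odd fr.pow hx
    simp only [one_mul, h4 (_ * _), ← mul_sum, fr.sum σ b, s2] at this
    exact (CharTwo.add_eq_zero.mp ((mul_eq_zero.mp this).resolve_left hw)).symm
  refine ⟨⟨⟨⟨σ, s2⟩, s3⟩, s0, fun a b => ?_⟩, fun ρ => (s1 ρ).symm, hw, h4⟩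
  by_cases ha : a = 0
  · simp only [ha, zero_add, s0]
  · have e : a + b = a * (1 + b / a) := by field_simp
    change σ (a + b) = σ a + σ b
    rw [e, s3, s4, mul_add, mul_one, ← s3, mul_div_cancel₀ _ ha]

end Fr

/-- Right translation. -/
def rT (F : Type*) [Field F] {Y : Type*} (a : X → Y → Y) (h1 : ∀ y, a 1 y = y)
    (h2 : ∀ g h y, a (g * h) y = a h (a g y)) : X →* Module.End F (Y → F) where
  toFun g := LinearMap.funLeft F F (a g)
  map_one' := by ext φ y; simp [h1]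
  map_mul' g h := by ext φ y; simp [h2]

/-- Left translation. -/
def lT (F : Type*) [Field F] : X →* Module.End F (X → F) :=
  rT F (fun g y => g⁻¹ * y) (by simp) (by simp [mul_assoc])

omit [Fintype F] [CharP F 2] in
theorem lT_apply (g y : X) (u : X → F) : lT F g u y = u (g⁻¹ * y) := rfl

namespace Fr

variable {ι : Type} [Fintype ι] (fr : Fr X F ι) [DecidableEq F] [Finite X]

theorem left_hw {U : Submodule F (X → F)} (h0 : U ≠ ⊥) (hU : ∀ g, ∀ u ∈ U, (fun y => u (g * y)) ∈ U)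
    (hf : ∀ u ∈ U, Fpf u) {χ : Fˣ →* F} (hr : ∀ u ∈ U, ∀ s ∈ fr.S, ∀ g, u (g * s) = u g)
    (h1 : ∀ u ∈ U, ∀ ρ g, u (g * fr.k ρ) = χ ρ * u g) :
    ∃ u ∈ U, ∃ σ : F →+* F, (∀ ρ, χ ρ = σ ρ) ∧ u fr.w ≠ 0 ∧ ∀ g, u g = u fr.w * σ (fr.c g) := by
  obtain ⟨u, hu, hu0, χ', h2⟩ := fr.exists_hw (lT F) (fun g u hu => hU g⁻¹ u hu) h0
  exact ⟨u, hu, fr.bi_hw hu0 (hf u hu) (fun s hs g => by
    simpa [lT_apply] using congrFun (h2.fix s⁻¹ (inv_mem hs)) g) (hr u hu) (h1 u hu)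
    (χ' := χ'.comp invMonoidHom) fun ρ g => by simpa [lT_apply] using congrFun (h2.eig ρ⁻¹) g⟩

theorem weights {V : Type*} [AddCommGroup V] [Module F V] [Finite V] (π : X →* Module.End F V)
    {U : Submodule F V} (hU : ∀ g, ∀ u ∈ U, π g u ∈ U) (h0 : U ≠ ⊥)
    (hf : ∀ u ∈ U, ∀ y n, Odd n → y ^ n = 1 → y ≠ 1 → ∑ j ∈ range n, π (y ^ j) u = 0) :
    ∃ v ∈ U, v ≠ 0 ∧ ∃ σ : F →+* F, fr.HW π v ((σ : F →* F).comp (Units.coeHom F)) ∧
      ∀ (ε : V →ₗ[F] F) (ν : Fˣ →* F), (∀ u ∈ U, ∀ ρ, ε (π (fr.k ρ) u) = ν ρ * ε u) →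
        ∀ h, ε (π h v) ≠ 0 → ∃ i, ∀ ρ, ν ρ = σ (fr.d i ρ) := by
  haveI : Finite (Submodule F V) := Finite.of_injective _ SetLike.coe_injective
  obtain ⟨R, hRU, hR⟩ := Finite.exists_le_minimal
    (p := fun R : Submodule F V => R ≠ ⊥ ∧ ∀ g, ∀ u ∈ R, π g u ∈ R) ⟨h0, hU⟩
  obtain ⟨v, hv, hv0, χ, hw⟩ := fr.exists_hw π hR.prop.2 hR.prop.1
  let T : Module.Dual F V →ₗ[F] X → F := LinearMap.pi fun g => Module.Dual.eval F V (π g v)
  have hT : ∀ l g, T l g = l (π g v) := fun _ _ => rfl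
  obtain ⟨_, ⟨l, rfl⟩, σ, h1, h2, h3⟩ := fr.left_hw (U := LinearMap.range T) (χ := χ) (fun e =>
      hv0 ((Module.forall_dual_apply_eq_zero_iff F v).mp fun l => by
        simpa [hT] using congrFun ((Submodule.eq_bot_iff _).mp e _ ⟨l, rfl⟩) 1))
    (by rintro g _ ⟨l, rfl⟩; exact ⟨l ∘ₗ π g, funext fun y => by simp [hT]⟩)
    (by
      rintro _ ⟨l, rfl⟩ y n g h h1 h2 h3
      simp only [hT, app_mul, ← map_sum, hf _ (hU h v (hRU hv)) y n h1 h2 h3, map_zero])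
    (by rintro _ ⟨l, rfl⟩ s hs g; rw [hT, hT, app_mul, hw.fix s hs])
    (by rintro _ ⟨l, rfl⟩ ρ g; rw [hT, hT, app_mul, hw.eig, map_smul, map_smul, smul_eq_mul])
  refine ⟨v, hRU hv, hv0, σ, ⟨hw.fix, fun ρ => by rw [hw.eig, h1]; rfl⟩,
    fun ε ν h4 h h5 => by_contra fun h6 => h5 ?_⟩
  let N : Submodule F V := R ⊓ ⨅ g, LinearMap.ker (l ∘ₗ π g)
  have hN : ∀ u, u ∈ N ↔ u ∈ R ∧ ∀ g, l (π g u) = 0 := fun u => by simp [N]
  have h7 : N = ⊥ := by_contra fun e => h2 (((hN v).mp (hR.le_of_le ⟨e, fun g u hu => (hN _).mpr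
    ⟨hR.prop.2 g u hu.1, fun g' => by rw [← app_mul]; exact ((hN u).mp hu).2 _⟩⟩ inf_le_left hv)).2 _)
  have h8 : ∑ ρ, ν ρ⁻¹ • π (fr.k ρ) (π h v) ∈ N := by
    refine (hN _).mpr ⟨R.sum_mem fun ρ _ => R.smul_mem _ (hR.prop.2 _ _ (hR.prop.2 _ _ hv)),
      fun g => ?_⟩
    have h8 : ∀ ρ, l (π g (π (fr.k ρ) (π h v))) =
        ∑ i, σ (fr.d i ρ) * (T l fr.w * σ (fr.m i g * fr.n i h)) := fun ρ => by
      rw [← app_mul, ← app_mul, ← hT, h3, fr.mul, map_sum, mul_sum]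
      exact sum_congr rfl fun i _ => by rw [fr.mk']; simp only [map_mul]; ring
    simp only [map_sum, map_smul, h8, smul_eq_mul, mul_sum]
    rw [sum_comm]
    refine sum_eq_zero fun i _ => ?_
    simp only [← mul_assoc, ← sum_mul]
    have := sum_hom_units_eq_zero (ν.comp invMonoidHom * (σ : F →* F).comp (fr.d i)) fun e =>
      h6 ⟨i, fun ρ => by
        have h9 : ν ρ⁻¹ * σ (fr.d i ρ) = 1 := DFunLike.congr_fun e ρ
        rw [← mul_one (ν ρ), ← h9, ← mul_assoc, ← map_mul, mul_inv_cancel, map_one, one_mul]⟩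
    exact mul_eq_zero_of_left (mul_eq_zero_of_left this _) _
  have h9 := congrArg ε ((Submodule.eq_bot_iff _).mp h7 _ h8)
  simp only [map_sum, map_smul, h4 _ (hU h v (hRU hv)), smul_eq_mul, ← mul_assoc, ← map_mul,
    inv_mul_cancel, map_one, one_mul, sum_units_const, map_zero] at h9
  exact h9

end Fr

end CfsgLib.Cit
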