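import Cfsg.Agent.Lib.CIT.Mod

/-!
# No invariant trilinear forms and no lifts to characteristic `4`
-/

set_option autoImplicit false

namespace CfsgLib.Cit

open Finset

variable {X : Type*} [Group X] {F : Type*} [Field F] [Fintype F] [CharP F 2]

/-- The matrix coefficients of an invariant trilinear form. -/
structure Tri (Φ : X × X × X → F) : Prop where
  inv : ∀ h a b c, Φ (h * a, h * b, h * c) = Φ (a, b, c)
  f1 : ∀ b c, Fpf fun a => Φ (a, b, c)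
  f2 : ∀ a c, Fpf fun b => Φ (a, b, c)
  f3 : ∀ a b, Fpf fun c => Φ (a, b, c)

theorem Fpf.mul_right {A : Type*} [AddCommMonoid A] {φ : X → A} (h : Fpf φ) (g : X) :
    Fpf fun a => φ (a * g) := fun y n a b h1 h2 h3 => by
  simpa only [mul_assoc] using h y n a (b * g) h1 h2 h3

theorem Fpf.mul_left {A : Type*} [AddCommMonoid A] {φ : X → A} (h : Fpf φ) (g : X) :
    Fpf fun a => φ (g * a) := fun y n a b h1 h2 h3 => by
  simpa only [mul_assoc] using h y n (g * a) b h1 h2 h3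

theorem Fpf.add {A : Type*} [AddCommMonoid A] {φ ψ : X → A} (h : Fpf φ) (h' : Fpf ψ) :
    Fpf fun a => φ a + ψ a := fun y n a b h1 h2 h3 => by
  rw [sum_add_distrib, h y n a b h1 h2 h3, h' y n a b h1 h2 h3, add_zero]

theorem Fpf.const_mul {A : Type*} [Semiring A] {φ : X → A} (h : Fpf φ) (r : A) :
    Fpf fun a => r * φ a := fun y n a b h1 h2 h3 => by
  rw [← mul_sum, h y n a b h1 h2 h3, mul_zero]

theorem fpf_zero {A : Type*} [AddCommMonoid A] : Fpf fun _ : X => (0 : A) :=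
  fun _ _ _ _ _ _ _ => sum_const_zero

theorem sum_half {M : Type*} [AddCommMonoid M] [DecidableEq F] : ∃ A : Finset Fˣ, ∀ g : Fˣ → M,
    ∑ ρ, g ρ = g 1 + ∑ ρ ∈ A, (g ρ + g ρ⁻¹) := by
  let e := Fintype.equivFin Fˣ
  refine ⟨univ.filter fun ρ => e ρ < e ρ⁻¹, fun g => ?_⟩
  rw [sum_add_distrib, sum_filter, sum_filter, ← Fintype.sum_equiv (Equiv.inv Fˣ)
    (fun ρ => if e ρ⁻¹ < e ρ then g ρ else 0) (fun ρ => if e ρ < e ρ⁻¹ then g ρ⁻¹ else 0)
    (fun ρ => by simp),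
    ← sum_ite_eq_of_mem' univ 1 g (mem_univ _), ← sum_add_distrib, ← sum_add_distrib]
  refine sum_congr rfl fun ρ _ => ?_
  by_cases h : ρ = 1
  · simp [h]
  rcases lt_trichotomy (e ρ) (e ρ⁻¹) with h1 | h1 | h1
  · simp [h, h1, h1.not_gt]
  · have h2 : (ρ : F) * ρ = 1 := by
      nth_rewrite 1 [e.injective h1]; exact Units.inv_mul ρ
    exact absurd (Units.ext (by simpa [CharTwo.neg_eq] using mul_self_eq_one_iff.mp h2)) h
  · simp [h, h1, h1.not_gt]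

namespace Fr

variable {ι : Type} [Fintype ι] (fr : Fr X F ι) [DecidableEq F]

theorem tri_zero {Φ : X × X × X → F} (h : Tri Φ) {α β : F →+* F}
    (s1 : ∀ s ∈ fr.S, ∀ a b c, Φ (a * s, b, c) = Φ (a, b, c))
    (s2 : ∀ s ∈ fr.S, ∀ a b c, Φ (a, b * s, c) = Φ (a, b, c))
    (k1 : ∀ ρ a b c, Φ (a * fr.k ρ, b, c) = α ρ * Φ (a, b, c))
    (k2 : ∀ ρ a b c, Φ (a, b * fr.k ρ, c) = β ρ * Φ (a, b, c))
    (h0 : α = β ∨ ∀ c, Φ (1, fr.w, c) = 0) : Φ = 0 := by
  have h1 : ∀ c, Φ (1, fr.w, c) = 0 := by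
    rcases h0 with rfl | h0
    · intro c
      have := fr.sumK (h.f3 1 fr.w) 1 c
      rw [sum_congr rfl fun ρ _ => show _ = Φ (1, fr.w, c) from ?_, sum_units_const] at this
      · exact this
      · rw [← h.inv (fr.k ρ⁻¹), fr.kw, k2, mul_one, ← one_mul (fr.k ρ⁻¹), k1, ← mul_assoc, ← map_mul]
        simp
    · exact h0
  have h2 : ∀ s ∈ fr.S, ∀ b c, Φ (1, s * b, c) = Φ (1, b, s⁻¹ * c) := fun s hs b c => by
    rw [← h.inv s⁻¹, mul_one, ← one_mul s⁻¹, s1 _ (inv_mem hs), one_mul, inv_mul_cancel_left]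
  have h3 : ∀ s ∈ fr.S, ∀ ρ, ∀ s' ∈ fr.S, ∀ c, Φ (1, s * fr.w * fr.k ρ * s', c) = 0 :=
    fun s hs ρ s' hs' c => by rw [s2 s' hs', k2, h2 s hs, h1, mul_zero]
  have h4 : ∀ c, Φ (1, 1, c) = 0 := fun c => by
    have := h.f2 1 c _ _ 1 1 fr.odd fr.pow fun e =>
      fr.cx 1 one_pos fr.one_lt (by rw [e, one_pow, fr.c_one])
    rwa [sum_eq_single 0, pow_zero, mul_one, mul_one] at this
    · intro j hj hj0
      rw [one_mul, mul_one]
      rcases fr.bruhat ((fr.z 1 * fr.w) ^ j) with ⟨s, hs, ρ, h4⟩ | ⟨s, hs, ρ, s', hs', h4⟩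
      · refine absurd ?_ (fr.cx j (Nat.pos_of_ne_zero hj0) (mem_range.mp hj))
        rw [h4, fr.c_kr, ← mul_one s, fr.c_sl s hs, fr.c_one, mul_zero]
      · rw [h4]; exact h3 s hs ρ s' hs' c
    · exact fun e => absurd (mem_range.mpr (one_pos.trans fr.one_lt)) e
  ext ⟨a, b, c⟩
  rw [← h.inv a⁻¹, inv_mul_cancel, Pi.zero_apply]
  rcases fr.bruhat (a⁻¹ * b) with ⟨s, hs, ρ, h5⟩ | ⟨s, hs, ρ, s', hs', h5⟩
  · rw [h5, k2, ← mul_one s, h2 s hs, h4, mul_zero]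
  · rw [h5, h3 s hs ρ s' hs']

include fr

theorem tri_eq_zero [Finite X] {Φ : X × X × X → F} (h : Tri Φ) : Φ = 0 := by
  by_contra h0
  let U : Submodule F (X × X × X → F) :=
    { carrier := {Φ | Tri Φ}
      zero_mem' := ⟨fun _ _ _ _ => rfl, fun _ _ => fpf_zero, fun _ _ => fpf_zero,
        fun _ _ => fpf_zero⟩
      add_mem' := fun {a b} ha hb => ⟨fun _ _ _ _ => by simp only [Pi.add_apply, ha.inv, hb.inv],
        fun _ _ => (ha.f1 _ _).add (hb.f1 _ _), fun _ _ => (ha.f2 _ _).add (hb.f2 _ _),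
        fun _ _ => (ha.f3 _ _).add (hb.f3 _ _)⟩
      smul_mem' := fun r a ha => ⟨fun _ _ _ _ => by simp only [Pi.smul_apply, ha.inv],
        fun _ _ => (ha.f1 _ _).const_mul r, fun _ _ => (ha.f2 _ _).const_mul r,
        fun _ _ => (ha.f3 _ _).const_mul r⟩ }
  let π1 := rT F (fun (g : X) (y : X × X × X) => (y.1 * g, y.2.1, y.2.2)) (by simp) (by simp [mul_assoc])
  let π2 := rT F (fun (g : X) (y : X × X × X) => (y.1, y.2.1 * g, y.2.2)) (by simp) (by simp [mul_assoc])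
  let π3 := rT F (fun (g : X) (y : X × X × X) => (y.1, y.2.1, y.2.2 * g)) (by simp) (by simp [mul_assoc])
  have e1 : ∀ g u a b c, π1 g u (a, b, c) = u (a * g, b, c) := fun _ _ _ _ _ => rfl
  have e2 : ∀ g u a b c, π2 g u (a, b, c) = u (a, b * g, c) := fun _ _ _ _ _ => rfl
  have e3 : ∀ g u a b c, π3 g u (a, b, c) = u (a, b, c * g) := fun _ _ _ _ _ => rfl
  let H : (X →* Module.End F (X × X × X → F)) → (Fˣ →* F) → Submodule F (X × X × X → F) :=
    fun π χ =>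
    { carrier := {u | fr.HW π u χ}
      zero_mem' := ⟨fun _ _ => map_zero _, fun _ => by rw [map_zero, smul_zero]⟩
      add_mem' := fun {a b} ha hb => ⟨fun s hs => by rw [map_add, ha.fix s hs, hb.fix s hs],
        fun ρ => by rw [map_add, ha.eig, hb.eig, smul_add]⟩
      smul_mem' := fun r a ha => ⟨fun s hs => by rw [map_smul, ha.fix s hs],
        fun ρ => by rw [map_smul, ha.eig, smul_comm]⟩ }
  obtain ⟨u, hu, hu0, α, h1, -⟩ := fr.weights π1 (U := U) (fun g u hu => ⟨fun _ _ _ _ => by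
      simp only [e1, mul_assoc, hu.inv], fun _ _ => (hu.f1 _ _).mul_right g,
      fun a c => hu.f2 (a * g) c, fun a b => hu.f3 (a * g) b⟩) ((Submodule.ne_bot_iff U).mpr ⟨Φ, h, h0⟩)
    fun u hu y n h1 h2 h3 => funext fun ⟨a, b, c⟩ => by
      simpa only [Finset.sum_apply, e1, mul_one, Pi.zero_apply] using hu.f1 b c y n a 1 h1 h2 h3
  obtain ⟨v, hv, hv0, β, h2, -⟩ := fr.weights π2 (U := U ⊓ H π1 _) (fun g u hu => ⟨⟨fun _ _ _ _ => by
      simp only [e2, mul_assoc, hu.1.inv], fun b c => hu.1.f1 (b * g) c,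
      fun _ _ => (hu.1.f2 _ _).mul_right g, fun a b => hu.1.f3 a (b * g)⟩,
      fun s hs => funext fun ⟨a, b, c⟩ => congrFun (hu.2.fix s hs) (a, b * g, c),
      fun ρ => funext fun ⟨a, b, c⟩ => congrFun (hu.2.eig ρ) (a, b * g, c)⟩)
    ((Submodule.ne_bot_iff _).mpr ⟨u, ⟨hu, h1⟩, hu0⟩)
    fun u hu y n h1 h2 h3 => funext fun ⟨a, b, c⟩ => by
      simpa only [Finset.sum_apply, e2, mul_one, Pi.zero_apply] using hu.1.f2 a c y n b 1 h1 h2 h3
  obtain ⟨Ψ, ⟨⟨h3, h4⟩, h5⟩, h6, γ, h7, h8⟩ := fr.weights π3 (U := U ⊓ H π1 _ ⊓ H π2 _)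
    (fun g u hu => ⟨⟨⟨fun _ _ _ _ => by simp only [e3, mul_assoc, hu.1.1.inv],
      fun b c => hu.1.1.f1 b (c * g), fun a c => hu.1.1.f2 a (c * g),
      fun _ _ => (hu.1.1.f3 _ _).mul_right g⟩,
      fun s hs => funext fun ⟨a, b, c⟩ => congrFun (hu.1.2.fix s hs) (a, b, c * g),
      fun ρ => funext fun ⟨a, b, c⟩ => congrFun (hu.1.2.eig ρ) (a, b, c * g)⟩,
      fun s hs => funext fun ⟨a, b, c⟩ => congrFun (hu.2.fix s hs) (a, b, c * g),
      fun ρ => funext fun ⟨a, b, c⟩ => congrFun (hu.2.eig ρ) (a, b, c * g)⟩)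
    ((Submodule.ne_bot_iff _).mpr ⟨v, ⟨hv, h2⟩, hv0⟩)
    fun u hu y n h1 h2 h3 => funext fun ⟨a, b, c⟩ => by
      simpa only [Finset.sum_apply, e3, mul_one, Pi.zero_apply] using
        hu.1.1.f3 a b y n c 1 h1 h2 h3
  have s1 := fun s hs a b c => congrFun (HW.fix h4 s hs) (a, b, c)
  have s2 := fun s hs a b c => congrFun (HW.fix h5 s hs) (a, b, c)
  have s3 := fun s hs a b c => congrFun (HW.fix h7 s hs) (a, b, c)
  have k1 := fun ρ a b c => congrFun (HW.eig h4 ρ) (a, b, c)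
  have k2 := fun ρ a b c => congrFun (HW.eig h5 ρ) (a, b, c)
  have k3 := fun ρ a b c => congrFun (HW.eig h7 ρ) (a, b, c)
  have n1 : α ≠ β := fun e => h6 (fr.tri_zero h3 s1 s2 k1 k2 (Or.inl e))
  have n2 : α ≠ γ := fun e => h6 (funext fun ⟨a, b, c⟩ => congrFun (fr.tri_zero
    (Φ := fun y => Ψ (y.1, y.2.2, y.2.1)) ⟨fun _ _ _ _ => h3.inv _ _ _ _, fun _ _ => h3.f1 _ _,
      fun _ _ => h3.f3 _ _, fun _ _ => h3.f2 _ _⟩ (fun s hs a b c => s1 s hs a c b)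
      (fun s hs a b c => s3 s hs a c b) (fun ρ a b c => k1 ρ a c b) (fun ρ a b c => k3 ρ a c b)
      (Or.inl e)) (a, c, b))
  have n3 : β ≠ γ := fun e => h6 (funext fun ⟨a, b, c⟩ => congrFun (fr.tri_zero
    (Φ := fun y => Ψ (y.2.2, y.1, y.2.1)) ⟨fun _ _ _ _ => h3.inv _ _ _ _, fun _ _ => h3.f2 _ _,
      fun _ _ => h3.f3 _ _, fun _ _ => h3.f1 _ _⟩ (fun s hs a b c => s2 s hs c a b)
      (fun s hs a b c => s3 s hs c a b) (fun ρ a b c => k2 ρ c a b) (fun ρ a b c => k3 ρ c a b)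
      (Or.inl e)) (b, c, a))
  refine h6 (fr.tri_zero h3 s1 s2 k1 k2 (Or.inr fun c => by_contra fun h9 => ?_))
  obtain ⟨i, hi⟩ := h8 (LinearMap.proj (1, fr.w, 1)) (((α : F →* F).comp (Units.coeHom F)).comp
    invMonoidHom * (β : F →* F).comp (Units.coeHom F)) (fun u hu ρ => by
      have a1 := congrFun (HW.eig hu.1.2 ρ⁻¹) (1, fr.w * fr.k ρ, 1)
      have a2 := congrFun (HW.eig hu.2 ρ) (1, fr.w, 1)
      rw [e2] at a2
      rw [e1, Pi.smul_apply, a2] at a1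
      rw [LinearMap.proj_apply, e3, ← hu.1.1.inv (fr.k ρ⁻¹), fr.kw, inv_inv, one_mul, ← map_mul,
        inv_mul_cancel, map_one, mul_one, ← one_mul (fr.k ρ⁻¹), a1]
      simp [mul_assoc]) c (by simpa [e3] using h9)
  have hi' : ∀ ρ : Fˣ, β ρ = α ρ * γ (fr.d i ρ) := fun ρ => by
    rw [← hi]; simp
  rcases fr.dform i with h10 | h10 | ⟨θ, h10 | h10⟩
  · exact n2 (hom_eq_of_mul fun ρ => by rw [hi', h10])
  · exact n3 (hom_eq_of_mul (γ := α) fun ρ => by rw [hi', mul_assoc, ← map_mul, h10, map_one, mul_one])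
  · rcases hom_eq_of_mul' (α := β) (β := γ) (γ := α) (δ := γ.comp θ) fun ρ => by
      rw [hi', mul_assoc, ← map_mul, h10]; rfl with e | e | e
    exacts [n3 e, n1 e.symm, n2 e.symm]
  · rcases hom_eq_of_mul' (α := α) (β := γ) (γ := β) (δ := γ.comp θ) fun ρ => by
      rw [hi', RingHom.comp_apply, mul_assoc, ← map_mul, h10] with e | e | e
    exacts [n2 e, n1 e, n3 e.symm]

theorem red_eq_zero [Finite X] {R : Type*} [CommRing R] (red : R →+* F) (ω : Fˣ →* R)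
    (hω : ∀ ρ, red (ω ρ) = ρ) (h2 : ∀ a, a + a = 0 → red a = 0) {f : X → R} (hf : Fpf f) (g : X) :
    red (f g) = 0 := by
  by_contra h0
  let U : Submodule F (X → F) :=
    { carrier := {φ | ∃ f : X → R, Fpf f ∧ ∀ g, φ g = red (f g)}
      zero_mem' := ⟨_, fpf_zero, fun _ => (map_zero red).symm⟩
      add_mem' := fun ⟨a, ha, ha'⟩ ⟨b, hb, hb'⟩ =>
        ⟨_, ha.add hb, fun g => by rw [Pi.add_apply, ha', hb', map_add]⟩
      smul_mem' := fun r _ ⟨a, ha, ha'⟩ => by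
        by_cases e : r = 0
        · exact ⟨_, fpf_zero, fun _ => by simp [e]⟩
        · exact ⟨_, ha.const_mul (ω (Units.mk0 r e)), fun g => by simp [ha', hω]⟩ }
  obtain ⟨u, hu, hu0, χ, h1⟩ := fr.exists_hw (rT F (fun g y : X => y * g) (by simp)
    (by simp [mul_assoc])) (U := U) (fun g _ ⟨a, ha, ha'⟩ => ⟨_, ha.mul_right g, fun y => ha' _⟩)
    ((Submodule.ne_bot_iff U).mpr ⟨fun g => red (f g), ⟨f, hf, fun _ => rfl⟩,
      fun e => h0 (congrFun e g)⟩)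
  let U' : Submodule F (X → F) :=
    { carrier := {u | (∀ s ∈ fr.S, ∀ g, u (g * s) = u g) ∧ ∀ ρ g, u (g * fr.k ρ) = χ ρ * u g}
      zero_mem' := by simp
      add_mem' := fun {a b} ha hb => ⟨fun s hs g => by simp [ha.1 s hs, hb.1 s hs],
        fun ρ g => by simp [ha.2, hb.2, mul_add]⟩
      smul_mem' := fun r a ha => ⟨fun s hs g => by simp [ha.1 s hs],
        fun ρ g => by simp [ha.2, mul_left_comm]⟩ }
  obtain ⟨φ, ⟨⟨f0, h3, h4⟩, -⟩, σ, -, h5, h6⟩ := fr.left_hw (U := U ⊓ U') (χ := χ)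
    ((Submodule.ne_bot_iff _).mpr ⟨u, ⟨hu, fun s hs g => congrFun (h1.fix s hs) g,
      fun ρ g => congrFun (h1.eig ρ) g⟩, hu0⟩)
    (fun g _ ⟨⟨a, ha, ha'⟩, hb⟩ => ⟨⟨_, ha.mul_left g, fun y => ha' _⟩,
      fun s hs y => by simpa only [mul_assoc] using hb.1 s hs (g * y),
      fun ρ y => by simpa only [mul_assoc] using hb.2 ρ (g * y)⟩)
    (fun _ ⟨⟨a, ha, ha'⟩, _⟩ y n g h h1 h2 h3 => by
      simp only [ha', ← map_sum, ha y n g h h1 h2 h3, map_zero])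
    (fun _ hu => hu.2.1) fun _ hu => hu.2.2
  let Ω : Fˣ →* R := ω.comp (Units.map (σ : F →* F))
  have hΩ : ∀ ρ, red (Ω ρ) = σ ρ := fun ρ => hω _
  let f1 : X → R := fun g => ∑ p : Fˣ × Fˣ, Ω (p.1 * p.2⁻¹) * f0 (fr.k p.1 * g * fr.k p.2)
  have a1 : ∀ α β g, f1 (fr.k α * g * fr.k β) = Ω (α⁻¹ * β) * f1 g := fun α β g => by
    simp only [f1, mul_sum]
    refine Fintype.sum_equiv (Equiv.mulRight (α, β)) _ _ fun p => ?_
    simp only [Equiv.coe_mulRight, Prod.fst_mul, Prod.snd_mul]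
    rw [← mul_assoc (Ω _), ← map_mul, mul_comm p.2 β, map_mul fr.k, map_mul fr.k]
    congr 2
    · exact Units.ext (by simp; field_simp)
    · simp only [mul_assoc]
  have a2 : ∀ g, red (f1 g) = φ fr.w * σ (fr.c g) := fun g => by
    simp only [f1, map_sum, map_mul red, hΩ, ← h4]
    rw [sum_congr rfl fun p _ => show _ = φ fr.w * σ (fr.c g) from ?_, Fintype.sum_prod_type]
    · simp only [sum_units_const]
    · rw [h6, fr.c_kr, fr.c_kl, mul_left_comm, ← map_mul]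
      congr 2
      simp only [Units.val_mul, Units.val_inv_eq_inv_val]
      field_simp
  have a3 : ∑ ρ, f1 (fr.w * fr.z 1 * fr.k ρ * (fr.z 1 * fr.w)) = 0 := by
    simp only [f1]
    rw [sum_comm]
    refine sum_eq_zero fun p _ => ?_
    have := fr.sumK h3 (fr.k p.1 * (fr.w * fr.z 1)) (fr.z 1 * fr.w * fr.k p.2)
    simp only [mul_assoc] at this ⊢
    rw [← mul_sum, this, mul_zero]
  let ψ : F → R := fun s => f1 (fr.w * fr.z s * fr.w)
  have b1 : ∀ (α : Fˣ) s, ψ (α ^ 2 * s) = Ω (α ^ 2) * ψ s := fun α s => by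
    have := a1 α⁻¹ α (fr.w * fr.z s * fr.w)
    rw [inv_inv, ← sq] at this
    rw [← this]
    refine congrArg f1 ?_
    have e1 := fr.kw α⁻¹
    have e2 := fr.kw α
    rw [inv_inv] at e1
    calc _ = fr.w * (fr.z (α ^ 2 * s) * fr.k α) * (fr.k α)⁻¹ * fr.w := by group
      _ = fr.w * fr.k α * fr.z s * (fr.k α⁻¹ * fr.w) := by rw [← fr.kz, map_inv]; group
      _ = _ := by
        rw [e1, ← mul_assoc (fr.k α⁻¹), ← mul_assoc (fr.k α⁻¹), e1]
        simp only [mul_assoc]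
  let t : Fˣ → R := fun ρ => Ω ρ * ψ (((ρ⁻¹ : Fˣ) : F) ^ 2 + 1)
  have b2 : ∑ ρ, t ρ = 0 := by
    rw [← a3]
    refine sum_congr rfl fun ρ _ => ?_
    have := a1 ρ⁻¹ 1 (fr.w * fr.z (((ρ⁻¹ : Fˣ) : F) ^ 2 + 1) * fr.w)
    rw [inv_inv, mul_one] at this
    refine this.symm.trans (congrArg f1 ?_)
    have e1 := fr.kw ρ⁻¹
    have e2 := fr.kz ρ⁻¹ 1
    rw [inv_inv] at e1
    rw [mul_one, map_inv] at e2
    calc _ = fr.k ρ⁻¹ * fr.w * (fr.z (((ρ⁻¹ : Fˣ) : F) ^ 2) * (fr.k ρ)⁻¹) * fr.k ρ *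
          (fr.z 1 * fr.w) := by rw [← fr.zadd, map_one]; group
      _ = _ := by rw [e1, ← e2]; group
  have b3 : ∀ ρ, t ρ⁻¹ = t ρ := fun ρ => by
    have := b1 ρ (((ρ⁻¹ : Fˣ) : F) ^ 2 + 1)
    rw [mul_add, ← mul_pow, Units.mul_inv, one_pow, mul_one, add_comm] at this
    simp only [t, inv_inv]
    rw [this, ← mul_assoc, ← map_mul, sq, inv_mul_cancel_left]
  obtain ⟨A, hA⟩ := sum_half (F := F) (M := R × F)
  have b4 := congrArg Prod.fst (hA fun ρ => (t ρ, 0))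
  have b5 := congrArg Prod.snd (hA fun ρ => (0, ρ))
  simp only [Prod.fst_sum, Prod.snd_sum, Prod.fst_add, Prod.snd_add, b2, b3, sum_add_distrib]
    at b4 b5
  obtain ⟨ρ, hρ⟩ := fr.big
  have b6 : ∑ ρ : Fˣ, (ρ : F) = 0 := sum_hom_units_eq_zero (Units.coeHom F) fun e =>
    hρ (Units.ext (DFunLike.congr_fun e ρ))
  have b7 : t 1 = ψ 0 := by simp [t, CharTwo.add_self_eq_zero]
  have b8 := b1 ρ 0
  rw [mul_zero] at b8
  have b9 := h2 ((Ω (ρ ^ 2) - 1) * ∑ ρ ∈ A, t ρ) (by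
    rw [b7] at b4
    linear_combination (1 - Ω (ρ ^ 2)) * b4 + b8)
  have b10 : red (∑ ρ ∈ A, t ρ) = φ fr.w := by
    have : ∑ ρ ∈ A, (ρ : F) + ∑ ρ ∈ A, ((ρ⁻¹ : Fˣ) : F) = 1 := by
      rw [b6, Units.val_one] at b5
      exact (CharTwo.add_eq_zero.mp b5.symm).symm
    rw [← mul_one (φ fr.w), ← map_one σ, ← this, ← sum_add_distrib, map_sum, map_sum, mul_sum]
    refine sum_congr rfl fun ρ _ => ?_
    rw [map_mul, hΩ, a2, fr.cz, mul_left_comm, ← map_mul]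
    congr 2
    simp only [Units.val_inv_eq_inv_val]
    field_simp
    ring
  rw [map_mul, b10, map_sub, hΩ, map_one, mul_eq_zero, sub_eq_zero, ← map_one σ,
    σ.injective.eq_iff, Units.val_pow_eq_pow_val, sq] at b9
  exact hρ (Units.ext (by
    simpa [CharTwo.neg_eq] using mul_self_eq_one_iff.mp (b9.resolve_right h5)))

theorem add_self_eq_zero [Finite X] {f : X → ZMod 4} (hf : Fpf f) (g : X) : f g + f g = 0 := by
  let c := ZMod.castHom (show 2 ∣ 4 by norm_num) F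
  have h1 : ∀ a : ZMod 4, a + a = 0 → c a = 0 := fun a ha => by
    rcases (by decide : ∀ a : ZMod 4, a + a = 0 → a = 0 ∨ a = 1 + 1) a ha with rfl | rfl
    · exact map_zero c
    · rw [map_add, CharTwo.add_self_eq_zero]
  have h2 := fr.red_eq_zero (R := MonoidAlgebra (ZMod 4) Fˣ)
    (MonoidAlgebra.liftNCRingHom c (Units.coeHom F) fun _ _ => Commute.all _ _)
    (MonoidAlgebra.of _ _) (fun ρ => by simp) (fun a ha => by
      rw [← MonoidAlgebra.sum_coeff_single a, map_finsuppSum]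
      refine sum_eq_zero fun ρ _ => ?_
      beta_reduce
      rw [MonoidAlgebra.liftNCRingHom_single, h1 (a.coeff ρ) (congrArg (fun a => a.coeff ρ) ha), zero_mul])
    (f := fun g => algebraMap _ _ (f g)) (fun y n a b h1 h2 h3 => by
      rw [← map_sum, hf y n a b h1 h2 h3, map_zero]) g
  rw [MonoidAlgebra.coe_algebraMap, Function.comp_apply, MonoidAlgebra.liftNCRingHom_single,
    map_one, mul_one] at h2
  rcases (by decide : ∀ a : ZMod 4, a + a = 0 ∨ a + 1 + (a + 1) = 0) (f g) with e | e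
  · exact e
  · have := h1 _ e
    rw [map_add, map_one, show c (f g) = 0 from h2, zero_add] at this
    exact absurd this one_ne_zero

end Fr

end CfsgLib.Cit
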