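import Cfsg.Agent.Lib.CIT.Mod2
import Cfsg.Agent.Lib.Suz.SzModel
import Cfsg.Agent.Lib.H1SL2

/-!
# The natural modules of `SL₂(2^n)` and `Sz(q)`
-/

set_option autoImplicit false

namespace CfsgLib.Cit

open Finset Matrix MatrixGroups CfsgLib.H1 CfsgLib.Suz Cfsg.Lie

variable {F : Type*} [Field F] [CharP F 2]

section SL

/-- A matrix in `SL₂(F)`. -/
def sl (a b c d : F) (h : a * d - b * c = 1) : SL(2, F) := ⟨!![a, b; c, d], by rw [det_fin_two_of, h]⟩

omit [CharP F 2] in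
theorem sl_apply (a b c d : F) (h : a * d - b * c = 1) : sl a b c d h 0 0 = a ∧ sl a b c d h 0 1 = b ∧
    sl a b c d h 1 0 = c ∧ sl a b c d h 1 1 = d := ⟨rfl, rfl, rfl, rfl⟩

omit [CharP F 2] in
theorem sl_one : (1 : SL(2, F)) 0 0 = 1 ∧ (1 : SL(2, F)) 0 1 = 0 ∧ (1 : SL(2, F)) 1 0 = 0 ∧
    (1 : SL(2, F)) 1 1 = 1 := by simp

/-- The natural module of `SL₂(F)`. -/
noncomputable def frSL (hF : ∃ ρ : Fˣ, ρ ≠ 1) : Fr SL(2, F) F (Fin 2) where
  S :=
    { carrier := {g | g 0 0 = 1 ∧ g 1 0 = 0 ∧ g 1 1 = 1}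
      one_mem' := by simp
      mul_mem' := fun ha hb => by simp [SL2_mul_apply, ha.1, ha.2.1, ha.2.2, hb.1, hb.2.1, hb.2.2]
      inv_mem' := fun ha => by simp [SL2_inv_00, SL2_inv_10, SL2_inv_11, ha.1, ha.2.1, ha.2.2] }
  k :=
    { toFun := fun ρ => sl ρ 0 0 (ρ⁻¹ : Fˣ) (by simp)
      map_one' := by apply SL2_ext <;> simp [sl_apply]
      map_mul' := fun a b => by apply SL2_ext <;> simp [sl_apply, SL2_mul_apply, mul_comm] }
  w := sl 0 1 1 0 (by simp [CharTwo.neg_eq])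
  z := fun s => sl 1 s 0 1 (by simp)
  c := fun g => g 1 0
  p := 3
  m := fun i g => g 1 i
  n := fun i g => g i 0
  d := ![Units.coeHom F, (Units.coeHom F).comp invMonoidHom]
  S2 := fun g => ⟨1, Subtype.ext (by
    obtain ⟨g, h1, h2, h3⟩ := g
    change g ^ 2 = 1
    rw [sq]
    apply SL2_ext <;> simp [SL2_mul_apply, h1, h2, h3, CharTwo.add_self_eq_zero])⟩
  kS := fun ρ s hs => by
    refine ⟨?_, ?_, ?_⟩ <;>
      simp [SL2_mul_apply, SL2_inv_00, SL2_inv_01, SL2_inv_10, SL2_inv_11, sl_apply, hs.1, hs.2.1,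
        hs.2.2]
  bruhat := fun g => by
    have hd := SL2_det g
    by_cases h : g 1 0 = 0
    · rw [h, mul_zero, sub_zero] at hd
      have h1 := left_ne_zero_of_mul_eq_one hd
      refine Or.inl ⟨sl 1 (g 0 1 * g 0 0) 0 1 (by simp), ⟨rfl, rfl, rfl⟩, Units.mk0 _ h1, ?_⟩
      apply SL2_ext <;> simp [SL2_mul_apply, sl_apply, h, h1, eq_inv_of_mul_eq_one_right hd]
    · refine Or.inr ⟨sl 1 (g 0 0 / g 1 0) 0 1 (by simp), ⟨rfl, rfl, rfl⟩, Units.mk0 _ h,
        sl 1 (g 1 1 / g 1 0) 0 1 (by simp), ⟨rfl, rfl, rfl⟩, ?_⟩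
      apply SL2_ext <;> simp [SL2_mul_apply, sl_apply, h] <;> field_simp
      grind
  c_sl := fun s hs g => by simp [SL2_mul_apply, hs.2.1, hs.2.2]
  c_sr := fun s hs g => by simp [SL2_mul_apply, hs.1, hs.2.1]
  c_kl := fun ρ g => by simp [SL2_mul_apply, sl_apply]
  c_kr := fun ρ g => by simp [SL2_mul_apply, sl_apply, mul_comm]
  c_w := rfl
  c_one := by simp
  kw := fun ρ => by apply SL2_ext <;> simp [SL2_mul_apply, sl_apply]
  odd := by decide
  one_lt := by decide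
  pow := by
    rw [pow_succ, sq]
    apply SL2_ext <;> simp [SL2_mul_apply, sl_apply, CharTwo.add_self_eq_zero]
  cx := fun j h1 h2 => by
    interval_cases j <;> simp [sq, SL2_mul_apply, sl_apply]
  sum := fun σ β => by
    simp only [sum_range_succ, range_zero, sum_empty, sq, pow_zero, pow_one, SL2_mul_apply, sl_apply,
      sl_one]
    simp [add_comm β]
  mul := fun g h => by simp [SL2_mul_apply]
  mk' := fun i g ρ => by fin_cases i <;> simp [SL2_mul_apply, sl_apply, mul_comm]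
  dform := fun i => by fin_cases i <;> simp
  zadd := fun a b => by apply SL2_ext <;> simp [SL2_mul_apply, sl_apply, add_comm]
  kz := fun ρ s => by apply SL2_ext <;> simp [SL2_mul_apply, sl_apply]; field_simp
  cz := fun s => by simp [SL2_mul_apply, sl_apply]
  big := hF

end SL

section Sz

variable {θ : F ≃+* F} (hθ : ∀ x, θ (θ x) = x ^ 2) {e : ℕ} (he : ∀ x, θ x = x ^ e)

include he in
theorem mem_Sz {g : GL (Fin 4) F} (h : InX θ g.val) : g ∈ Sz F e :=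
  Subgroup.subset_closure (G := GL (Fin 4) F) ((inX_iff he g).1 h)

include hθ he in
theorem inX_of_mem [Finite F] {g : GL (Fin 4) F} (h : g ∈ Sz F e) : InX θ g.val := by
  have h1 : InX θ (1 : GL (Fin 4) F).val := by
    rw [Units.val_one, ← szS_zero (θ := θ)]; exact inX_S hθ 0 0
  induction h using Subgroup.closure_induction with
  | mem g hg => exact (inX_iff he g).2 hg
  | one => exact h1
  | mul g h _ _ h2 h3 => exact h2.mul h3
  | inv g _ h2 =>
    have h3 : ∀ n : ℕ, InX θ (g ^ n).val := fun n => by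
      induction n with
      | zero => exact h1
      | succ n ih => rw [pow_succ]; exact ih.mul h2
    rw [inv_eq_of_mul_eq_one_right (show g * g ^ (orderOf g - 1) = 1 by
      rw [mul_pow_sub_one (orderOf_pos g).ne', pow_orderOf_eq_one])]
    exact h3 _

/-- The matrix of an element of `Sz F e`. -/
def mat : Sz F e →* Matrix (Fin 4) (Fin 4) F := (Units.coeHom _).comp (Sz F e).subtype

omit [CharP F 2] in
theorem mat_inj : Function.Injective (mat : Sz F e → _) := fun _ _ h => Subtype.ext (Units.ext h)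

/-- The unipotent elements. -/
def eS (a b : F) : Sz F e := ⟨gS hθ a b, mem_Sz he (inX_S hθ a b)⟩

/-- The Weyl element. -/
def eW : Sz F e := ⟨gW F, mem_Sz he inX_W⟩

omit [CharP F 2] in
theorem mu_ne (θ : F ≃+* F) (ρ : Fˣ) : (ρ : F) / θ ρ ≠ 0 := by simp

/-- The torus. -/
noncomputable def eD : Fˣ →* Sz F e where
  toFun ρ := ⟨gD θ (ρ / θ ρ), mem_Sz he (coe_gD (θ := θ) (mu_ne θ ρ) ▸ inX_D hθ (mu_ne θ ρ))⟩
  map_one' := Subtype.ext (Units.ext (by simp [coe_gD, szD_one]))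
  map_mul' a b := Subtype.ext (Units.ext (by
    simp only [Subgroup.coe_mul, Units.val_mul, coe_gD (mu_ne θ _), szD_mul, map_mul,
      mul_div_mul_comm]
    rw [coe_gD (mul_ne_zero (mu_ne θ a) (mu_ne θ b))]))

theorem mat_eS (a b : F) : mat (eS hθ he a b) = szS θ a b := rfl
theorem mat_eW : mat (eW he) = szW F := rfl
theorem mat_eD' (ρ : Fˣ) : mat (eD hθ he ρ) = szD θ (ρ / θ ρ) := coe_gD (mu_ne θ ρ)
theorem mat_eD (ρ : Fˣ) : mat (eD hθ he ρ) =
    !![(ρ : F), 0, 0, 0; 0, θ ρ / ρ, 0, 0; 0, 0, ρ / θ ρ, 0; 0, 0, 0, (ρ : F)⁻¹] := by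
  have h1 : θ ρ ≠ 0 := by simp
  rw [mat_eD']
  ext i j; fin_cases i <;> fin_cases j <;> simp [szD, hθ] <;> field_simp

/-- The unipotent subgroup. -/
def szU : Subgroup (Sz F e) where
  carrier := {g | ∃ a b, g = eS hθ he a b}
  one_mem' := ⟨0, 0, mat_inj (by rw [map_one, mat_eS, szS_zero])⟩
  mul_mem' := by
    rintro _ _ ⟨a, b, rfl⟩ ⟨c, d, rfl⟩
    exact ⟨a + c, b + d + a * θ c, mat_inj (by rw [map_mul, mat_eS, mat_eS, szS_mul hθ, mat_eS])⟩
  inv_mem' := by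
    rintro _ ⟨a, b, rfl⟩
    exact ⟨a, b + a * θ a, Subtype.ext (Units.ext rfl)⟩

theorem szU_conj (ρ : Fˣ) {s : Sz F e} (hs : s ∈ szU hθ he) :
    (eD hθ he ρ)⁻¹ * s * eD hθ he ρ ∈ szU hθ he := by
  obtain ⟨a, b, rfl⟩ := hs
  refine ⟨θ (ρ / θ ρ) * a, θ (ρ / θ ρ) * θ (θ (ρ / θ ρ)) * b, ?_⟩
  rw [mul_assoc, inv_mul_eq_iff_eq_mul]
  exact mat_inj (by rw [map_mul, map_mul, mat_eS, mat_eD', szS_mul_D hθ (mu_ne θ ρ), mat_eS])

theorem mat_x : mat (eS hθ he 0 (θ.symm 1) * eW he) = !![1, 1, 0, 1; 1, 0, 1, 0; 0, 1, 0, 0; 1, 0, 0, 0] := by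
  rw [map_mul, mat_eS, mat_eW]
  ext i j; fin_cases i <;> fin_cases j <;> simp [szS, szW, Matrix.mul_apply, Fin.sum_univ_four]

theorem mat_x_pow : mat ((eS hθ he 0 (θ.symm 1) * eW he) ^ 2) 3 = ![1, 1, 0, 1] ∧
    mat ((eS hθ he 0 (θ.symm 1) * eW he) ^ 3) 3 = ![1, 1, 1, 1] ∧
    mat ((eS hθ he 0 (θ.symm 1) * eW he) ^ 4) 3 = ![1, 0, 1, 1] ∧
    (eS hθ he 0 (θ.symm 1) * eW he) ^ 5 = 1 := by
  have h : (1 : F) + 1 = 0 := CharTwo.add_self_eq_zero 1
  have h2 : mat ((eS hθ he 0 (θ.symm 1) * eW he) ^ 2) =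
      !![1, 1, 1, 1; 1, 0, 0, 1; 1, 0, 1, 0; 1, 1, 0, 1] := by
    rw [sq, map_mul, mat_x]
    ext i j; fin_cases i <;> fin_cases j <;> simp [Matrix.mul_apply, Fin.sum_univ_four, h]
  have h3 : mat ((eS hθ he 0 (θ.symm 1) * eW he) ^ 3) =
      !![1, 0, 1, 1; 0, 1, 0, 1; 1, 0, 0, 1; 1, 1, 1, 1] := by
    rw [pow_succ, map_mul, h2, mat_x]
    ext i j; fin_cases i <;> fin_cases j <;> simp [Matrix.mul_apply, Fin.sum_univ_four, h]
  have h4 : mat ((eS hθ he 0 (θ.symm 1) * eW he) ^ 4) =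
      !![0, 0, 0, 1; 0, 0, 1, 0; 0, 1, 0, 1; 1, 0, 1, 1] := by
    rw [pow_succ, map_mul, h3, mat_x]
    ext i j; fin_cases i <;> fin_cases j <;> simp [Matrix.mul_apply, Fin.sum_univ_four, h]
  refine ⟨by rw [h2]; rfl, by rw [h3]; rfl, by rw [h4]; rfl, mat_inj ?_⟩
  rw [pow_succ, map_mul, h4, mat_x, map_one]
  ext i j; fin_cases i <;> fin_cases j <;> simp [Matrix.mul_apply, Fin.sum_univ_four, h]

theorem sz_tri [Finite F] {g : Sz F e} (h1 : mat g 1 0 = 0) (h2 : mat g 2 0 = 0)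
    (h3 : mat g 3 0 = 0) : ∃ s ∈ szU hθ he, ∃ ρ, g = s * eD hθ he ρ := by
  obtain ⟨a, b, μ, hμ, h⟩ := (inX_of_mem hθ he g.2).tri hθ h1 h2 h3
  have h4 : θ μ ≠ 0 := by simpa
  refine ⟨_, ⟨a, b, rfl⟩, (Units.mk0 _ (mul_ne_zero hμ h4))⁻¹, mat_inj ?_⟩
  rw [map_mul, mat_eS, mat_eD']
  refine h.trans ?_
  congr 2
  simp [hθ]
  field_simp

/-- The natural module of `Sz(q)`. -/
noncomputable def frSz [Finite F] (hF : ∃ ρ : Fˣ, ρ ≠ 1) : Fr (Sz F e) F (Fin 4) where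
  S := szU hθ he
  k := eD hθ he
  w := eW he
  z := fun s => eS hθ he 0 (θ.symm s)
  c := fun g => mat g 3 0
  p := 5
  m := fun i g => mat g 3 i
  n := fun i g => mat g i 0
  d := ![Units.coeHom F, ((θ : F →* F).comp (Units.coeHom F)) * (Units.coeHom F).comp invMonoidHom,
    Units.coeHom F * ((θ : F →* F).comp (Units.coeHom F)).comp invMonoidHom,
    (Units.coeHom F).comp invMonoidHom]
  S2 := fun ⟨_, a, b, h⟩ => ⟨2, Subtype.ext (mat_inj (by
    subst h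
    change mat (eS hθ he a b ^ (2 * 2)) = mat 1
    rw [pow_mul, sq, sq, map_mul, map_mul, mat_eS, szS_mul hθ, szS_mul hθ, map_one,
      ← szS_zero (θ := θ)]
    simp [CharTwo.add_self_eq_zero]))⟩
  kS := fun ρ s hs => by simpa using szU_conj hθ he ρ⁻¹ hs
  bruhat := fun g => by
    rcases (inX_of_mem hθ he g.2).ovoid with ⟨h1, h2, h3⟩ | ⟨a, b, h1, h2, h3⟩
    · exact Or.inl (sz_tri hθ he h1 h2 h3)
    · obtain ⟨s, hs, ρ, h⟩ := sz_tri hθ he (g := eW he * eS hθ he a b * g) h1 h2 h3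
      have hw : eW he * eW he = 1 := mat_inj (by rw [map_mul, mat_eW, szW_mul, map_one])
      refine Or.inr ⟨_, inv_mem (show eS hθ he a b ∈ szU hθ he from ⟨a, b, rfl⟩), ρ, _,
        szU_conj hθ he ρ hs, ?_⟩
      calc g = (eS hθ he a b)⁻¹ * (eW he * eW he) * eS hθ he a b * g := by rw [hw]; group
        _ = (eS hθ he a b)⁻¹ * eW he * (eW he * eS hθ he a b * g) := by group
        _ = _ := by rw [h]; group
  c_sl := by
    rintro _ ⟨a, b, rfl⟩ g
    simp [mat_eS, szS, Matrix.mul_apply, Fin.sum_univ_four]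
  c_sr := by
    rintro _ ⟨a, b, rfl⟩ g
    simp [mat_eS, szS, Matrix.mul_apply, Fin.sum_univ_four]
  c_kl := fun ρ g => by simp [mat_eD, Matrix.mul_apply, Fin.sum_univ_four]
  c_kr := fun ρ g => by simp [mat_eD, Matrix.mul_apply, Fin.sum_univ_four, mul_comm]
  c_w := rfl
  c_one := by simp
  kw := fun ρ => mat_inj (by
    rw [map_mul, map_mul, mat_eD, mat_eD, mat_eW]
    ext i j; fin_cases i <;> fin_cases j <;>
      simp [szW, Matrix.mul_apply, Fin.sum_univ_four, div_eq_mul_inv, mul_comm])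
  odd := by decide
  one_lt := by decide
  pow := (mat_x_pow hθ he).2.2.2
  cx := fun j h1 h2 => by
    obtain ⟨h3, h4, h5, -⟩ := mat_x_pow hθ he
    interval_cases j
    · rw [pow_one, mat_x]; simp
    · rw [h3]; simp
    · rw [h4]; simp
    · rw [h5]; simp
  sum := fun σ β => by
    obtain ⟨h3, h4, h5, -⟩ := mat_x_pow hθ he
    have h6 : ∀ i, mat (eS hθ he 0 (θ.symm β) * eW he) i 0 = ![β, θ.symm β, 0, 1] i := fun i => by
      fin_cases i <;> simp [mat_eS, mat_eW, szS, szW, Matrix.mul_apply, Fin.sum_univ_four]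
    simp only [sum_range_succ, range_zero, sum_empty, pow_zero, one_mul, pow_one, map_mul mat (_ ^ _),
      map_mul mat (_ * _), Matrix.mul_apply, Fin.sum_univ_four, h3, h4, h5, h6, mat_x]
    simp [add_assoc, CharTwo.add_cancel_left, add_comm β 1]
  mul := fun g h => by rw [map_mul, Matrix.mul_apply]
  mk' := fun i g ρ => by
    fin_cases i <;> simp [mat_eD, Matrix.mul_apply, Fin.sum_univ_four, mul_comm, div_eq_mul_inv]
  dform := fun i => by
    fin_cases i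
    · simp
    · exact Or.inr (Or.inr ⟨θ, Or.inl fun ρ => by simp⟩)
    · exact Or.inr (Or.inr ⟨θ, Or.inr fun ρ => by simp⟩)
    · simp
  zadd := fun a b => mat_inj (by rw [map_mul, mat_eS, mat_eS, mat_eS, szS_mul hθ]; simp)
  kz := fun ρ s => mat_inj (by
    have h1 : θ ρ ≠ 0 := by simp
    have h2 : θ.symm ((ρ : F) ^ 2) = θ ρ := by rw [← hθ, RingEquiv.symm_apply_apply]
    rw [map_mul, map_mul, mat_eS, mat_eS, mat_eD, map_mul, h2]
    ext i j; fin_cases i <;> fin_cases j <;>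
      simp [szS, Matrix.mul_apply, Fin.sum_univ_four, hθ] <;> field_simp)
  cz := fun s => by simp [mat_eS, mat_eW, szS, szW, Matrix.mul_apply, Fin.sum_univ_four]
  big := hF

end Sz

end CfsgLib.Cit
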