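import Cfsg.Agent.Lib.CIT.Amal
import Cfsg.Agent.Lib.BSW.ZT
import Cfsg.Agent.Lib.H8FT
import Cfsg.Agent.Lib.H5NilpotentMaximal

/-!
# (CIT)-groups with independent Sylow `2`-subgroups; non-solvable (CN)-groups are (CIT)-groups
-/

set_option autoImplicit false

namespace CfsgLib.Cit

open Subgroup Cfsg CfsgLib.FT.BGN CfsgLib.FT.U4 CfsgLib.BSW

variable {G : Type*} [Group G] [Finite G] {K : Subgroup G} {t : G}

attribute [local instance] factTwo

theorem zs_zt (h : ZSetup K t) : Suz.ZT 𝐍(K) K t := ⟨h.ro, by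
  rw [h.Dg_eq]
  intro d hd
  have := h.inv d hd
  rwa [H5.inv_eq_self_of_sq h.sq] at this, h.Dg_eq ▸ h.ne_bot⟩

theorem zs_two (h : ZSetup K t) : IsPGroup 2 K := by
  rcases h.zt with ⟨n, -, h1, -⟩ | ⟨h1, -⟩
  · exact isPGroup_of_sq h1
  · exact h1

theorem zs_simple (h : ZSetup K t) : IsSimpleGroup G := by
  have Z := zs_zt h
  have R := h.ro
  haveI : Nontrivial G := ⟨t, 1, R.t_ne⟩
  refine ⟨fun N hN => ?_⟩
  rcases Nat.even_or_odd (Nat.card N) with he | ho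
  · obtain ⟨h1, h2, h3⟩ := R.le_normal_of_even Z.rank2 he
    have h4 : 𝐍(K) ≤ N := fun n hn => by
      obtain ⟨x, hx, d, hd, rfl⟩ := R.dec n hn
      exact N.mul_mem (h3 hx) (h2 d (Z.mem_K hd))
    refine Or.inr (eq_top_iff.mpr fun g _ => by_contra fun hg => hg ?_)
    obtain ⟨n, hn, y, hy, rfl⟩ := R.canon g fun e => hg (h4 e)
    exact N.mul_mem (N.mul_mem (h4 hn) h1) (h3 hy)
  · refine Or.inl (eq_bot_of_forall fun d hd => by_contra fun h1 => ?_)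
    obtain ⟨h2, h3⟩ := R.mem_normalCore_iff.mp
      (normal_le_normalCore.mpr (R.normal_le_of_odd Z.rank2 ho) hd)
    obtain ⟨x, hx, hx1, -⟩ := Suz.exists_invol_of_even R.even
    exact hx1 (Z.fpf h2 h1 hx (h3 x hx).symm)

theorem exists_zSetup (hG : ¬ Group.IsSolvable G) (h : CentTI K) (hK : Group.IsSolvable K) {z : G}
    (hz : z ∈ K) (h1 : z ≠ 1) (hzz : z * z = 1) (hc : z ∈ 𝐂(K)) : ∃ t, ZSetup K t := by
  have h2 : orderOf z = 2 := orderOf_eq_prime (by rw [sq, hzz]) h1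
  have h0 : K ≠ ⊥ := ne_bot_of_mem hz h1
  have h3 : K ≠ ⊤ := by
    rintro rfl
    exact hG (isSolvable_of_equiv topEquiv hK)
  refine h.exists_zSetup h2 hz (fun k hk => mem_cent.mp hc k hk) (fun hn => hG ?_) fun hn => hG ?_
  · refine isSolvable_of_normal_of_quotient K hK (H8FT.solvable_of_not_two_dvd fun e => ?_)
    exact absurd (Nat.eq_one_of_dvd_coprimes h.coprime_index (h2 ▸ K.orderOf_dvd_natCard hz) e)
      (by norm_num)
  · obtain ⟨N, hN⟩ := (h.isFrobeniusComplement hn h0 h3).exists_isFrobeniusPair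
    haveI := hN.normal
    haveI := H5.isNilpotent_of_isFrobeniusPair hN
    obtain ⟨e⟩ := hN.nonempty_mulEquiv_quotient
    exact isSolvable_of_normal_of_quotient N inferInstance (isSolvable_of_equiv e.symm hK)

theorem exists_syl_inv (hG : ¬ Group.IsSolvable G) {S : Subgroup G} (hS : IsSylowIn 2 S ⊤) :
    ∃ z ∈ S, z ≠ 1 ∧ z * z = 1 ∧ z ∈ 𝐂(S) := by
  obtain ⟨z, hz, h1, h2⟩ := exists_OmZ_cent hS.isPGroup le_rfl le_normalizer (by
    rintro rfl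
    obtain ⟨u, hu⟩ := exists_prime_orderOf_dvd_card' 2 (H8FT.two_dvd_of_not_solvable hG)
    have h1 : u * u = 1 := by rw [← sq, ← hu, pow_orderOf_eq_one]
    have := hS.eq_of_le (two_of_sq h1) bot_le le_top
    rw [zpowers_eq_bot] at this
    simp [this] at hu)
  exact ⟨z, hz.1, h1, hz.2.2, h2⟩

theorem CIT.zSetup (hG : CIT G) (hs : ¬ Group.IsSolvable G) (h : TIm (⊥ : Subgroup G)) :
    ∃ (K : Subgroup G) (t : G), ZSetup K t := by
  obtain ⟨S, hS⟩ := IsSylowIn.exists_in (p := 2) (⊤ : Subgroup G)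
  have hS' : Syl S ⊥ := by rwa [Syl, norm_bot]
  obtain ⟨z, hz, h1, h2, h3⟩ := exists_syl_inv hs hS
  haveI := hS.isPGroup.isNilpotent
  refine ⟨S, exists_zSetup hs ⟨fun x hx hx1 g hc => ?_, fun g hg x hx hc => by_contra fun e => hg ?_⟩
    inferInstance hz h1 h2 h3⟩
  · exact hG.cent_le h hS' (two_of_mem hS.isPGroup hx) hx1 hx hx1 (self_mem_cent1 x)
      ⟨by rw [norm_bot]; exact mem_top g, mem_cent1.mpr hc⟩
  · exact mem_norm (h.cj_eq hS' (by rw [norm_bot]; exact mem_top g) hx e hc)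

/-- A non-solvable (CN)-group is a (CIT)-group. -/
theorem cit_of_cn (hG : ¬ Group.IsSolvable G)
    (hCN : ∀ x : G, x ≠ 1 → Group.IsNilpotent 𝐂[x]) : CIT G := by
  intro t y htt ht1 hty hy
  by_contra hy1
  obtain ⟨S, h1, hS⟩ := IsSylowIn.exists_ge (two_of_sq htt) (le_top : zpowers t ≤ ⊤)
  obtain ⟨z, hz, hz1, hzz, hzc⟩ := exists_syl_inv hG hS
  have cop : ∀ {x a b : G}, x ≠ 1 → a ∈ 𝐂[x] → b ∈ 𝐂[x] → Two a → Odd (orderOf b) →
      b * a = a * b := fun {x a b} hx ha hb h2 h3 => by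
    obtain ⟨k, hk⟩ := (IsPGroup.iff_orderOf.mp h2) ⟨_, mem_zpowers _⟩
    rw [← Subgroup.orderOf_coe] at hk
    exact commute_of_coprime_of_mem_isNilpotent (hCN x hx) hb ha
      (hk ▸ Nat.Coprime.pow_right k (Nat.coprime_two_right.mpr h3))
  have hSz : S ≤ 𝐂[z] := fun s hs => mem_cent1.mpr (mem_cent.mp hzc s hs)
  have hyz : y ∈ 𝐂[z] := mem_cent1.mpr (cop ht1 (cent_le_cent1 (h1 (mem_zpowers t)) hzc)
    (mem_cent1'.mpr hty) (two_of_sq hzz) hy)
  have parts : ∀ {H : Subgroup G} {x : G}, (∀ a ∈ 𝐂[x], Two a → a ∈ H) →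
      (∀ b ∈ 𝐂[x], Odd (orderOf b) → b ∈ H) → 𝐂[x] ≤ H := fun {H x} h2 h3 g hg => by
    obtain ⟨u, hu, v, hv, e, -, ⟨k, hk⟩, h4⟩ := exists_p_part Nat.prime_two g
    rw [e]
    exact H.mul_mem (h2 u ((zpowers_le.mpr hg) hu) (IsPGroup.of_card (by rw [Nat.card_zpowers, hk])))
      (h3 v ((zpowers_le.mpr hg) hv) (Nat.coprime_two_right.mp h4))
  have c1 : ∀ x ∈ 𝐂[z], x ≠ 1 → Odd (orderOf x) → 𝐂[x] ≤ 𝐂[z] := fun x hx hx1 ho => by
    have h2 : S ≤ 𝐂[x] := fun s hs =>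
      mem_cent1'.mpr (cop hz1 (hSz hs) hx (two_of_mem hS.isPGroup hs) ho)
    exact parts (fun a ha h3 => hSz (H5.le_of_isSylowIn_of_isNilpotent (hS.mono h2 le_top)
      (hCN x hx1) h3 (zpowers_le.mpr ha) (mem_zpowers a)))
      fun b hb h3 => mem_cent1.mpr (cop hx1 (h2 hz) hb (two_of_sq hzz) h3)
  have c2 : ∀ x ∈ 𝐂[z], x ≠ 1 → 𝐂[x] ≤ 𝐂[z] := fun x hx hx1 => by
    rcases Nat.even_or_odd (orderOf x) with he | ho
    · obtain ⟨u, hu, h2, h3⟩ := Invol.exists_involution_mem_zpowers he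
      have h4 := (zpowers_le.mpr hx) hu
      have h5 : y ∈ 𝐂[u] := mem_cent1.mpr (cop hz1 h4 hyz (two_of_sq h3) hy)
      exact (cent1_le_cent1 hu).trans (parts
        (fun a ha h6 => c1 y hyz hy1 hy (mem_cent1'.mpr (cop h2 ha h5 h6 hy)))
        fun b hb h6 => mem_cent1.mpr (cop h2 (mem_cent1_comm.mp h4) hb (two_of_sq hzz) h6))
    · exact c1 x hx hx1 ho
  have hzc' : z ∈ 𝐂(𝐂[z]) := mem_cent.mpr fun k hk => mem_cent1.mp hk
  haveI := hCN z hz1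
  obtain ⟨u, hu⟩ := exists_zSetup (K := 𝐂[z]) hG ⟨fun x hx hx1 g hc => c2 x hx hx1 (mem_cent1.mpr hc),
    fun g hg x hx hc => by_contra fun e => hg (by
      have h2 : g * z * g⁻¹ ∈ 𝐂[z] := c2 _ hc (conj_ne_one_iff.mpr e)
        ((cent1_conj g x).ge (cj_mem (mem_cent1_comm.mp hx)))
      have h3 := c2 _ h2 (conj_ne_one_iff.mpr hz1)
      rw [cent1_conj] at h3
      exact mem_norm (eq_of_le_of_card_le h3 (card_map_conj g _).ge))⟩
    inferInstance (self_mem_cent1 z) hz1 hzz hzc'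
  exact hy1 (eq_one_of_two_of_odd (two_of_mem (zs_two hu) hyz) hy)

end CfsgLib.Cit
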