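import Cfsg.Agent.Lib.CIT.Big
import Cfsg.Agent.Lib.BSW.MaxCl
import Cfsg.Agent.Lib.GW.PslA
import Cfsg.Agent.Lib.H5SL2Tori

/-!
# The amalgam case with `q = 2`
-/

set_option autoImplicit false

namespace CfsgLib.Cit

open Subgroup Cfsg CfsgLib.FT.BGN CfsgLib.FT.U4 Matrix MatrixGroups

attribute [local instance] factTwo

section psl

variable {F : Type*} [Field F]

theorem trace_of_cube {Y : SL(2, F)} (h : Y ^ 3 = 1) (h1 : Y ≠ 1) : Y 0 0 + Y 1 1 = -1 := by
  by_contra h2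
  have hd := H1.SL2_det Y
  have e : Y * Y * Y = 1 := by rw [← h, pow_succ, sq]
  have e00 := congrArg (fun M : SL(2, F) => M 0 0) e
  have e01 := congrArg (fun M : SL(2, F) => M 0 1) e
  have e10 := congrArg (fun M : SL(2, F) => M 1 0) e
  have e11 := congrArg (fun M : SL(2, F) => M 1 1) e
  simp only [H1.SL2_mul_apply, GW.PA.one00, GW.PA.one01, GW.PA.one10, GW.PA.one11]
    at e00 e01 e10 e11
  apply h1
  apply H1.SL2_ext <;> simp only [GW.PA.one00, GW.PA.one01, GW.PA.one10, GW.PA.one11] <;> grind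

theorem psl_three (h2 : (2 : F) ≠ 0) (h3 : (3 : F) ≠ 0)
    {x y : ProjectiveSpecialLinearGroup (Fin 2) F} (hx : x ^ 3 = 1) (hx1 : x ≠ 1) (hy : y ^ 3 = 1)
    (hy1 : y ≠ 1) (h : y * x = x * y) : y = x ∨ y = x⁻¹ := by
  obtain ⟨X, rfl, hX⟩ := GW.PA.exists_odd_lift (by decide : Odd 3) hx
  obtain ⟨Y, rfl, hY⟩ := GW.PA.exists_odd_lift (by decide : Odd 3) hy
  have h4 := trace_of_cube hX fun e => hx1 (by rw [e, map_one])
  have h5 := trace_of_cube hY fun e => hy1 (by rw [e, map_one])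
  rcases H5.SL2_eq_or_eq_inv (fun e => h3 (by rw [h4] at e; linear_combination -e))
    (GW.PA.comm_of_piP_comm h2 (by decide : Odd 3) hX h).symm (h5.trans h4.symm) with e | e
  · exact Or.inl (by rw [e])
  · exact Or.inr (by rw [e, map_inv])

theorem dvd_card_of_cast [Fintype F] {r : ℕ} (hr : r.Prime) (h : (r : F) = 0) :
    r ∣ Fintype.card F := by
  haveI := Fact.mk hr
  exact addOrderOf_eq_prime (x := (1 : F)) (by rw [nsmul_one, h]) one_ne_zero ▸ addOrderOf_dvd_card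

theorem card_psl_dvd [Finite F] : Nat.card (ProjectiveSpecialLinearGroup (Fin 2) F) ∣
    Nat.card F * (Nat.card F ^ 2 - 1) :=
  SL2C.card_SL2 F ▸ card_dvd_of_surjective _ BSW.piP_surj

end psl

variable {G : Type*} [Group G] [Finite G] {P L : Subgroup G}

omit [Finite G] in
theorem eq_of_mem_zpowers {s x : G} (hs : s * s = 1) (hx : x ∈ zpowers s) : x = 1 ∨ x = s := by
  obtain ⟨i, rfl⟩ := hx
  rcases Int.even_or_odd' i with ⟨k, rfl | rfl⟩
  · exact Or.inl (by simp only [_root_.zpow_mul, zpow_two, hs, _root_.one_zpow])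
  · exact Or.inr (by
      simp only [_root_.zpow_add, _root_.zpow_mul, zpow_two, hs, _root_.one_zpow, zpow_one, one_mul])

theorem Half.exists_cent_four (h : Half P L 2) (hG : CIT G) {X : Type*} [Group X] [Finite X]
    (hX : IsPGroup 2 X) (f : X →* G) (hf : Function.Injective f) (hP : P ≤ f.range) :
    ∃ a : X, f a ∈ P ∧ Nat.card 𝐂[a] = 4 := by
  have h1 : Nat.card (P.comap f) = 2 ^ 2 := by
    rw [← card_map_of_injective hf, map_comap_eq_self hP, h.card]
  obtain ⟨a, ha, e⟩ := PGrp.exists_card_centralizer_eq_sq hX h1 fun x hx =>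
    h.cent_le hG (mem_cent.mpr fun p hp => by
      obtain ⟨y, rfl⟩ := hP hp
      rw [← map_mul, ← map_mul, mem_cent.mp hx y hp])
  exact ⟨a, ha, e ▸ h1⟩

theorem Amal.not_comm {q : ℕ} (h : Amal P L q) (hG : CIT G) {S : Subgroup G} (hS : P ⊔ L ≤ S) :
    ¬ IsMulCommutative S := fun hc => h.l.ne (le_trans (fun l hl => mem_cent.mpr fun p hp =>
      BSW.isMulCommutative_iff'.mp hc p (hS (mem_sup_left hp)) l (hS (mem_sup_right hl)))
        (h.l.cent_le hG))

theorem Amal.inv_mem_of_two (h : Amal P L 2) (hG : CIT G) (h0 : Loc (⊥ : Subgroup G))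
    {N : Subgroup G} [hN : N.Normal] (hT : P ⊔ L ≤ N) {s : G} (hss : s * s = 1) : s ∈ N := by
  by_contra hs
  obtain ⟨S, h1, hS⟩ := IsSylowIn.exists_ge h.l.syl.isPGroup (le_top : P ⊔ L ≤ ⊤)
  obtain ⟨a, -, ha⟩ := h.l.exists_cent_four hG hS.isPGroup S.subtype S.subtype_injective
    (by rw [range_subtype]; exact le_sup_left.trans h1)
  obtain ⟨n, x, y, hxy⟩ := PGrp.isDQSD_of_card_centralizer hS.isPGroup (h.not_comm hG h1) ha
  obtain ⟨z, hz, hz1, hzc⟩ := exists_OmZ_cent hS.isPGroup le_rfl le_normalizer fun e =>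
    h.l.ne_bot (le_bot_iff.mp (le_sup_left.trans (h1.trans e.le)))
  have h2 : 𝐂(S) ≤ N := fun c hc => hT (mem_sup_left (h.cent_T hG (centralizer_le h1 hc)).1)
  have h3 : ∀ c : S, c ∈ center S ↔ (c : G) ∈ 𝐂(S) := fun c => by
    rw [mem_center_iff, mem_cent]
    exact ⟨fun e g hg => congrArg Subtype.val (e ⟨g, hg⟩), fun e g => Subtype.ext (e g g.2)⟩
  have hs1 : s ≠ 1 := fun e => hs (e ▸ N.one_mem)
  refine hG.unique_syl h0 hS hzc hz.2.2 hz1 hss hs1 (fun g e => hs (e ▸ hN.conj_mem z (h2 hzc) g))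
    fun g k h4 h5 => ?_
  have h6 : g * s * g⁻¹ ∉ N := fun e => hs (by simpa [mul_assoc] using hN.conj_mem _ e g⁻¹)
  have h7 := Invol.conj_mul_self hss g
  have h8 := hN.conj_mem z (h2 hzc) k
  have h9 := conj_ne_one_iff (g := g) |>.mpr hs1
  generalize g * s * g⁻¹ = s' at *
  generalize k * z * k⁻¹ = u at *
  have o2 : ∀ w : S, (w : G) * w = 1 → (w : G) ≠ 1 → orderOf w = 2 := fun w e e' =>
    orderOf_eq_prime (Subtype.ext (by simpa [sq] using e)) fun e => e' (by simp [e])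
  have h10 : (⟨s', h4⟩ : S) ∉ zpowers x := fun e => h6 (by
    have h11 := (h3 ⟨z, hz.1⟩).mpr hzc
    rw [hxy.center_eq] at h11
    have := BSW.eq_of_mem_zpowers_of_sq e (zpowers_le.mpr (pow_mem (mem_zpowers x) _) h11)
      (o2 _ h7 h9) (o2 _ hz.2.2 hz1)
    rw [show s' = z from congrArg Subtype.val this]
    exact h2 hzc)
  have h11 : (⟨u, h5.1⟩ : S) ∈ 𝐂[(⟨s', h4⟩ : S)] := mem_cent1.mpr (Subtype.ext (mem_cent1.mp h5.2))
  rw [hxy.centralizer_eq h10] at h11
  obtain ⟨c, hc, w, hw, e⟩ := (mem_sup_iff_of_le_normalizer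
    ((center_le_centralizer _).trans (cent_le_norm _))).mp h11
  rcases eq_of_mem_zpowers (Subtype.ext h7) hw with rfl | rfl
  · rw [mul_one] at e
    exact (h3 _).mp (e ▸ hc)
  · have e' : (c : G) * s' = u := congrArg Subtype.val e
    exact absurd ((N.mul_mem_cancel_left (h2 ((h3 c).mp hc))).mp (e' ▸ h8)) h6

theorem Amal.index_le (h : Amal P L 2) (hG : CIT G) {N : Subgroup G} [hN : N.Normal]
    (hT : P ⊔ L ≤ N) : N.index ≤ 2 := by
  obtain ⟨z, hz, hz1⟩ := h.l.exists_mem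
  have hzz := h.l.sq z hz.1
  have hS := hG.isPGroup_cent (two_of_sq hzz) hz1
  have h1 : P ⊔ L ≤ 𝐂[z] := h.le_cent.trans (cent_le_cent1 hz)
  have h2 : 𝐂[z] ⊔ N = ⊤ := eq_top_iff.mpr fun g _ => by
    obtain ⟨n, hn, h2⟩ := h.frattini hG hT (mem_sup_left hz.1) hzz hz1 g
    simpa using mul_mem (mem_sup_right (S := 𝐂[z]) (N.inv_mem hn)) (mem_sup_left h2)
  rw [← relIndex_top_right, ← h2, relIndex_sup_right]
  generalize 𝐂[z] = S at *
  obtain ⟨a, ha, h3⟩ := h.l.exists_cent_four hG hS S.subtype S.subtype_injective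
    (by rw [range_subtype]; exact le_sup_left.trans h1)
  have h4 := PGrp.index_centralizer_le_card (a := a) (N := ⁅N.subgroupOf S, ⊤⁆) fun g =>
    commutator_mem_commutator (hT (mem_sup_left ha)) (mem_top g)
  have h5 : ⁅N.subgroupOf S, ⊤⁆ < N.subgroupOf S := by
    refine lt_of_le_of_ne (commutator_le_left _ _) fun e => ?_
    have := eq_bot_of_le_commutator_of_isNilpotent (hS.to_subgroup ⊤).isNilpotent le_top e.ge
    have h6 : (⟨z, h1 (mem_sup_left hz.1)⟩ : S) ∈ N.subgroupOf S := hT (mem_sup_left hz.1)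
    rw [this] at h6
    exact hz1 (congrArg Subtype.val (mem_bot.mp h6))
  have h6 := PGrp.mul_card_le_card_of_lt (hS.to_subgroup _) h5
  have h7 := card_mul_index 𝐂[a]
  have h8 := card_mul_index (N.subgroupOf S)
  have h9 : 0 < Nat.card (N.subgroupOf S) := Nat.card_pos
  rw [relIndex]
  nlinarith

theorem Amal.two (h : Amal P L 2) (hG : CIT G) (h0 : Loc (⊥ : Subgroup G)) :
    ∃ N : Subgroup G, N.Normal ∧ IsSimpleGroup N ∧ ∃ (F : Type) (_ : Field F) (_ : Fintype F),
      Nonempty (N ≃* ProjectiveSpecialLinearGroup (Fin 2) F) ∧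
        (N = ⊤ ∨ (N.index = 2 ∧ Fintype.card F = 9)) := by
  haveI := h.simple hG
  set N := normalClosure ((P ⊔ L : Subgroup G) : Set G)
  have hT : P ⊔ L ≤ N := le_normalClosure
  obtain ⟨Q, hQ⟩ := (h.l.syl.isPGroup.comap_subtype (K := N)).exists_le_sylow
  obtain ⟨a, -, ha⟩ := h.l.exists_cent_four hG Q.isPGroup' (N.subtype.comp (Q : Subgroup N).subtype)
    (N.subtype_injective.comp (Q : Subgroup N).subtype_injective) fun p hp =>
      ⟨⟨⟨p, hT (mem_sup_left hp)⟩, hQ (mem_sup_left hp : p ∈ P ⊔ L)⟩, rfl⟩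
  obtain ⟨F, _, _, hF, ⟨e⟩⟩ := BSW.psl_of_cent_eq_sylow (h.not_comm hG hT) Q (fun t ht h1 =>
    Q.is_maximal' ((hG.subgroup N).isPGroup_cent (two_of_sq (by rw [← sq, ← ht, pow_orderOf_eq_one]))
      (by rintro rfl; simp at ht)) h1) ha
  refine ⟨N, inferInstance, inferInstance, F, inferInstance, inferInstance, ⟨e⟩,
    or_iff_not_imp_left.mpr fun h1 => ⟨?_, by_contra fun h2 => ?_⟩⟩
  · have h2 := h.index_le hG hT
    have h3 := mt index_eq_one.mp h1
    have h4 := index_ne_zero_of_finite (H := N)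
    omega
  have h8 : 2 ^ 3 ∣ Nat.card (ProjectiveSpecialLinearGroup (Fin 2) F) := by
    rw [← h.card_T, ← Nat.card_congr e.toEquiv]; exact card_dvd_of_le hT
  have h9 := h8.trans card_psl_dvd
  rw [Nat.card_eq_fintype_card] at h9
  have hp : (Fintype.card F).Prime := by
    rcases hF with hF | hF | hF
    · rw [hF] at h9; norm_num at h9
    · exact absurd hF h2
    · exact hF.1
  have c2 : (2 : F) ≠ 0 := fun e => by
    rw [← (Nat.prime_dvd_prime_iff_eq Nat.prime_two hp).mp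
      (dvd_card_of_cast Nat.prime_two (by exact_mod_cast e))] at h9
    norm_num at h9
  have c3 : (3 : F) ≠ 0 := fun e => by
    rw [SL2C.card_PSL2 c2, Nat.card_eq_fintype_card, ← (Nat.prime_dvd_prime_iff_eq Nat.prime_three
      hp).mp (dvd_card_of_cast Nat.prime_three (by exact_mod_cast e))] at h8
    norm_num at h8
  haveI := Fact.mk Nat.prime_three
  obtain ⟨y, -, hy, hy1⟩ := h.l.three
  have hy3 : orderOf y = 3 := orderOf_eq_prime hy fun e => hy1 (by rw [e]; exact map_conj_one _)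
  obtain ⟨R, hR⟩ := IsSylowIn.exists_in (p := 3) N
  have hR0 := hR.ne_bot (hy3 ▸ N.orderOf_dvd_natCard (h.mem_of_odd hG hT (odd_of_cube hy)))
  obtain ⟨w, hw, hw3⟩ : ∃ w ∈ R ⊓ 𝐂(R), orderOf w = 3 := Frob.exists_orderOf_prime_mem _
    Nat.prime_three (((hR.isPGroup.to_le inf_le_left).card_eq_or_dvd).resolve_left fun e =>
      inf_centralizer_ne_bot_of_isNilpotent hR.isPGroup.isNilpotent le_rfl le_normalizer hR0
        (card_eq_one.mp e))
  obtain ⟨g, -, hg⟩ := SetLike.exists_of_lt (lt_top_iff_ne_top.mpr h1)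
  obtain ⟨k, hk, h3⟩ := hR.frattini_elem (g := g) (by rw [normalizer_eq_top]; exact mem_top _)
  have h4 : k * g ∉ N := fun e => hg ((N.mul_mem_cancel_left hk).mp e)
  generalize k * g = x at h3 h4
  have hw1 : w ≠ 1 := by rintro rfl; simp at hw3
  have hw4 : w ^ 3 = 1 := hw3 ▸ pow_orderOf_eq_one w
  have h5 := cmem h3 hw.1
  have h6 : x * w * x⁻¹ = w ∨ x * w * x⁻¹ = w⁻¹ := by
    have := psl_three c2 c3 (x := e ⟨w, hR.le hw.1⟩) (y := e ⟨_, hR.le h5⟩)
      (by rw [← map_pow, map_eq_one_iff _ e.injective]; exact Subtype.ext hw4)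
      (by rw [Ne, map_eq_one_iff _ e.injective]; exact fun e => hw1 (congrArg Subtype.val e))
      (by rw [← map_pow, map_eq_one_iff _ e.injective]
          exact Subtype.ext (by simp only [SubmonoidClass.mk_pow, conj_pow, hw4]; simp))
      (by rw [Ne, map_eq_one_iff _ e.injective]
          exact fun e => conj_ne_one_iff.mpr hw1 (congrArg Subtype.val e))
      (by rw [← map_mul, ← map_mul]; exact congrArg e (Subtype.ext (mem_cent.mp hw.2 _ h5)))
    rw [← map_inv] at this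
    exact this.imp (fun e' => congrArg Subtype.val (e.injective e'))
      fun e' => congrArg Subtype.val (e.injective e')
  have h7 : Two x := (hG.two_or_odd x).resolve_right fun e => h4 (h.mem_of_odd hG hT e)
  refine h4 (h.inv_mem_of_two hG h0 hT (hG.fpf h7 (odd_of_cube hw4) hw1 _
    (mul_mem (mem_zpowers x) (mem_zpowers x)) ?_))
  calc x * x * w = x * (x * w * x⁻¹) * x⁻¹ * (x * x) := by group
    _ = _ := by
      rcases h6 with h6 | h6
      · rw [h6, h6]
      · rw [h6, ← conj_inv, h6, inv_inv]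

end CfsgLib.Cit
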